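import Cfsg.Agent.OddHalf.D7TwF4.Defs
import Cfsg.Agent.KFacts.TwF4.TorFix
import Cfsg.Agent.KFacts.TwF4.SylU
import Cfsg.Agent.KFacts.TwF4.TorEx

/-!
# ODD D7, `K = ²F₄(q)`, section 2a (helper544; text: bb ODD 13028, 2.2): `[W_{2a}, W_{2a+4}] = 1`

* `CE` : the elements `f` centralising `i Q1` and `W_4` with `[f, t] ∈ i Q2` (`Q1 = X_4 Q2`, `Q2 = Z_2 X_3 Z_4 X_5 Z_6`);
  `CE.ker` : `C(t) ∩ CE = i Q2`.
* `comm_two` : `[W a, W (a + 2)] = 1`.
-/

set_option autoImplicit false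
set_option linter.unusedSectionVars false

namespace Cfsg.Agent.OddHalf.D7TwF4.Fab

open Cfsg.Agent.KFacts.TwF4 Cfsg.Agent.Octagon.Pkg Cfsg.Agent.SplitTwo.ZS Cfsg.Agent.OddHalf.D7TwF4.Defs

universe u v w

variable {F : Type w} [Field F] {σ : F →+* F} {Y : Type u} [Group Y] {G : Type v} [Group G]
variable {S : Full σ Y} {i : Y →* G} {t : G} {W : ℤ → Subgroup G}

/-! ### basic facts -/

theorem ti_inv (P : Pos S i t) (y : Y) : t * (i y)⁻¹ = (i y)⁻¹ * t := by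
  have := P.ti y⁻¹
  rwa [map_inv] at this

/-- conjugation by `t` of a conjugate by `i y` -/
theorem t_conj (P : Pos S i t) (y : Y) (f : G) : t * (i y * f * (i y)⁻¹) * t = i y * (t * f * t) * (i y)⁻¹ := by
  calc t * (i y * f * (i y)⁻¹) * t = (t * i y) * f * ((i y)⁻¹ * t) := by group
    _ = i y * (t * f * t) * (i y)⁻¹ := by rw [P.ti, ← ti_inv P]; group

theorem t_mul (P : Pos S i t) (a b : G) : t * (a * b) * t = (t * a * t) * (t * b * t) := by
  calc t * (a * b) * t = t * a * 1 * b * t := by group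
    _ = t * a * (t * t) * b * t := by rw [P.tt]
    _ = _ := by group

theorem t_inv' (P : Pos S i t) (a : G) : t * a⁻¹ * t = (t * a * t)⁻¹ := by
  rw [mul_inv_rev, mul_inv_rev, P.t_inv]; group

/-- `W a` centralises `i X_k`, `|k - 2a| ≤ 4` -/
theorem W_J (P : Pos S i t) (D : WData S i t W) {a : ℤ} {w : G} (hw : w ∈ W a) {y : Y}
    (hy : y ∈ J S.XZ (2 * a - 4) (2 * a + 4)) : w * i y = i y * w := by
  have := P.finF
  refine D.cent hw fun z hz => ?_
  by_cases hz1 : z = 1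
  · subst hz1; rw [mul_one, one_mul]
  · have h := S.centralizer_Zc a hz hz1
    rw [← h] at hy
    exact Subgroup.mem_centralizer_singleton_iff.1 hy

theorem W1_J (P : Pos S i t) (D : WData S i t W) {w : G} (hw : w ∈ W 1) {y : Y}
    (hy : y ∈ J S.XZ (-2) 6) : w * i y = i y * w := W_J P D hw (by norm_num; exact hy)

theorem W2_J (P : Pos S i t) (D : WData S i t W) {w : G} (hw : w ∈ W 2) {y : Y}
    (hy : y ∈ J S.XZ 0 8) : w * i y = i y * w := W_J P D hw (by norm_num; exact hy)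

theorem W3_J (P : Pos S i t) (D : WData S i t W) {w : G} (hw : w ∈ W 3) {y : Y}
    (hy : y ∈ J S.XZ 2 10) : w * i y = i y * w := W_J P D hw (by norm_num; exact hy)

/-- an element of `W a` commuting with `t` lies in `i Z_{2a}` -/
theorem W_fix (P : Pos S i t) (D : WData S i t W) {a : ℤ} {w : G} (hw : w ∈ W a) (h : t * w * t = w) :
    ∃ z ∈ S.Zc (a : ZMod 8), w = i z := by
  have := P.finF
  have hwt : w * t = t * w := by
    calc w * t = (t * w * t) * t := by rw [h]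
      _ = t * w * (t * t) := by group
      _ = t * w := by rw [P.tt, mul_one]
  obtain ⟨y, hy, hw'⟩ := P.lift (A := (J S.XZ (2 * a - 4) (2 * a + 4) : Set Y)) (a := a)
    (fun z hz => mem_J (S.Zc_le a hz) (by omega) (by omega)) hwt (fun y hy => W_J P D hw hy)
  have hyZ : y ∈ S.Zc (a : ZMod 8) := by
    rw [← S.centralizer_J a, Subgroup.mem_centralizer_iff]
    rw [Subgroup.mem_centralizer_iff] at hy
    exact fun x hx => hy x (J_mono (by omega) (by omega) hx)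
  rcases hw' with h1 | h1
  · exact ⟨y, hyZ, h1⟩
  · exact absurd ⟨y, hyZ, h1⟩ (D.notMem hw)

/-- elements of `W a` with the same `[·, t]` differ by an element of `i Z_{2a}` -/
theorem W_eq (P : Pos S i t) (D : WData S i t W) {a : ℤ} {w w' : G} (hw : w ∈ W a) (hw' : w' ∈ W a) {z : Y}
    (hz : z ∈ S.Zc (a : ZMod 8)) (h : t * w * t = w * i z) (h' : t * w' * t = w' * i z) :
    ∃ z' ∈ S.Zc (a : ZMod 8), w' = w * i z' := by
  have hiz : ∀ w ∈ W a, w * i z = i z * w := fun w hw => W_J P D hw (mem_J (S.Zc_le a hz) (by omega) (by omega))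
  obtain ⟨z', hz', e⟩ := W_fix P D (mul_mem (inv_mem hw) hw') (by
    rw [t_mul P, t_inv' P, h, h', mul_inv_rev, hiz w' hw']
    have h2 : (i z)⁻¹ * w⁻¹ * (i z * w') = w⁻¹ * w' := by
      have h3 := hiz w⁻¹ (inv_mem hw)
      have h4 : (i z)⁻¹ * w⁻¹ = w⁻¹ * (i z)⁻¹ := by
        calc (i z)⁻¹ * w⁻¹ = (i z)⁻¹ * (w⁻¹ * i z) * (i z)⁻¹ := by group
          _ = w⁻¹ * (i z)⁻¹ := by rw [h3]; group
      rw [h4]; group
    exact h2)
  exact ⟨z', hz', by rw [← e]; group⟩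

/-- torus elements have odd order: an element of `T` with trivial square is trivial -/
theorem T_sq (P : Pos S i t) {y : Y} (hy : y ∈ S.T) (h : y * y = 1) : y = 1 := by
  have := P.finF
  obtain ⟨c, d, rfl⟩ := S.mem_T.1 hy
  obtain ⟨rfl, rfl⟩ := SylU.torus_two S (c := c) (d := d) (k := 1) (by rw [pow_one, pow_two]; exact h)
  exact S.h_one

/-- every element of `T_k` is a square in `T_k` -/
theorem T_sqrt (P : Pos S i t) {k : ℤ} {y : Y} (hy : y ∈ S.Tk k) : ∃ x ∈ S.Tk k, x * x = y := by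
  have := P.finG
  have hfY : Finite Y := Finite.of_injective i P.inj
  let f : S.Tk k → S.Tk k := fun x => x * x
  have hf : Function.Injective f := by
    rintro ⟨a, ha⟩ ⟨b, hb⟩ hab
    have h1 : a * a = b * b := congrArg Subtype.val hab
    have h2 := S.T_comm ha.1 hb.1
    have h3 : (a * b⁻¹) * (a * b⁻¹) = 1 := by
      have h4 : b⁻¹ * a = a * b⁻¹ := by
        calc b⁻¹ * a = b⁻¹ * (a * b) * b⁻¹ := by group
          _ = a * b⁻¹ := by rw [h2]; group
      calc (a * b⁻¹) * (a * b⁻¹) = a * (b⁻¹ * a) * b⁻¹ := by group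
        _ = (a * a) * b⁻¹ * b⁻¹ := by rw [h4]; group
        _ = 1 := by rw [h1]; group
    have h5 := T_sq P (mul_mem ha.1 (inv_mem hb.1)) h3
    exact Subtype.ext (mul_inv_eq_one.1 h5)
  obtain ⟨x, hx⟩ := Finite.surjective_of_injective hf ⟨y, hy⟩
  exact ⟨x, x.2, congrArg Subtype.val hx⟩

/-- the torus normalises the centres -/
theorem T_Zc {y : Y} (hy : y ∈ S.T) (a : ZMod 8) (z : Y) : z ∈ S.Zc a ↔ y * z * y⁻¹ ∈ S.Zc a := by
  refine ⟨fun hz => S.T_conj_Zc hy hz, fun hz => ?_⟩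
  have := S.T_conj_Zc (inv_mem hy) hz
  have e : y⁻¹ * (y * z * y⁻¹) * y⁻¹⁻¹ = z := by group
  rwa [e] at this

/-- the torus normalises `W a` -/
theorem W_T (P : Pos S i t) (D : WData S i t W) {a : ℤ} {w : G} (hw : w ∈ W a) {y : Y} (hy : y ∈ S.T) :
    i y * w * (i y)⁻¹ ∈ W a := D.conj P.ti (T_Zc hy _) hw

/-- `T_{2a}` centralises `W a` -/
theorem W_Tk (P : Pos S i t) (D : WData S i t W) {a : ℤ} {w : G} (hw : w ∈ W a) {y : Y} (hy : y ∈ S.Tk (2 * a)) :
    i y * w = w * i y := by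
  obtain ⟨x, hx, rfl⟩ := T_sqrt P hy
  obtain ⟨z, hz, h1⟩ := D.comm hw
  have hxz : ∀ z ∈ S.Zc (a : ZMod 8), x * z * x⁻¹ = z := fun z hz => by
    rw [S.Tk_comm hx (S.Zc_le a hz)]; group
  have hw1 := W_T P D hw hx.1
  obtain ⟨z', hz', h2⟩ := W_eq P D hw hw1 hz h1 (by
    rw [t_conj P, h1]
    have : i x * (w * i z) * (i x)⁻¹ = i x * w * (i x)⁻¹ * i (x * z * x⁻¹) := by
      rw [map_mul, map_mul, map_inv]; group
    rw [this, hxz z hz])
  have hzz : z' * z' = 1 := by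
    obtain ⟨u, rfl⟩ := hz'
    have h3 : u + u = 0 := by rw [← two_mul, S.two, zero_mul]
    rw [S.e_mul, zero_mul, add_zero, add_zero, h3]
    exact S.e_zero _
  rw [map_mul]
  calc i x * i x * w = i x * (i x * w * (i x)⁻¹) * i x := by group
    _ = i x * (w * i z') * i x := by rw [h2]
    _ = (i x * w * (i x)⁻¹) * (i x * i z' * (i x)⁻¹) * i x * i x := by group
    _ = (w * i z') * i (x * z' * x⁻¹) * i x * i x := by rw [h2, map_mul, map_mul, map_inv]
    _ = w * (i z' * i z') * i x * i x := by rw [hxz z' hz']; group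
    _ = w * (i x * i x) := by rw [← map_mul i z' z', hzz, map_one]; group

/-! ### The lemma (K') -/

/-- `B` finite, `h` fixed point free on `B`, `x` commutes with `h`, `[B, x] ⊆ C`, `h` trivial on `C R / R`: then
`[B, x] ⊆ R`. -/
theorem kprime {B R : Subgroup G} [Finite B] {h x : G} {C : Set G} (hB : ∀ b ∈ B, h * b * h⁻¹ ∈ B)
    (hf : ∀ b ∈ B, h * b * h⁻¹ = b → b = 1) (hx : h * x = x * h) (nB : ∀ b ∈ B, ∀ r ∈ R, b⁻¹ * r * b ∈ R)
    (hC : ∀ b ∈ B, b * x * b⁻¹ * x⁻¹ ∈ C) (hR : ∀ c ∈ C, h * c * h⁻¹ * c⁻¹ ∈ R) :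
    ∀ b ∈ B, b * x * b⁻¹ * x⁻¹ ∈ R := by
  let f : B → B := fun b => ⟨(b : G)⁻¹ * (h * b * h⁻¹), mul_mem (inv_mem b.2) (hB b b.2)⟩
  have hinj : Function.Injective f := by
    rintro ⟨a, ha⟩ ⟨b, hb⟩ hab
    have h1 : a⁻¹ * (h * a * h⁻¹) = b⁻¹ * (h * b * h⁻¹) := congrArg Subtype.val hab
    have h2 := hf (b * a⁻¹) (mul_mem hb (inv_mem ha)) (by
      calc h * (b * a⁻¹) * h⁻¹ = (h * b * h⁻¹) * (h * a * h⁻¹)⁻¹ := by group
        _ = b * (b⁻¹ * (h * b * h⁻¹)) * (h * a * h⁻¹)⁻¹ := by group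
        _ = b * (a⁻¹ * (h * a * h⁻¹)) * (h * a * h⁻¹)⁻¹ := by rw [h1]
        _ = b * a⁻¹ := by group)
    exact Subtype.ext (mul_inv_eq_one.1 h2).symm
  intro b hb
  obtain ⟨⟨b0, hb0⟩, hb1⟩ := Finite.surjective_of_injective hinj ⟨b, hb⟩
  have hb2 : b0⁻¹ * (h * b0 * h⁻¹) = b := congrArg Subtype.val hb1
  have hxh : h * x * h⁻¹ = x := by rw [hx]; group
  set c := b0 * x * b0⁻¹ * x⁻¹ with hc
  have h3 := nB b0 hb0 _ (hR c (hC b0 hb0))
  have e : b * x * b⁻¹ * x⁻¹ = b0⁻¹ * (h * c * h⁻¹ * c⁻¹) * b0 := by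
    rw [← hb2, hc]
    calc b0⁻¹ * (h * b0 * h⁻¹) * x * (b0⁻¹ * (h * b0 * h⁻¹))⁻¹ * x⁻¹
        = b0⁻¹ * (h * b0 * h⁻¹) * x * (h * b0⁻¹ * h⁻¹) * b0 * x⁻¹ := by group
      _ = b0⁻¹ * (h * b0 * h⁻¹) * (h * x * h⁻¹) * (h * b0⁻¹ * h⁻¹) * (h * x * h⁻¹)⁻¹ * (x * b0 * x⁻¹) := by
          rw [hxh]; group
      _ = _ := by group
  rw [e]
  exact h3


/-! ### `Q1` and `Q2` in `Y` -/

theorem Q2_Q1 : S.Q2 ≤ S.Q1 := le_sup_right

theorem Q2_conj {g y : Y} (hg : g ∈ S.PL) (hy : y ∈ S.Q2) : g * y * g⁻¹ ∈ S.Q2 :=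
  (Subgroup.mem_normalizer_iff.1 (S.Q2_norm hg) y).1 hy

theorem Q1_conj {g y : Y} (hg : g ∈ S.PL) (hy : y ∈ S.Q1) : g * y * g⁻¹ ∈ S.Q1 := by
  rw [← S.centralizer_Q2, Subgroup.mem_centralizer_iff] at hy ⊢
  intro x hx
  have h1 := hy _ (Q2_conj (inv_mem hg) hx)
  calc x * (g * y * g⁻¹) = g * ((g⁻¹ * x * g⁻¹⁻¹) * y) * g⁻¹ := by group
    _ = g * y * g⁻¹ * x := by rw [h1]; group

theorem Z4_Q2 {z : Y} (hz : z ∈ S.Zc 2) : z ∈ S.Q2 := by
  obtain ⟨u, rfl⟩ := hz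
  exact S.q2_3 u

theorem X4_Q1 (p u : F) : S.e 2 p u ∈ S.Q1 := Subgroup.mem_sup_left (S.mX4 p u)

/-- `C_{Q1}(X_4) = Q2` -/
theorem mem_Q2 (P : Pos S i t) {y : Y} (hy : y ∈ S.Q1) (hc : ∀ p, y * S.e 2 p 0 = S.e 2 p 0 * y) : y ∈ S.Q2 := by
  have := P.finF
  obtain ⟨x, hx, q, hq, rfl⟩ := Cfsg.Agent.SplitTwo.ZS.mem_sup_of_norm (A := S.XZ 4) (B := S.Q2) (fun x hx q hq =>
    Q2_conj (mem_J hx (by norm_num) (by norm_num)) hq) hy
  obtain ⟨p, u, rfl⟩ := S.X4 hx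
  have h1 : ∀ r, S.e 2 p u * S.e 2 r 0 = S.e 2 r 0 * S.e 2 p u := by
    intro r
    have h2 := hc r
    have h3 := S.Q1_comm (X4_Q1 r 0) hq
    rw [mul_assoc, ← h3, ← mul_assoc, ← mul_assoc] at h2
    exact mul_right_cancel h2
  have h2 : ∀ r, p * σ r = r * σ p := by
    intro r
    have h3 := h1 r
    rw [S.e_mul, S.e_mul] at h3
    have h4 := (S.injE _ _ _ _ _ h3).2
    rw [add_zero, zero_add] at h4
    exact add_left_cancel h4
  have hp : p = 0 := by
    by_contra hp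
    have h3 : ∀ r, σ r = r := by
      intro r
      have h4 := h2 1
      rw [map_one, mul_one, one_mul] at h4
      have h5 := h2 r
      rw [← h4, mul_comm r p] at h5
      exact mul_left_cancel₀ hp h5
    have h4 : ∀ r : F, r = 0 ∨ r = 1 := by
      intro r
      have h5 := S.sq r
      rw [h3, h3, pow_two] at h5
      rcases eq_or_ne r 0 with h6 | h6
      · exact Or.inl h6
      · exact Or.inr (mul_left_cancel₀ h6 (by rw [mul_one]; exact h5.symm))
    have h5 : Nat.card F ≤ 2 := by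
      classical
      have : Fintype F := Fintype.ofFinite F
      rw [Nat.card_eq_fintype_card, ← Finset.card_univ]
      calc (Finset.univ : Finset F).card ≤ ({0, 1} : Finset F).card := Finset.card_le_card fun r _ => by
            rcases h4 r with h | h <;> simp [h]
        _ ≤ 2 := Finset.card_le_two
    have := P.big
    omega
  subst hp
  exact mul_mem (S.q2_3 u) hq

/-! ### The group `CE` -/

/-- the elements centralising `Q1` and `W_4`, with `[f, t] ∈ Q2` -/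
def CE (P : Pos S i t) (W : ℤ → Subgroup G) : Subgroup G where
  carrier := {f | (∀ y ∈ S.Q1, f * i y = i y * f) ∧ (∀ w ∈ W 2, f * w = w * f) ∧ ∃ y ∈ S.Q2, t * f * t = f * i y}
  one_mem' := ⟨fun y _ => by rw [one_mul, mul_one], fun w _ => by rw [one_mul, mul_one], 1, one_mem _, by
    rw [mul_one, P.tt, map_one, mul_one]⟩
  mul_mem' := by
    rintro a b ⟨ha1, ha2, y, hy, ha3⟩ ⟨hb1, hb2, y', hy', hb3⟩
    refine ⟨fun y hy => ?_, fun w hw => ?_, y * y', mul_mem hy hy', ?_⟩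
    · rw [mul_assoc, hb1 y hy, ← mul_assoc, ha1 y hy, mul_assoc]
    · rw [mul_assoc, hb2 w hw, ← mul_assoc, ha2 w hw, mul_assoc]
    · rw [t_mul P, ha3, hb3, map_mul]
      calc a * i y * (b * i y') = a * (i y * b) * i y' := by group
        _ = a * b * (i y * i y') := by rw [← hb1 y (Q2_Q1 hy)]; group
  inv_mem' := by
    rintro a ⟨ha1, ha2, y, hy, ha3⟩
    have key : ∀ x : G, a * x = x * a → a⁻¹ * x = x * a⁻¹ := fun x hx => by
      calc a⁻¹ * x = a⁻¹ * (x * a) * a⁻¹ := by group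
        _ = x * a⁻¹ := by rw [← hx]; group
    refine ⟨fun y hy => key _ (ha1 y hy), fun w hw => key _ (ha2 w hw), y⁻¹, inv_mem hy, ?_⟩
    rw [t_inv' P, ha3, mul_inv_rev, map_inv]
    exact (key _ (ha1 y (Q2_Q1 hy)) |> fun h => by
      calc (i y)⁻¹ * a⁻¹ = (i y)⁻¹ * (a⁻¹ * i y) * (i y)⁻¹ := by group
        _ = a⁻¹ * (i y)⁻¹ := by rw [h]; group)

theorem mem_CE (P : Pos S i t) {f : G} : f ∈ CE P W ↔ (∀ y ∈ S.Q1, f * i y = i y * f) ∧ (∀ w ∈ W 2, f * w = w * f) ∧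
    ∃ y ∈ S.Q2, t * f * t = f * i y := Iff.rfl

/-- `PL` normalises `CE` -/
theorem CE_conj (P : Pos S i t) (D : WData S i t W) {g : Y} (hg : g ∈ S.PL) {f : G} (hf : f ∈ CE P W) :
    i g * f * (i g)⁻¹ ∈ CE P W := by
  obtain ⟨h1, h2, y, hy, h3⟩ := hf
  refine ⟨fun x hx => ?_, fun w hw => ?_, g * y * g⁻¹, Q2_conj hg hy, ?_⟩
  · have h4 := h1 _ (Q1_conj (inv_mem hg) hx)
    rw [inv_inv, map_mul, map_mul, map_inv] at h4
    calc i g * f * (i g)⁻¹ * i x = i g * (f * ((i g)⁻¹ * i x * i g)) * (i g)⁻¹ := by group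
      _ = i x * (i g * f * (i g)⁻¹) := by rw [h4]; group
  · have h4 := W2_J P D hw (y := g) hg
    have h5 : (i g)⁻¹ * w = w * (i g)⁻¹ := by
      calc (i g)⁻¹ * w = (i g)⁻¹ * (w * i g) * (i g)⁻¹ := by group
        _ = w * (i g)⁻¹ := by rw [h4]; group
    calc i g * f * (i g)⁻¹ * w = i g * (f * ((i g)⁻¹ * w)) := by group
      _ = i g * (f * w) * (i g)⁻¹ := by rw [h5]; group
      _ = (i g * w) * f * (i g)⁻¹ := by rw [h2 w hw]; group
      _ = w * (i g * f * (i g)⁻¹) := by rw [← h4]; group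
  · rw [t_conj P, h3, map_mul, map_mul, map_inv]; group

theorem CE_conj' (P : Pos S i t) (D : WData S i t W) {g : Y} (hg : g ∈ S.PL) {f : G} (hf : f ∈ CE P W) :
    (i g)⁻¹ * f * i g ∈ CE P W := by
  have := CE_conj P D (inv_mem hg) hf
  rwa [map_inv, inv_inv] at this

/-- `W_4` is not centralised by `t` -/
theorem exists_W2 (P : Pos S i t) (D : WData S i t W) : ∃ w ∈ W 2, t * w ≠ w * t := by
  obtain ⟨w, hw, h⟩ := D.sur 2 (S.e 2 0 1) ⟨1, rfl⟩
  refine ⟨w, hw, fun h1 => ?_⟩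
  rw [h1, mul_assoc, P.tt, mul_one] at h
  have h2 : i (S.e 2 0 1) = 1 := by
    have : w * 1 = w * i (S.e 2 0 1) := by rw [mul_one]; exact h
    exact (mul_left_cancel this).symm
  have h3 : S.e 2 0 1 = 1 := P.inj (by rw [h2, map_one])
  exact one_ne_zero (S.e_eq_one h3).2

/-- `C(t) ∩ CE = i Q2` -/
theorem CE_ker (P : Pos S i t) (D : WData S i t W) {f : G} (hf : f ∈ CE P W) (h : t * f * t = f) :
    ∃ y ∈ S.Q2, f = i y := by
  obtain ⟨h1, h2, -⟩ := hf
  have hft : f * t = t * f := by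
    calc f * t = (t * f * t) * t := by rw [h]
      _ = t * f * (t * t) := by group
      _ = t * f := by rw [P.tt, mul_one]
  obtain ⟨y, hy, hfy⟩ := P.lift (A := (S.Q1 : Set Y)) (a := 2) (fun z hz => Q2_Q1 (Z4_Q2 (by simpa using hz))) hft h1
  rw [Subgroup.mem_centralizer_iff] at hy
  have hyQ1 : y ∈ S.Q1 := by
    rw [← S.centralizer_Q2, Subgroup.mem_centralizer_iff]
    exact fun x hx => hy x (Q2_Q1 hx)
  have hyQ2 : y ∈ S.Q2 := mem_Q2 P hyQ1 fun p => (hy _ (X4_Q1 p 0)).symm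
  rcases hfy with h3 | h3
  · exact ⟨y, hyQ2, h3⟩
  · exfalso
    obtain ⟨w, hw, hw1⟩ := exists_W2 P D
    apply hw1
    have h4 : w * i y = i y * w := W2_J P D hw (J_mono (by norm_num) (by norm_num) (S.Q1_le_J hyQ1))
    have h5 := h2 w hw
    rw [h3] at h5
    have h6 : (t * w) * i y = (w * t) * i y := by
      calc (t * w) * i y = t * (w * i y) := by group
        _ = (t * i y) * w := by rw [h4]; group
        _ = (w * t) * i y := by rw [h5]; group
    exact mul_right_cancel h6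

theorem W1_CE (P : Pos S i t) (D : WData S i t W) {w : G} (hw : w ∈ W 1) : w ∈ CE P W := by
  refine ⟨fun y hy => W1_J P D hw (J_mono (by norm_num) (by norm_num) (S.Q1_le_J hy)), fun w' hw' => ?_, ?_⟩
  · exact D.one 1 w hw w' hw'
  · obtain ⟨z, hz, h⟩ := D.comm hw
    obtain ⟨u, rfl⟩ := hz
    exact ⟨_, by simpa using S.q2_1 u, h⟩

theorem W2_CE (P : Pos S i t) (D : WData S i t W) {w : G} (hw : w ∈ W 2) : w ∈ CE P W := by
  refine ⟨fun y hy => W2_J P D hw (J_mono (by norm_num) (by norm_num) (S.Q1_le_J hy)), fun w' hw' => D.ab hw hw', ?_⟩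
  obtain ⟨z, hz, h⟩ := D.comm hw
  obtain ⟨u, rfl⟩ := hz
  exact ⟨_, by simpa using S.q2_3 u, h⟩

theorem W3_CE (P : Pos S i t) (D : WData S i t W) {w : G} (hw : w ∈ W 3) : w ∈ CE P W := by
  refine ⟨fun y hy => W3_J P D hw (J_mono (by norm_num) (by norm_num) (S.Q1_le_J hy)), fun w' hw' => ?_, ?_⟩
  · exact (D.one 2 w' hw' w hw).symm
  · obtain ⟨z, hz, h⟩ := D.comm hw
    obtain ⟨u, rfl⟩ := hz
    exact ⟨_, by simpa using S.q2_5 u, h⟩

/-- elements of `CE` with the same `[·, t]` modulo `Z_4` -/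
theorem CE_eq (P : Pos S i t) (D : WData S i t W) {f f' : G} (hf : f ∈ CE P W) (hf' : f' ∈ CE P W) {y : Y}
    (hy : y ∈ S.Q2) {v : F} (h : t * f * t = f * i y) (h' : t * f' * t = f' * i (y * S.e 2 0 v)) :
    ∃ y' ∈ S.Q2, ∃ w ∈ W 2, f' = f * i y' * w := by
  obtain ⟨w, hw, hwt⟩ := D.sur 2 (S.e 2 0 v) ⟨v, rfl⟩
  have hwC := W2_CE P D hw
  have c1 := hf.1 y (Q2_Q1 hy)
  have c2 := hf'.1 y (Q2_Q1 hy)
  have c3 := hf'.1 _ (Q2_Q1 (S.q2_3 v))
  have c4 := hwC.1 _ (Q2_Q1 (S.q2_3 v))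
  obtain ⟨y', hy', e⟩ := CE_ker P D (mul_mem (mul_mem (inv_mem hf) hf') (inv_mem hwC)) (by
    rw [t_mul P, t_mul P, t_inv' P, t_inv' P, h, h', hwt, map_mul, mul_inv_rev, mul_inv_rev]
    have d1 : (i y)⁻¹ * f⁻¹ = f⁻¹ * (i y)⁻¹ := by rw [← mul_inv_rev, ← mul_inv_rev, c1]
    have d4 : (i (S.e 2 0 v))⁻¹ * w⁻¹ = w⁻¹ * (i (S.e 2 0 v))⁻¹ := by rw [← mul_inv_rev, ← mul_inv_rev, c4]
    calc (i y)⁻¹ * f⁻¹ * (f' * (i y * i (S.e 2 0 v))) * ((i (S.e 2 0 v))⁻¹ * w⁻¹)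
        = (i y)⁻¹ * f⁻¹ * (f' * i y) * w⁻¹ := by group
      _ = f⁻¹ * (i y)⁻¹ * (i y * f') * w⁻¹ := by rw [d1, c2]
      _ = f⁻¹ * f' * w⁻¹ := by group)
  exact ⟨y', hy', w, hw, by rw [← e]; group⟩


/-! ### The elements of `CE` over `X_3` and `X_5` -/

theorem conj28a (S : Full σ Y) (u q : F) : (S.e 4 q 0)⁻¹ * S.e 1 0 u * S.e 4 q 0 =
    S.e 1 0 u * (S.o 1 (u * q) * S.e 2 0 (σ u * q * σ q) * S.e 3 0 (u * q * q * σ q)) := by
  have h := S.rel.r28 0 u q 0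
  simp only [map_zero, zero_mul, mul_zero, add_zero, zero_add, S.o_zero, mul_one] at h
  calc (S.e 4 q 0)⁻¹ * S.e 1 0 u * S.e 4 q 0 = (S.e 4 q 0)⁻¹ * (S.e 1 0 u * S.e 4 q 0) := by group
    _ = _ := by rw [h]; group

theorem conj28b (S : Full σ Y) (u v : F) : (S.e 4 0 v)⁻¹ * S.e 1 0 u * S.e 4 0 v =
    S.e 1 0 u * (S.e 2 0 (σ u * v) * S.o 2 (u * v) * S.e 3 0 (u * σ v)) := by
  have h := S.rel.r28 0 u 0 v
  simp only [map_zero, zero_mul, mul_zero, add_zero, zero_add, S.o_zero, mul_one] at h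
  calc (S.e 4 0 v)⁻¹ * S.e 1 0 u * S.e 4 0 v = (S.e 4 0 v)⁻¹ * (S.e 1 0 u * S.e 4 0 v) := by group
    _ = _ := by rw [h]; group

theorem two_zero (S : Full σ Y) (x : F) : x + x = 0 := by rw [← two_mul, S.two, zero_mul]

theorem zz (S : Full σ Y) (a : ZMod 8) (u : F) : S.e a 0 u * S.e a 0 u = 1 := by
  rw [S.e_mul, zero_mul, add_zero, add_zero, two_zero S]
  exact S.e_zero _

theorem X8_PL (q v : F) : S.e 4 q v ∈ S.PL := mem_J (S.mX8 q v) (by norm_num) (by norm_num)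

/-- a unit `≠ 1` -/
theorem exists_unit (P : Pos S i t) : ∃ ω : Fˣ, ω ≠ 1 := by
  have := P.finF
  by_contra hcon
  push Not at hcon
  have h4 : ∀ r : F, r = 0 ∨ r = 1 := by
    intro r
    rcases eq_or_ne r 0 with h6 | h6
    · exact Or.inl h6
    · exact Or.inr (congrArg Units.val (hcon (Units.mk0 r h6)))
  have h5 : Nat.card F ≤ 2 := by
    classical
    have : Fintype F := Fintype.ofFinite F
    rw [Nat.card_eq_fintype_card, ← Finset.card_univ]
    calc (Finset.univ : Finset F).card ≤ ({0, 1} : Finset F).card := Finset.card_le_card fun r _ => by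
          rcases h4 r with h | h <;> simp [h]
      _ ≤ 2 := Finset.card_le_two
  have := P.big
  omega

theorem mem_Tk {k : ℤ} {y : Y} (hy : y ∈ S.T) (h : ∀ x ∈ S.XZ k, y * x * y⁻¹ = x) : y ∈ S.Tk k :=
  ⟨hy, Subgroup.mem_centralizer_iff.2 fun x hx => by
    calc x * y = (y * x * y⁻¹) * y := by rw [h x hx]
      _ = y * x := by group⟩

/-- a torus element fixed point free on `X_{2a}` is fixed point free on `W a` -/
theorem W_fpf (P : Pos S i t) (D : WData S i t W) {a : ℤ} {y : Y}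
    (hf : ∀ x ∈ S.XZ (2 * a), y * x * y⁻¹ = x → x = 1) {w : G} (hw : w ∈ W a) (h : i y * w * (i y)⁻¹ = w) : w = 1 := by
  have key : ∀ z ∈ S.Zc (a : ZMod 8), i y * i z * (i y)⁻¹ = i z → z = 1 := by
    intro z hz h1
    refine hf z (S.Zc_le a hz) (P.inj ?_)
    rw [map_mul, map_mul, map_inv, h1]
  obtain ⟨z, hz, h1⟩ := D.comm hw
  have h2 := t_conj P y w
  rw [h, h1] at h2
  have h3 : w * i z = w * (i y * i z * (i y)⁻¹) := by
    calc w * i z = i y * (w * i z) * (i y)⁻¹ := h2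
      _ = (i y * w * (i y)⁻¹) * (i y * i z * (i y)⁻¹) := by group
      _ = _ := by rw [h]
  have hz1 := key z hz (mul_left_cancel h3).symm
  subst hz1
  rw [map_one, mul_one] at h1
  obtain ⟨z', hz', h4⟩ := W_fix P D hw h1
  rw [h4] at h
  rw [h4, key z' hz' h, map_one]

/-- the commutator `[W_2, W_6]` lies in `Z_4` -/
theorem comm_mem (P : Pos S i t) (D : WData S i t W) {w : G} (hw : w ∈ W 1) :
    ∀ w' ∈ W 3, ∃ v, w' * w * w'⁻¹ * w⁻¹ = i (S.e 2 0 v) := by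
  have := P.finG
  have := P.finF
  -- the commutator lies in `Z_2 Z_4 Z_6`
  have h0 : ∀ w ∈ W 1, ∀ w' ∈ W 3, ∃ a b c, w' * w * w'⁻¹ * w⁻¹ = i (S.e 1 0 a * S.e 2 0 b * S.e 3 0 c) := by
    intro w hw w' hw'
    obtain ⟨z, ⟨u, rfl⟩, hz⟩ := D.comm hw
    obtain ⟨z', ⟨u', rfl⟩, hz'⟩ := D.comm hw'
    have k1 : w * i (S.e 1 0 u) = i (S.e 1 0 u) * w := W1_J P D hw (mem_J (S.mX2 0 u) (by norm_num) (by norm_num))
    have k2 : w' * i (S.e 1 0 u) = i (S.e 1 0 u) * w' := W3_J P D hw' (mem_J (S.mX2 0 u) (by norm_num) (by norm_num))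
    have k3 : w * i (S.e 3 0 u') = i (S.e 3 0 u') * w := W1_J P D hw (mem_J (S.mX6 0 u') (by norm_num) (by norm_num))
    have k4 : w' * i (S.e 3 0 u') = i (S.e 3 0 u') * w' := W3_J P D hw' (mem_J (S.mX6 0 u') (by norm_num) (by norm_num))
    have hz1 : t * w * t = w * i (S.e 1 0 u) := by simpa using hz
    have hz2 : t * w' * t = w' * i (S.e 3 0 u') := by simpa using hz'
    set a := i (S.e 1 0 u)
    set b := i (S.e 3 0 u')
    have hct : t * (w' * w * w'⁻¹ * w⁻¹) * t = w' * w * w'⁻¹ * w⁻¹ := by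
      rw [t_mul P, t_mul P, t_mul P, t_inv' P, t_inv' P, hz1, hz2]
      have e1 : w' * b * (w * a) = (w' * w) * (b * a) := by
        calc w' * b * (w * a) = w' * (b * w) * a := by group
          _ = (w' * w) * (b * a) := by rw [← k3]; group
      have e2 : (w' * b)⁻¹ * (w * a)⁻¹ = (b * a)⁻¹ * (w'⁻¹ * w⁻¹) := by
        have k3' : Commute w b := k3
        have k4' : Commute w' b := k4
        have k1' : Commute w a := k1
        have k2' : Commute w' a := k2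
        have hab : Commute b a := by
          show i (S.e 3 0 u') * i (S.e 1 0 u) = i (S.e 1 0 u) * i (S.e 3 0 u')
          rw [← map_mul, ← map_mul, S.rel.r26]
        rw [← mul_inv_rev, ← mul_inv_rev, ← mul_inv_rev]
        congr 1
        calc w * a * (w' * b) = w * (a * w') * b := by group
          _ = w * w' * (a * b) := by rw [← k2]; group
          _ = w * w' * (b * a) := by rw [hab.eq]
      calc w' * b * (w * a) * (w' * b)⁻¹ * (w * a)⁻¹ = (w' * b * (w * a)) * ((w' * b)⁻¹ * (w * a)⁻¹) := by group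
        _ = _ := by rw [e1, e2]; group
    set c := w' * w * w'⁻¹ * w⁻¹ with hc
    have hct' : c * t = t * c := by
      calc c * t = (t * c * t) * t := by rw [hct]
        _ = t * c * (t * t) := by group
        _ = t * c := by rw [P.tt, mul_one]
    have hcJ : ∀ y ∈ J S.XZ 2 6, c * i y = i y * c := by
      intro y hy
      have h1 : Commute w (i y) := W1_J P D hw (J_mono (by norm_num) (by norm_num) hy)
      have h2 : Commute w' (i y) := W3_J P D hw' (J_mono (by norm_num) (by norm_num) hy)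
      exact ((((h2.mul_left h1).mul_left h2.inv_left).mul_left h1.inv_left)).eq
    obtain ⟨y, hy, hcy⟩ := P.lift (A := (J S.XZ 2 6 : Set Y)) (a := 2) (fun z hz => by
      have : z ∈ S.Zc 2 := by simpa using hz
      obtain ⟨u, rfl⟩ := this
      exact mem_J (S.mX4 0 u) (by norm_num) (by norm_num)) hct' hcJ
    rw [Subgroup.mem_centralizer_iff] at hy
    obtain ⟨a', b', c', hy'⟩ := S.centralizer_J26.1 fun x hx => (hy x hx).symm
    rcases hcy with h3 | h3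
    · exact ⟨a', b', c', by rw [h3, hy']⟩
    · exfalso
      obtain ⟨w4, hw4, hne⟩ := exists_W2 P D
      apply hne
      have h4 : w4 * i y = i y * w4 := W2_J P D hw4 (by
        rw [hy']
        exact mul_mem (mul_mem (mem_J (S.mX2 0 _) (by norm_num) (by norm_num))
          (mem_J (S.mX4 0 _) (by norm_num) (by norm_num))) (mem_J (S.mX6 0 _) (by norm_num) (by norm_num)))
      have h5 : c * w4 = w4 * c := by
        have h1 : Commute w w4 := (W1_CE P D hw).2.1 w4 hw4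
        have h2 : Commute w' w4 := (W3_CE P D hw').2.1 w4 hw4
        exact ((((h2.mul_left h1).mul_left h2.inv_left).mul_left h1.inv_left)).eq
      rw [h3] at h5
      have h6 : (t * w4) * i y = (w4 * t) * i y := by
        calc (t * w4) * i y = t * (w4 * i y) := by group
          _ = (t * i y) * w4 := by rw [h4]; group
          _ = (w4 * t) * i y := by rw [h5]; group
      exact mul_right_cancel h6
  obtain ⟨ω, hω⟩ := exists_unit P
  obtain ⟨y2, hy2T, hy2c, hy2f⟩ := TorEx.exists_tt S hω 2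
  obtain ⟨y6, hy6T, hy6c, hy6f⟩ := TorEx.exists_tt S hω 6
  have hy2 : y2 ∈ S.Tk (2 * 1) := mem_Tk hy2T (hy2c 2 (by norm_num))
  have hy6 : y6 ∈ S.Tk (2 * 3) := mem_Tk hy6T (hy6c 6 (by norm_num))
  -- step 1: the component in `Z_2`
  have h1 : ∀ w ∈ W 1, ∀ w' ∈ W 3, w' * w * w'⁻¹ * w⁻¹ ∈ S.W46.map i := by
    intro w hw
    refine kprime (B := W 3) (R := S.W46.map i) (h := i y2) (x := w)
      (C := {g | ∃ a b c, g = i (S.e 1 0 a * S.e 2 0 b * S.e 3 0 c)}) ?_ ?_ ?_ ?_ ?_ ?_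
    · exact fun b hb => W_T P D hb hy2T
    · intro b hb hbe
      exact W_fpf P D (fun x hx => hy2f _ (by norm_num) x hx) hb hbe
    · exact W_Tk P D hw hy2
    · rintro b hb _ ⟨r, hr, rfl⟩
      have h2 : b * i r = i r * b := W3_J P D hb (J_mono (by norm_num) (by norm_num) (S.W46_le hr))
      refine ⟨r, hr, ?_⟩
      calc i r = b⁻¹ * (b * i r) := by group
        _ = b⁻¹ * i r * b := by rw [h2]; group
    · exact fun b hb => h0 w hw b hb
    · rintro _ ⟨a, b, c, rfl⟩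
      have e1 : y2 * S.e 1 0 a * y2⁻¹ = S.e 1 0 a := hy2c 2 (by norm_num) _ (S.mX2 0 a)
      have hw46 : S.e 2 0 b * S.e 3 0 c ∈ S.W46 := ⟨b, c, rfl⟩
      have hw46' := S.T_conj_W46 hy2T hw46
      refine ⟨(y2 * (S.e 2 0 b * S.e 3 0 c) * y2⁻¹) * (S.e 2 0 b * S.e 3 0 c)⁻¹, mul_mem hw46' (inv_mem hw46), ?_⟩
      rw [← map_mul, ← map_inv, ← map_inv, ← map_mul, ← map_mul]
      congr 1
      have hcm : S.e 1 0 a * ((y2 * (S.e 2 0 b * S.e 3 0 c) * y2⁻¹) * (S.e 2 0 b * S.e 3 0 c)⁻¹) =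
          ((y2 * (S.e 2 0 b * S.e 3 0 c) * y2⁻¹) * (S.e 2 0 b * S.e 3 0 c)⁻¹) * S.e 1 0 a :=
        S.W46_comm (mem_J (S.mX2 0 a) (by norm_num) (by norm_num)) (mul_mem hw46' (inv_mem hw46))
      symm
      calc y2 * (S.e 1 0 a * S.e 2 0 b * S.e 3 0 c) * y2⁻¹ * (S.e 1 0 a * S.e 2 0 b * S.e 3 0 c)⁻¹
          = (y2 * S.e 1 0 a * y2⁻¹) * ((y2 * (S.e 2 0 b * S.e 3 0 c) * y2⁻¹) * (S.e 2 0 b * S.e 3 0 c)⁻¹) *
              (S.e 1 0 a)⁻¹ := by group
        _ = _ := by rw [e1, hcm]; group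
  -- step 2: the component in `Z_6`
  have h2 : ∀ w' ∈ W 3, ∀ w ∈ W 1, w * w' * w⁻¹ * w'⁻¹ ∈ (S.Zc 2).map i := by
    intro w' hw'
    refine kprime (B := W 1) (R := (S.Zc 2).map i) (h := i y6) (x := w')
      (C := {g | ∃ r ∈ S.W46, g = i r}) ?_ ?_ ?_ ?_ ?_ ?_
    · exact fun b hb => W_T P D hb hy6T
    · intro b hb hbe
      exact W_fpf P D (fun x hx => hy6f _ (by norm_num) x hx) hb hbe
    · exact W_Tk P D hw' hy6
    · rintro b hb _ ⟨_, ⟨u, rfl⟩, rfl⟩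
      have h2 : b * i (S.e 2 0 u) = i (S.e 2 0 u) * b := W1_J P D hb (mem_J (S.mX4 0 u) (by norm_num) (by norm_num))
      refine ⟨_, ⟨u, rfl⟩, ?_⟩
      calc i (S.e 2 0 u) = b⁻¹ * (b * i (S.e 2 0 u)) := by group
        _ = b⁻¹ * i (S.e 2 0 u) * b := by rw [h2]; group
    · intro b hb
      obtain ⟨r, hr, h3⟩ := h1 b hb w' hw'
      refine ⟨r⁻¹, inv_mem hr, ?_⟩
      rw [map_inv, h3]; group
    · rintro _ ⟨_, ⟨b, c, rfl⟩, rfl⟩
      have e1 : y6 * S.e 3 0 c * y6⁻¹ = S.e 3 0 c := hy6c 6 (by norm_num) _ (S.mX6 0 c)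
      have hz : S.e 2 0 b ∈ S.Zc 2 := ⟨b, rfl⟩
      have hz' := S.T_conj_Zc hy6T hz
      refine ⟨(y6 * S.e 2 0 b * y6⁻¹) * (S.e 2 0 b)⁻¹, mul_mem hz' (inv_mem hz), ?_⟩
      rw [← map_mul, ← map_inv, ← map_inv, ← map_mul, ← map_mul]
      congr 1
      symm
      calc y6 * (S.e 2 0 b * S.e 3 0 c) * y6⁻¹ * (S.e 2 0 b * S.e 3 0 c)⁻¹
          = (y6 * S.e 2 0 b * y6⁻¹) * (y6 * S.e 3 0 c * y6⁻¹) * (S.e 3 0 c)⁻¹ * (S.e 2 0 b)⁻¹ := by group
        _ = _ := by rw [e1]; group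
  intro w' hw'
  obtain ⟨_, ⟨u, rfl⟩, h3⟩ := h2 w' hw' w hw
  refine ⟨u, ?_⟩
  have h4 : (i (S.e 2 0 u))⁻¹ = i (S.e 2 0 u) := by
    rw [← map_inv]
    congr 1
    exact inv_eq_of_mul_eq_one_left (zz S 2 u)
  rw [← h4, h3]; group


/-! ### The commutator form -/

theorem w_inv (D : WData S i t W) {a : ℤ} {w : G} (hw : w ∈ W a) : w⁻¹ = w := inv_eq_of_mul_eq_one_left (D.sq hw)

/-- `Z_4` commutes with `CE` -/
theorem CE_Z (P : Pos S i t) {f : G} (hf : f ∈ CE P W) (v : F) : f * i (S.e 2 0 v) = i (S.e 2 0 v) * f :=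
  hf.1 _ (Q2_Q1 (S.q2_3 v))

theorem iz_sq (S : Full σ Y) (i : Y →* G) (a : ZMod 8) (v : F) : i (S.e a 0 v) * i (S.e a 0 v) = 1 := by
  rw [← map_mul, zz S a v, map_one]

/-- `A A^x` commutes with `W_6`, `x ∈ X_8` -/
theorem AB_comm (P : Pos S i t) (D : WData S i t W) {A : G} (hA : A ∈ W 1) (q v : F) {w : G} (hw : w ∈ W 3) :
    (A * ((i (S.e 4 q v))⁻¹ * A * i (S.e 4 q v))) * w = w * (A * ((i (S.e 4 q v))⁻¹ * A * i (S.e 4 q v))) := by
  obtain ⟨b, hb⟩ := comm_mem P D hA w hw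
  set x := i (S.e 4 q v) with hx
  set z := i (S.e 2 0 b) with hz
  have h1 : w * A = z * (A * w) := by
    rw [← hb]; group
  have hwx : Commute w x := W3_J P D hw (mem_J (S.mX8 q v) (by norm_num) (by norm_num))
  have hxz : Commute x z := by
    show i (S.e 4 q v) * i (S.e 2 0 b) = i (S.e 2 0 b) * i (S.e 4 q v)
    rw [← map_mul, ← map_mul, S.comm_PL (X8_PL q v) ⟨b, rfl⟩]
  have hzz : z * z = 1 := iz_sq S i 2 b
  have hAz : Commute A z := CE_Z P (W1_CE P D hA) b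
  have hwz : Commute w z := CE_Z P (W3_CE P D hw) b
  have h2 : w * (x⁻¹ * A * x) = z * ((x⁻¹ * A * x) * w) := by
    calc w * (x⁻¹ * A * x) = (w * x⁻¹) * A * x := by group
      _ = x⁻¹ * (w * A) * x := by rw [hwx.inv_right.eq]; group
      _ = (x⁻¹ * z) * A * (w * x) := by rw [h1]; group
      _ = z * ((x⁻¹ * A * x) * w) := by rw [hxz.inv_left.eq, hwx.eq]; group
  calc A * (x⁻¹ * A * x) * w = A * (z * z) * (x⁻¹ * A * x) * w := by rw [hzz]; group
    _ = (A * z) * (z * ((x⁻¹ * A * x) * w)) := by group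
    _ = (A * z) * w * (x⁻¹ * A * x) := by rw [← h2]; group
    _ = z * (A * w) * (x⁻¹ * A * x) := by rw [hAz.eq]; group
    _ = w * (A * (x⁻¹ * A * x)) := by rw [← h1]; group

/-- `[·, t]` of a product in `CE` -/
theorem tau_mul (P : Pos S i t) {f g : G} (hg : g ∈ CE P W) {y y' : Y} (hy : y ∈ S.Q2)
    (h : t * f * t = f * i y) (h' : t * g * t = g * i y') : t * (f * g) * t = f * g * i (y * y') := by
  rw [t_mul P, h, h', map_mul]
  calc f * i y * (g * i y') = f * (i y * g) * i y' := by group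
    _ = _ := by rw [← hg.1 y (Q2_Q1 hy)]; group

/-- `[·, t]` of a conjugate -/
theorem tau_conj (P : Pos S i t) {f : G} {x y : Y} (h : t * f * t = f * i y) :
    t * ((i x)⁻¹ * f * i x) * t = (i x)⁻¹ * f * i x * i (x⁻¹ * y * x) := by
  have h1 := t_conj P x⁻¹ f
  rw [map_inv, inv_inv] at h1
  rw [h1, h, map_mul, map_mul, map_inv]; group

theorem tau_one (D : WData S i t W) (u : F) : ∃ A ∈ W 1, t * A * t = A * i (S.e 1 0 u) := by
  obtain ⟨A, hA, h⟩ := D.sur 1 (S.e 1 0 u) (by rw [Int.cast_one]; exact ⟨u, rfl⟩)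
  exact ⟨A, hA, h⟩

theorem tau_three (D : WData S i t W) (u : F) : ∃ A ∈ W 3, t * A * t = A * i (S.e 3 0 u) := by
  obtain ⟨A, hA, h⟩ := D.sur 3 (S.e 3 0 u) (by
    have : ((3 : ℤ) : ZMod 8) = 3 := by norm_num
    rw [this]; exact ⟨u, rfl⟩)
  exact ⟨A, hA, h⟩

/-- an element of `CE` over `X_5` commuting with `W_6` -/
theorem exists_five (P : Pos S i t) (D : WData S i t W) (b : F) : ∃ g ∈ CE P W,
    (∃ c, t * g * t = g * i (S.e 2 0 c * S.o 2 b)) ∧ ∀ w ∈ W 3, g * w = w * g := by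
  obtain ⟨A, hA, htA⟩ := tau_one D (1 : F)
  obtain ⟨w6, hw6, htw⟩ := tau_three D (σ b)
  have hAC := W1_CE P D hA
  have hBC := CE_conj' P D (X8_PL 0 b) hAC
  have hwC := W3_CE P D hw6
  have htB := tau_conj P (x := S.e 4 0 b) htA
  rw [conj28b S, map_one, one_mul, one_mul] at htB
  have h1 := tau_mul P hBC (S.q2_1 1) htA htB
  have hy : S.e 1 0 1 * (S.e 1 0 1 * (S.e 2 0 b * S.o 2 b * S.e 3 0 (σ b))) = S.e 2 0 b * S.o 2 b * S.e 3 0 (σ b) := by
    rw [← mul_assoc, zz S 1 1, one_mul]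
  rw [hy] at h1
  have h2 := tau_mul P hwC (mul_mem (mul_mem (S.q2_3 _) (S.q2_4 _)) (S.q2_5 _)) h1 htw
  have hy2 : S.e 2 0 b * S.o 2 b * S.e 3 0 (σ b) * S.e 3 0 (σ b) = S.e 2 0 b * S.o 2 b := by
    rw [mul_assoc, zz S 3 (σ b), mul_one]
  rw [hy2] at h2
  refine ⟨_, mul_mem (mul_mem hAC hBC) hwC, ⟨b, h2⟩, fun w hw => ?_⟩
  have h3 := AB_comm P D hA 0 b hw
  have h4 := D.ab hw6 hw
  rw [mul_assoc, h4, ← mul_assoc, h3, mul_assoc]

/-- an element of `CE` over `X_3` commuting with `W_2` -/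
theorem exists_three (P : Pos S i t) (D : WData S i t W) (b : F) : ∃ g ∈ CE P W,
    (∃ c, t * g * t = g * i (S.e 2 0 c * S.o 1 b)) ∧ ∀ w ∈ W 1, g * w = w * g := by
  obtain ⟨g, hg, ⟨c, hc⟩, hgw⟩ := exists_five P D b
  refine ⟨i S.n2 * g * (i S.n2)⁻¹, CE_conj P D S.n2_mem hg, ⟨c, ?_⟩, fun w hw => ?_⟩
  · rw [t_conj P, hc]
    have e : S.n2 * (S.e 2 0 c * S.o 2 b) * S.n2⁻¹ = S.e 2 0 c * S.o 1 b := by
      calc S.n2 * (S.e 2 0 c * S.o 2 b) * S.n2⁻¹ = (S.n2 * S.e 2 0 c * S.n2⁻¹) * (S.n2 * S.o 2 b * S.n2⁻¹) := by group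
        _ = _ := by rw [S.n2_e, S.n2_o]; rfl
    rw [← e]
    simp only [map_mul, map_inv]
    group
  · have hw' : (i S.n2)⁻¹ * w * i S.n2 ∈ W 3 := by
      have h1 : i S.n2⁻¹ * w * (i S.n2⁻¹)⁻¹ ∈ W 3 := by
        refine D.conj P.ti (a := 1) (b := 3) (fun z => ?_) hw
        have h3 : ((3 : ℤ) : ZMod 8) = 3 := by norm_num
        rw [h3, Int.cast_one]
        have e1 : ∀ u, S.n2⁻¹ * S.e 1 0 u * S.n2 = S.e 3 0 u := by
          intro u
          have h4 := S.n2_e 3 0 u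
          have h5 : (4 : ZMod 8) - 3 = 1 := by decide
          rw [h5] at h4
          rw [← h4]; group
        constructor
        · rintro ⟨u, rfl⟩
          exact ⟨u, by rw [inv_inv, e1]⟩
        · rintro ⟨u, hu⟩
          refine ⟨u, ?_⟩
          rw [inv_inv, ← e1] at hu
          calc S.e 1 0 u = S.n2 * (S.n2⁻¹ * S.e 1 0 u * S.n2) * S.n2⁻¹ := by group
            _ = z := by rw [hu]; group
      rwa [map_inv, inv_inv] at h1
    have h2 := hgw _ hw'
    calc i S.n2 * g * (i S.n2)⁻¹ * w = i S.n2 * (g * ((i S.n2)⁻¹ * w * i S.n2)) * (i S.n2)⁻¹ := by group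
      _ = _ := by rw [h2]; group

/-- an element of `CE` over `X_3 Z_4` commutes with `W_2` -/
theorem comm_three (P : Pos S i t) (D : WData S i t W) {f : G} (hf : f ∈ CE P W) {b c : F}
    (h : t * f * t = f * i (S.e 2 0 c * S.o 1 b)) {w : G} (hw : w ∈ W 1) : f * w = w * f := by
  obtain ⟨g, hg, ⟨c', hc'⟩, hgw⟩ := exists_three P D b
  have hoz : S.e 2 0 c * S.o 1 b = S.e 2 0 c' * S.o 1 b * S.e 2 0 (c + c') := by
    have h1 : S.o 1 b * S.e 2 0 (c + c') = S.e 2 0 (c + c') * S.o 1 b := S.rel.r34 b 0 (c + c')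
    rw [mul_assoc, h1, ← mul_assoc, S.e_mul, zero_mul, add_zero, add_zero]
    congr 2
    have := two_zero S c'
    calc c = c + (c' + c') := by rw [this, add_zero]
      _ = c' + (c + c') := by ring
  rw [hoz] at h
  obtain ⟨y, hy, w4, hw4, rfl⟩ := CE_eq P D hg hf (mul_mem (S.q2_3 c') (S.q2_2 b)) hc' h
  have h1 : Commute g w := hgw w hw
  have h2 : Commute (i y) w := ((W1_CE P D hw).1 y (Q2_Q1 hy)).symm
  have h3 : Commute w4 w := ((W1_CE P D hw).2.1 w4 hw4).symm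
  exact ((h1.mul_left h2).mul_left h3).eq

/-- the square of an element over `X_3 Z_4` depends only on the `X_3`-part -/
theorem sq_three (P : Pos S i t) (D : WData S i t W) {f f' : G} (hf : f ∈ CE P W) (hf' : f' ∈ CE P W) {b c c' : F}
    (h : t * f * t = f * i (S.e 2 0 c * S.o 1 b)) (h' : t * f' * t = f' * i (S.e 2 0 c' * S.o 1 b)) :
    f' * f' = f * f := by
  have hoz : S.e 2 0 c' * S.o 1 b = S.e 2 0 c * S.o 1 b * S.e 2 0 (c' + c) := by
    have h1 : S.o 1 b * S.e 2 0 (c' + c) = S.e 2 0 (c' + c) * S.o 1 b := S.rel.r34 b 0 (c' + c)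
    rw [mul_assoc, h1, ← mul_assoc, S.e_mul, zero_mul, add_zero, add_zero]
    congr 2
    have := two_zero S c
    calc c' = c' + (c + c) := by rw [this, add_zero]
      _ = c + (c' + c) := by ring
  rw [hoz] at h'
  obtain ⟨y, hy, w4, hw4, rfl⟩ := CE_eq P D hf hf' (mul_mem (S.q2_3 c) (S.q2_2 b)) h h'
  have h1 : Commute f (i y) := hf.1 y (Q2_Q1 hy)
  have h2 : Commute f w4 := hf.2.1 w4 hw4
  have h3 : Commute w4 (i y) := (W2_CE P D hw4).1 y (Q2_Q1 hy)
  have h4 : i y * i y = 1 := by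
    rw [← map_mul]
    have : S.Q2 ≤ ({ carrier := {y | y ∈ S.Q2 ∧ y * y = 1}
                     one_mem' := ⟨one_mem _, one_mul _⟩
                     mul_mem' := by
                       rintro a b ⟨ha, ha'⟩ ⟨hb, hb'⟩
                       refine ⟨mul_mem ha hb, ?_⟩
                       have h5 := S.Q1_comm (Q2_Q1 hb) ha
                       calc a * b * (a * b) = a * (b * a) * b := by group
                         _ = (a * a) * (b * b) := by rw [h5]; group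
                         _ = 1 := by rw [ha', hb', one_mul]
                     inv_mem' := by
                       rintro a ⟨ha, ha'⟩
                       exact ⟨inv_mem ha, by rw [← mul_inv_rev, ha', inv_one]⟩ } : Subgroup Y) := by
      have hoo : ∀ (a : ZMod 8) (t : F), S.o a t * S.o a t = 1 := fun a t => by
        rw [S.o_add, two_zero S, S.o_zero]
      exact S.Q2_le (fun u => ⟨S.q2_1 u, zz S 1 u⟩) (fun u => ⟨S.q2_2 u, hoo 1 u⟩) (fun u => ⟨S.q2_3 u, zz S 2 u⟩)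
        (fun u => ⟨S.q2_4 u, hoo 2 u⟩) (fun u => ⟨S.q2_5 u, zz S 3 u⟩)
    rw [(this hy).2, map_one]
  have h5 : w4 * w4 = 1 := D.sq hw4
  calc f * i y * w4 * (f * i y * w4) = f * i y * (w4 * f) * (i y * w4) := by group
    _ = f * i y * (f * w4) * (i y * w4) := by rw [h2.eq]
    _ = f * (i y * f) * (w4 * i y) * w4 := by group
    _ = f * (f * i y) * (i y * w4) * w4 := by rw [h1.eq, h3.eq]
    _ = f * f * (i y * i y) * (w4 * w4) := by group
    _ = f * f := by rw [h4, h5, mul_one, mul_one]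


/-- **the value of the form**: `[A, w] = g²`, `g` over `X_3` -/
theorem val (P : Pos S i t) (D : WData S i t W) {A w : G} (hA : A ∈ W 1) (hw : w ∈ W 3) {u q : F}
    (htA : t * A * t = A * i (S.e 1 0 u)) (htw : t * w * t = w * i (S.e 3 0 (u * q * q * σ q))) :
    ∃ g ∈ CE P W, (∃ c, t * g * t = g * i (S.e 2 0 c * S.o 1 (u * q))) ∧ g * g = w * A * w⁻¹ * A⁻¹ := by
  have hAC := W1_CE P D hA
  have hBC := CE_conj' P D (X8_PL q 0) hAC
  have hwC := W3_CE P D hw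
  have htB := tau_conj P (x := S.e 4 q 0) htA
  rw [conj28a S] at htB
  have h1 := tau_mul P hBC (S.q2_1 u) htA htB
  have hy : S.e 1 0 u * (S.e 1 0 u * (S.o 1 (u * q) * S.e 2 0 (σ u * q * σ q) * S.e 3 0 (u * q * q * σ q))) =
      S.o 1 (u * q) * S.e 2 0 (σ u * q * σ q) * S.e 3 0 (u * q * q * σ q) := by
    rw [← mul_assoc, zz S 1 u, one_mul]
  rw [hy] at h1
  have h2 := tau_mul P hwC (mul_mem (mul_mem (S.q2_2 _) (S.q2_3 _)) (S.q2_5 _)) h1 htw
  have hy2 : S.o 1 (u * q) * S.e 2 0 (σ u * q * σ q) * S.e 3 0 (u * q * q * σ q) * S.e 3 0 (u * q * q * σ q) =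
      S.e 2 0 (σ u * q * σ q) * S.o 1 (u * q) := by
    rw [mul_assoc, zz S 3, mul_one]
    exact S.rel.r34 _ _ _
  rw [hy2] at h2
  set B := (i (S.e 4 q 0))⁻¹ * A * i (S.e 4 q 0) with hB
  have hgC := mul_mem (mul_mem hAC hBC) hwC
  have h3 := AB_comm P D hA q 0 hw
  rw [← hB] at h3
  have hBB : B * B = 1 := by
    rw [hB]
    calc (i (S.e 4 q 0))⁻¹ * A * i (S.e 4 q 0) * ((i (S.e 4 q 0))⁻¹ * A * i (S.e 4 q 0)) =
        (i (S.e 4 q 0))⁻¹ * (A * A) * i (S.e 4 q 0) := by group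
      _ = 1 := by rw [D.sq hA]; group
  have hAA := D.sq hA
  have hww := D.sq hw
  have hAi := w_inv D hA
  have hwi := w_inv D hw
  obtain ⟨b, hb⟩ := comm_mem P D hA w hw
  have hzz : i (S.e 2 0 b) * i (S.e 2 0 b) = 1 := iz_sq S i 2 b
  have hzA : Commute A (i (S.e 2 0 b)) := CE_Z P hAC b
  have hzB : Commute B (i (S.e 2 0 b)) := CE_Z P hBC b
  refine ⟨_, hgC, ⟨_, h2⟩, ?_⟩
  -- `g` commutes with `A`
  have h4 : (A * B * w) * A = A * (A * B * w) := comm_three P D hgC h2 hA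
  -- `[A, B] = [A, w]`
  set z := i (S.e 2 0 b) with hz
  have h5 : w * A = z * (A * w) := by rw [← hb]; group
  have h6 : A * B * A = B * z := by
    have h7 : A * B * z * A * w = B * w := by
      calc A * B * z * A * w = A * B * (z * (A * w)) := by group
        _ = (A * B * w) * A := by rw [← h5]; group
        _ = (A * A) * (B * w) := by rw [h4]; group
        _ = B * w := by rw [hAA, one_mul]
    have h8 : A * B * z * A = B := mul_right_cancel h7
    calc A * B * A = A * B * (z * z) * A := by rw [hzz, mul_one]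
      _ = A * B * z * (z * A) := by group
      _ = (A * B * z * A) * z := by rw [← hzA.eq]; group
      _ = B * z := by rw [h8]
  calc A * B * w * (A * B * w) = A * B * w * (A * B) * w := by group
    _ = (A * B) * (w * (A * B)) * w := by group
    _ = (A * B) * ((A * B) * w) * w := by rw [h3]
    _ = (A * B * A) * B * (w * w) := by group
    _ = (B * z) * B := by rw [h6, hww, mul_one]
    _ = (B * B) * z := by rw [mul_assoc B z B, ← hzB.eq, ← mul_assoc]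
    _ = z := by rw [hBB, one_mul]
    _ = w * A * w⁻¹ * A⁻¹ := hb.symm

/-- `σ` is onto -/
theorem σ_surj (P : Pos S i t) (v : F) : ∃ x, σ x = v := by
  have := P.finF
  exact Finite.surjective_of_injective σ.injective v

/-- **`[W_2, W_6] = 1`** -/
theorem comm_13 (P : Pos S i t) (D : WData S i t W) {A w : G} (hA : A ∈ W 1) (hw : w ∈ W 3) : A * w = w * A := by
  have := P.finF
  -- the value depends only on the `[·, t]`
  have indep : ∀ {A A' w w' : G}, A ∈ W 1 → A' ∈ W 1 → w ∈ W 3 → w' ∈ W 3 → ∀ {u v : F},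
      t * A * t = A * i (S.e 1 0 u) → t * A' * t = A' * i (S.e 1 0 u) → t * w * t = w * i (S.e 3 0 v) →
      t * w' * t = w' * i (S.e 3 0 v) → w' * A' * w'⁻¹ * A'⁻¹ = w * A * w⁻¹ * A⁻¹ := by
    intro A A' w w' hA hA' hw hw' u v h1 h2 h3 h4
    obtain ⟨z, ⟨a, rfl⟩, rfl⟩ := W_eq P D hA hA' (by rw [Int.cast_one]; exact ⟨u, rfl⟩) h1 h2
    have h33 : ((3 : ℤ) : ZMod 8) = 3 := by norm_num
    obtain ⟨z, ⟨b, rfl⟩, rfl⟩ := W_eq P D hw hw' (by rw [h33]; exact ⟨v, rfl⟩) h3 h4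
    rw [Int.cast_one, h33]
    have k1 : Commute A (i (S.e 1 0 a)) := W1_J P D hA (mem_J (S.mX2 0 a) (by norm_num) (by norm_num))
    have k2 : Commute w (i (S.e 1 0 a)) := W3_J P D hw (mem_J (S.mX2 0 a) (by norm_num) (by norm_num))
    have k3 : Commute A (i (S.e 3 0 b)) := W1_J P D hA (mem_J (S.mX6 0 b) (by norm_num) (by norm_num))
    have k4 : Commute w (i (S.e 3 0 b)) := W3_J P D hw (mem_J (S.mX6 0 b) (by norm_num) (by norm_num))
    have k5 : Commute (i (S.e 1 0 a)) (i (S.e 3 0 b)) := by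
      show _ * _ = _ * _
      rw [← map_mul, ← map_mul, S.rel.r26]
    set x := i (S.e 1 0 a)
    set y := i (S.e 3 0 b)
    have e1 : w * y * (A * x) = w * A * (x * y) := by
      calc w * y * (A * x) = w * (y * A) * x := by group
        _ = w * A * (y * x) := by rw [← k3.eq]; group
        _ = w * A * (x * y) := by rw [k5.eq]
    have e2 : (A * x) * (w * y) = A * w * (x * y) := by
      calc (A * x) * (w * y) = A * (x * w) * y := by group
        _ = A * w * (x * y) := by rw [← k2.eq]; group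
    calc w * y * (A * x) * (w * y)⁻¹ * (A * x)⁻¹ = (w * y * (A * x)) * ((A * x) * (w * y))⁻¹ := by group
      _ = _ := by rw [e1, e2]; group
  -- the form
  have hex : ∀ u v : F, ∃ c, ∀ A ∈ W 1, ∀ w ∈ W 3, t * A * t = A * i (S.e 1 0 u) → t * w * t = w * i (S.e 3 0 v) →
      w * A * w⁻¹ * A⁻¹ = i (S.e 2 0 c) := by
    intro u v
    obtain ⟨A, hA, h1⟩ := tau_one D u
    obtain ⟨w, hw, h2⟩ := tau_three D v
    obtain ⟨c, hc⟩ := comm_mem P D hA w hw
    exact ⟨c, fun A' hA' w' hw' h3 h4 => (indep hA hA' hw hw' h1 h3 h2 h4).trans hc⟩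
  choose β hβ using hex
  -- additive in the second variable
  have hadd : ∀ u v v', β u (v + v') = β u v + β u v' := by
    intro u v v'
    obtain ⟨A, hA, h1⟩ := tau_one D u
    obtain ⟨w, hw, h2⟩ := tau_three D v
    obtain ⟨w', hw', h3⟩ := tau_three D v'
    have h4 := tau_mul P (W3_CE P D hw') (S.q2_5 v) h2 h3
    rw [S.e_mul, zero_mul, add_zero, add_zero] at h4
    have e1 := hβ u v A hA w hw h1 h2
    have e2 := hβ u v' A hA w' hw' h1 h3
    have e3 := hβ u (v + v') A hA (w * w') (mul_mem hw hw') h1 h4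
    have h5 : w * w' * A * (w * w')⁻¹ * A⁻¹ = i (S.e 2 0 (β u v)) * i (S.e 2 0 (β u v')) := by
      have h6 : Commute w (i (S.e 2 0 (β u v'))) := CE_Z P (W3_CE P D hw) _
      have h7 : Commute (i (S.e 2 0 (β u v))) (i (S.e 2 0 (β u v'))) := by
        show _ * _ = _ * _
        rw [← map_mul, ← map_mul, S.e_mul, S.e_mul]
        simp only [zero_mul, add_zero, add_comm]
      calc w * w' * A * (w * w')⁻¹ * A⁻¹ = w * (w' * A * w'⁻¹ * A⁻¹) * A * w⁻¹ * A⁻¹ := by group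
        _ = (w * i (S.e 2 0 (β u v'))) * A * w⁻¹ * A⁻¹ := by rw [e2]
        _ = i (S.e 2 0 (β u v')) * (w * A * w⁻¹ * A⁻¹) := by rw [h6.eq]; group
        _ = _ := by rw [e1, h7.eq]
    rw [e3, ← map_mul, S.e_mul, zero_mul, add_zero, add_zero] at h5
    exact (S.injE _ _ _ _ _ (P.inj h5)).2
  -- invariance under the torus
  have htor : ∀ (n : Fˣ) (u v : F), β ((n : F) * σ n * u) (((n : F) * σ n)⁻¹ * v) = β u v := by
    intro n u v
    obtain ⟨A, hA, h1⟩ := tau_one D u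
    obtain ⟨w, hw, h2⟩ := tau_three D v
    set y := S.h (Units.map (σ : F →* F) n) n with hy
    have hyT : y ∈ S.T := S.mem_T.2 ⟨_, _, rfl⟩
    have c1 : chE σ 1 (Units.map (σ : F →* F) n) n = n := rfl
    have c2 : chE σ 2 (Units.map (σ : F →* F) n) n = 1 := by rw [chE_two, div_self']
    have c3 : chE σ 3 (Units.map (σ : F →* F) n) n = n⁻¹ := by
      rw [chE_three, map_map σ S.sq, pow_two]
      rw [div_mul_eq_div_div, div_self', one_div]
    have f1 : y * S.e 1 0 u * y⁻¹ = S.e 1 0 ((n : F) * σ n * u) := by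
      rw [hy, S.h_e, c1, mul_zero]
    have f2 : ∀ c, y * S.e 2 0 c * y⁻¹ = S.e 2 0 c := by
      intro c
      rw [hy, S.h_e, c2, mul_zero]
      simp
    have f3 : y * S.e 3 0 v * y⁻¹ = S.e 3 0 (((n : F) * σ n)⁻¹ * v) := by
      rw [hy, S.h_e, c3, mul_zero, Units.val_inv_eq_inv_val, map_inv₀, mul_inv]
    have h3 : t * (i y * A * (i y)⁻¹) * t = i y * A * (i y)⁻¹ * i (S.e 1 0 ((n : F) * σ n * u)) := by
      rw [t_conj P, h1, ← f1, map_mul, map_mul, map_inv]; group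
    have h4 : t * (i y * w * (i y)⁻¹) * t = i y * w * (i y)⁻¹ * i (S.e 3 0 (((n : F) * σ n)⁻¹ * v)) := by
      rw [t_conj P, h2, ← f3, map_mul, map_mul, map_inv]; group
    have h5 := hβ _ _ _ (W_T P D hA hyT) _ (W_T P D hw hyT) h3 h4
    have h6 := hβ u v A hA w hw h1 h2
    have h7 : i y * w * (i y)⁻¹ * (i y * A * (i y)⁻¹) * (i y * w * (i y)⁻¹)⁻¹ * (i y * A * (i y)⁻¹)⁻¹ =
        i y * (w * A * w⁻¹ * A⁻¹) * (i y)⁻¹ := by group
    rw [h7, h6, ← map_inv, ← map_mul, ← map_mul, f2] at h5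
    exact (S.injE _ _ _ _ _ (P.inj h5)).2.symm
  -- the values
  have hval : ∀ u q u' q' : F, u * q = u' * q' → β u (u * q * q * σ q) = β u' (u' * q' * q' * σ q') := by
    intro u q u' q' huq
    obtain ⟨A, hA, h1⟩ := tau_one D u
    obtain ⟨w, hw, h2⟩ := tau_three D (u * q * q * σ q)
    obtain ⟨A', hA', h1'⟩ := tau_one D u'
    obtain ⟨w', hw', h2'⟩ := tau_three D (u' * q' * q' * σ q')
    obtain ⟨g, hg, ⟨c, hc⟩, hgg⟩ := val P D hA hw h1 h2
    obtain ⟨g', hg', ⟨c', hc'⟩, hgg'⟩ := val P D hA' hw' h1' h2'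
    rw [← huq] at hc'
    have h3 := sq_three P D hg hg' hc hc'
    rw [hgg, hgg', hβ _ _ _ hA _ hw h1 h2, hβ _ _ _ hA' _ hw' h1' h2'] at h3
    exact (S.injE _ _ _ _ _ (P.inj h3)).2.symm
  -- `β 1` is constant on the units
  have hconst : ∀ n : Fˣ, β 1 ((σ n)⁻¹ : F) = β 1 1 := by
    intro n
    obtain ⟨m, hm⟩ := Arc.s1_surj S n
    have hm' : (m : F) * σ m = n := congrArg Units.val hm
    have h1 := htor m 1 ((σ n)⁻¹)
    rw [hm', mul_one] at h1
    rw [← h1]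
    have h2 := hval (n : F) ((n : F)⁻¹) 1 1 (by rw [mul_inv_cancel₀ n.ne_zero, mul_one])
    rw [map_one] at h2
    simp only [mul_one] at h2
    rw [mul_inv_cancel₀ n.ne_zero, one_mul, map_inv₀] at h2
    exact h2
  have hc : ∀ x : F, x ≠ 0 → β 1 x = β 1 1 := by
    intro x hx
    obtain ⟨y, hy⟩ := σ_surj P x⁻¹
    have hy0 : y ≠ 0 := by
      rintro rfl
      rw [map_zero] at hy
      exact hx (inv_eq_zero.1 hy.symm)
    have := hconst (Units.mk0 y hy0)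
    rw [Units.val_mk0, hy, inv_inv] at this
    exact this
  have hzero : β 1 1 = 0 := by
    obtain ⟨ω, hω⟩ := exists_unit P
    have h1 : (ω : F) + 1 ≠ 0 := by
      intro h
      apply hω
      apply Units.ext
      have h2 := two_zero S (1 : F)
      rw [Units.val_one]
      exact add_right_cancel (h.trans h2.symm)
    have h2 := hadd 1 (ω : F) 1
    rw [hc _ h1, hc _ ω.ne_zero, two_zero S] at h2
    exact h2
  have h1v : ∀ v, β 1 v = 0 := by
    intro v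
    rcases eq_or_ne v 0 with rfl | hv
    · have := hadd 1 0 0
      rw [add_zero] at this
      exact (add_eq_left.1 this.symm)
    · rw [hc v hv, hzero]
  have hall : ∀ u v, u ≠ 0 → β u v = 0 := by
    intro u v hu
    obtain ⟨m, hm⟩ := Arc.s1_surj S (Units.mk0 u hu)
    have hm' : (m : F) * σ m = u := congrArg Units.val hm
    have h2 := htor m 1 (u * v)
    rw [hm', mul_one, inv_mul_cancel_left₀ hu, h1v] at h2
    exact h2
  -- conclusion
  obtain ⟨z, ⟨u, rfl⟩, h1⟩ := D.comm hA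
  obtain ⟨z, ⟨v, rfl⟩, h2⟩ := D.comm hw
  have h33 : ((3 : ℤ) : ZMod 8) = 3 := by norm_num
  rw [Int.cast_one] at h1
  rw [h33] at h2
  rcases eq_or_ne u 0 with rfl | hu
  · rw [S.e_zero, map_one, mul_one] at h1
    obtain ⟨z, ⟨a, rfl⟩, rfl⟩ := W_fix P D hA h1
    rw [Int.cast_one]
    exact (W3_J P D hw (mem_J (S.mX2 0 a) (by norm_num) (by norm_num))).symm
  · have h3 := hβ u v A hA w hw h1 h2
    rw [hall u v hu, S.e_zero, map_one] at h3
    have h4 : w * A = A * w := by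
      calc w * A = (w * A * w⁻¹ * A⁻¹) * (A * w) := by group
        _ = A * w := by rw [h3, one_mul]
    exact h4.symm


/-- elements of `Y` moving the centres along -/
theorem Zc_rot (S : Full σ Y) (k a : ℤ) (z : Y) : z ∈ S.Zc (a : ZMod 8) ↔
    S.rot ^ k * z * (S.rot ^ k)⁻¹ ∈ S.Zc ((a + k : ℤ) : ZMod 8) := by
  have h := S.map_Zc k a
  have e : ((a + k : ℤ) : ZMod 8) = (a : ZMod 8) + k := by push_cast; ring
  rw [e, ← h]
  constructor
  · exact fun hz => ⟨z, hz, rfl⟩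
  · rintro ⟨z', hz', h1⟩
    have h2 : S.rot ^ k * z' * (S.rot ^ k)⁻¹ = S.rot ^ k * z * (S.rot ^ k)⁻¹ := h1
    rw [← mul_left_cancel (mul_right_cancel h2)]
    exact hz'

/-- the rotations move `W a` to `W (a + k)` -/
theorem W_rot (P : Pos S i t) (D : WData S i t W) {a : ℤ} (k : ℤ) {w : G} (hw : w ∈ W a) :
    i (S.rot ^ k) * w * (i (S.rot ^ k))⁻¹ ∈ W (a + k) := D.conj P.ti (Zc_rot S k a) hw

theorem W_rot' (P : Pos S i t) (D : WData S i t W) {a : ℤ} (k : ℤ) {w : G} (hw : w ∈ W (a + k)) :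
    (i (S.rot ^ k))⁻¹ * w * i (S.rot ^ k) ∈ W a := by
  have h := W_rot P D (-k) hw
  rw [add_neg_cancel_right, zpow_neg, map_inv, inv_inv] at h
  exact h

/-- **Section 2a**: `[W_{2a}, W_{2a+4}] = 1`. -/
theorem comm_two (P : Pos S i t) (D : WData S i t W) (a : ℤ) : ∀ w ∈ W a, ∀ w' ∈ W (a + 2), w * w' = w' * w := by
  intro w hw w' hw'
  have h1 := W_rot' P D (a := 1) (a - 1) (w := w) (by rwa [show 1 + (a - 1) = a by ring])
  have h2 := W_rot' P D (a := 3) (a - 1) (w := w') (by rwa [show 3 + (a - 1) = a + 2 by ring])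
  have h3 := comm_13 P D h1 h2
  set g := i (S.rot ^ (a - 1))
  calc w * w' = g * ((g⁻¹ * w * g) * (g⁻¹ * w' * g)) * g⁻¹ := by group
    _ = w' * w := by rw [h3]; group

end Cfsg.Agent.OddHalf.D7TwF4.Fab
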