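import Cfsg.Agent.OddHalf.D7TwF4.Pair
import Cfsg.Agent.OddHalf.D7TwF4.Growth.WDefs

/-!
# ODD D7, `K = ²F₄(q)`: the fields `w24`, `tri` (helper625)
-/

set_option autoImplicit false

namespace Cfsg.Agent.OddHalf.D7TwF4.Pair

open Cfsg.Agent.KFacts.TwF4 Cfsg.Agent.OddHalf.D7TwF4.Defs Cfsg.Agent.OddHalf.D7TwF4.Fab2
open Cfsg.Agent.OddHalf.D7TwF4.Growth.Defs

universe u v w

variable {F : Type w} [Field F] {σ : F →+* F} {Y : Type u} [Group Y] {G : Type v} [Group G]
variable {S : Full σ Y} {i : Y →* G} {t : G} {W V : ℤ → Subgroup G}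

/-- the fields `w24`, `tri` of `Base` in the standard position -/
theorem wtri (P : Pos S i t) (D : WData S i t W) (E : VData S i t W V) :
    WTri (fun k => (S.XZ (4 + k)).map i) (fun k => V (4 + k)) where
  w24 := by
    have h := w24 P D E 2 1 (Or.inl rfl)
    simp only [one_mul] at h
    norm_num at h ⊢
    exact h
  tri := by
    have h := tri P D E 2 1 (Or.inl rfl)
    norm_num at h ⊢
    exact h

end Cfsg.Agent.OddHalf.D7TwF4.Pair
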