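import Cfsg.Agent.KFacts.TwF4.Rot

/-!
# ODD D7, `K = ²F₄(q)`, `q ≥ 8`: common definitions (helper544; text: bb ODD 13028)

* `mapSys S i hi` : the coordinates of `Y = ²F₄(q)` in a group `G`, `i : Y →* G` injective.
* `Pos S i t` : the position. `t` is an involution of `G` centralising `i Y`, `C_G(t) ∩ C(Z_4) ≤ ⟨t⟩ × i Y`, the
  Sylow 2-subgroup `⟨t⟩ × U` of `C_G(t)`, the fusion `t ~ t z`, `G` perfect.
* `WS i t Z` : the double of `Z ≤ Y`: the involutions `w` of `C_G(i C_Y(Z))` with `[w, t] ∈ i Z`, outside `t (i Z)`.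
* `WData` : the output of section 1.

Indices: `W a` (`a : ℤ`) is the double of `Z_{2a}`; `XZ k` (`k : ℤ`) is `X_k`.
-/

set_option autoImplicit false
set_option linter.unusedSectionVars false

namespace Cfsg.Agent.OddHalf.D7TwF4.Defs

open Cfsg.Agent.KFacts.TwF4 Cfsg.Agent.Octagon.Pkg Cfsg.Agent.SplitTwo.ZS
open scoped commutatorElement

universe u v w

variable {F : Type w} [Field F] {σ : F →+* F} {Y : Type u} [Group Y] {G : Type v} [Group G]

/-! ### The image of the coordinates -/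

/-- the image of the relations -/
theorem mapRel {x1 x3 x5 x7 : F → Y} {x2 x4 x6 x8 : F → F → Y} (i : Y →* G) (h : OctRel σ x1 x3 x5 x7 x2 x4 x6 x8) :
    OctRel σ (fun x => i (x1 x)) (fun x => i (x3 x)) (fun x => i (x5 x)) (fun x => i (x7 x)) (fun p u => i (x2 p u))
      (fun p u => i (x4 p u)) (fun p u => i (x6 p u)) (fun p u => i (x8 p u)) := by
  constructor <;> intros <;> simp only [← map_mul]
  · rw [h.m1]
  · rw [h.m3]
  · rw [h.m5]
  · rw [h.m7]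
  · rw [h.m2]
  · rw [h.m4]
  · rw [h.m6]
  · rw [h.m8]
  · rw [h.r12]
  · rw [h.r13]
  · rw [h.r14]
  · rw [h.r15]
  · rw [h.r16]
  · rw [h.r17]
  · rw [h.r18]
  · rw [h.r23]
  · rw [h.r24]
  · rw [h.r25]
  · rw [h.r26]
  · rw [h.r27]
  · rw [h.r28]
  · rw [h.r34]
  · rw [h.r35]
  · rw [h.r36]
  · rw [h.r37]
  · rw [h.r38]
  · rw [h.r45]
  · rw [h.r46]
  · rw [h.r47]
  · rw [h.r48]
  · rw [h.r56]
  · rw [h.r57]
  · rw [h.r58]
  · rw [h.r67]
  · rw [h.r68]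
  · rw [h.r78]

/-- the coordinates in `G` -/
def mapSys (S : Sys σ Y) (i : Y →* G) (hi : Function.Injective i) : Sys σ G where
  o a x := i (S.o a x)
  e a p u := i (S.e a p u)
  rot := i S.rot
  n1 := i S.n1
  n2 := i S.n2
  rel := mapRel i S.rel
  injO a _ _ h := S.injO a (hi h)
  injE a _ _ _ _ h := S.injE a _ _ _ _ (hi h)
  rot_o a x := by rw [← map_mul, ← map_inv, ← map_mul, S.rot_o]
  rot_e a p u := by rw [← map_mul, ← map_inv, ← map_mul, S.rot_e]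
  n1_o a x := by rw [← map_mul, ← map_inv, ← map_mul, S.n1_o]
  n1_e a p u := by rw [← map_mul, ← map_inv, ← map_mul, S.n1_e]
  n2_o a x := by rw [← map_mul, ← map_inv, ← map_mul, S.n2_o]
  n2_e a p u := by rw [← map_mul, ← map_inv, ← map_mul, S.n2_e]

/-! ### The position -/

/-- the Sylow 2-subgroup `U = X_1 … X_8` of `Y` -/
abbrev UY (S : Full σ Y) : Subgroup Y := J S.XZ 1 8

/-- `T = ⟨t⟩ × U` -/
def TT (S : Full σ Y) (i : Y →* G) (t : G) : Subgroup G := Subgroup.zpowers t ⊔ (UY S).map i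

/-- **The position.** -/
structure Pos (S : Full σ Y) (i : Y →* G) (t : G) : Prop where
  finG : Finite G
  finF : Finite F
  big : 8 ≤ Nat.card F
  inj : Function.Injective i
  tt : t * t = 1
  t1 : t ≠ 1
  ti : ∀ y : Y, t * i y = i y * t
  tY : ∀ y : Y, i y ≠ t
  /-- `C_G(t)` normalises `K` -/
  nK : ∀ c : G, c * t = t * c → ∀ y : Y, ∃ y' : Y, c * i y * c⁻¹ = i y'
  /-- (K2) -/
  cZ : ∀ c : G, c * t = t * c → (∀ z ∈ S.Zc 2, c * i z = i z * c) → ∃ y : Y, c = i y ∨ c = t * i y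
  /-- `Y` is generated by its root elements -/
  gen : ∀ L : Subgroup Y, (∀ a x, S.o a x ∈ L) → (∀ a p u, S.e a p u ∈ L) → L = ⊤
  /-- `G` is perfect -/
  perf : commutator G = ⊤
  /-- `T` is a Sylow 2-subgroup of `C_G(t)` -/
  pT : IsPGroup 2 (TT S i t)
  max : ∀ P : Subgroup G, IsPGroup 2 P → TT S i t ≤ P → (∀ x ∈ P, x * t = t * x) → P ≤ TT S i t
  /-- the fusion -/
  fus : ∃ n ∈ Subgroup.normalizer (TT S i t : Set G), n * t * n⁻¹ ≠ t ∧ (∃ z ∈ S.Zc 2, n * t * n⁻¹ = t * i z) ∧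
    (∀ z ∈ S.Zc 2, ∃ z' ∈ S.Zc 2, n * i z * n⁻¹ = i z') ∧ ∀ z ∈ S.Zc 2, ∃ z' ∈ S.Zc 2, n⁻¹ * i z * n = i z'

namespace Pos

variable {S : Full σ Y} {i : Y →* G} {t : G} (P : Pos S i t)

include P

theorem t_inv : t⁻¹ = t := inv_eq_of_mul_eq_one_left P.tt

/-- the coordinates in `G` -/
def sys : Sys σ G := mapSys S.toSys i P.inj

theorem sys_o (a : ZMod 8) (x : F) : P.sys.o a x = i (S.o a x) := rfl
theorem sys_e (a : ZMod 8) (p u : F) : P.sys.e a p u = i (S.e a p u) := rfl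

/-- **The lift**: an element of `C_G(t)` centralising `i A`, `Z_{2a} ≤ A`, lies in `⟨t⟩ × i C_Y(A)`. -/
theorem lift {A : Set Y} {a : ℤ} (hA : ∀ z ∈ S.Zc (a : ZMod 8), z ∈ A) {c : G} (hct : c * t = t * c)
    (hc : ∀ y ∈ A, c * i y = i y * c) : ∃ y ∈ Subgroup.centralizer A, c = i y ∨ c = t * i y := by
  -- rotate `Z_{2a}` to `Z_4`
  set g : Y := S.rot ^ (2 - a) with hg
  have hZ : ∀ z ∈ S.Zc 2, g⁻¹ * z * g ∈ S.Zc (a : ZMod 8) := by
    intro z hz
    have h1 : (S.Zc (a : ZMod 8)).map (S.ck (2 - a)).toMonoidHom = S.Zc ((a : ZMod 8) + ((2 - a : ℤ) : ZMod 8)) :=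
      S.map_Zc (2 - a) a
    have h2 : ((a : ZMod 8) + ((2 - a : ℤ) : ZMod 8)) = 2 := by push_cast; ring
    rw [h2] at h1
    rw [← h1] at hz
    obtain ⟨x, hx, rfl⟩ := hz
    have e : g⁻¹ * (S.ck (2 - a)).toMonoidHom x * g = x := by
      show g⁻¹ * (g * x * g⁻¹) * g = x
      group
    rwa [e]
  have hgt := P.ti g
  obtain ⟨y, hy⟩ := P.cZ (i g * c * (i g)⁻¹) (by
    have h1 : (i g)⁻¹ * t = t * (i g)⁻¹ := by
      have := P.ti g⁻¹
      rw [map_inv] at this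
      exact this.symm
    calc i g * c * (i g)⁻¹ * t = i g * c * ((i g)⁻¹ * t) := by group
      _ = i g * (c * t) * (i g)⁻¹ := by rw [h1]; group
      _ = (i g * t) * c * (i g)⁻¹ := by rw [hct]; group
      _ = t * (i g * c * (i g)⁻¹) := by rw [← hgt]; group) (by
    intro z hz
    have h1 := hc _ (hA _ (hZ z hz))
    rw [map_mul, map_mul, map_inv] at h1
    calc i g * c * (i g)⁻¹ * i z = i g * (c * ((i g)⁻¹ * i z * i g)) * (i g)⁻¹ := by group
      _ = _ := by rw [h1]; group)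
  have key : ∃ y : Y, c = i y ∨ c = t * i y := by
    refine ⟨g⁻¹ * y * g, ?_⟩
    have e : c = (i g)⁻¹ * (i g * c * (i g)⁻¹) * i g := by group
    rcases hy with hy | hy
    · left
      rw [e, hy, map_mul, map_mul, map_inv]
    · right
      rw [e, hy, map_mul, map_mul, map_inv]
      have h1 : (i g)⁻¹ * t = t * (i g)⁻¹ := by
        have := P.ti g⁻¹
        rw [map_inv] at this
        exact this.symm
      calc (i g)⁻¹ * (t * i y) * i g = ((i g)⁻¹ * t) * i y * i g := by group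
        _ = _ := by rw [h1]; group
  obtain ⟨y, hy⟩ := key
  refine ⟨y, ?_, hy⟩
  rw [Subgroup.mem_centralizer_iff]
  intro x hx
  apply P.inj
  rw [map_mul, map_mul]
  have h1 := hc x hx
  rcases hy with rfl | rfl
  · exact h1.symm
  · have h2 : t * (i y * i x) = t * (i x * i y) := by
      calc t * (i y * i x) = t * i y * i x := by group
        _ = i x * (t * i y) := h1
        _ = (i x * t) * i y := by group
        _ = t * (i x * i y) := by rw [← P.ti]; group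
    exact (mul_left_cancel h2).symm

/-- the case of an element outside `⟨t⟩ C` -/
theorem t_mul_ne {y y' : Y} : t * i y ≠ i y' := by
  intro h
  apply P.tY (y' * y⁻¹)
  rw [map_mul, map_inv, ← h]
  group

end Pos

/-! ### The doubles of the centres -/

/-- the double of `Z ≤ Y` (as a set) -/
def WS (i : Y →* G) (t : G) (Z : Subgroup Y) : Set G :=
  {w | w * w = 1 ∧ (∀ y : Y, (∀ z ∈ Z, y * z = z * y) → w * i y = i y * w) ∧ (∃ z ∈ Z, t * w * t = w * i z) ∧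
    ¬ ∃ z ∈ Z, w = t * i z}

/-- `WS` is natural -/
theorem WS_conj {i : Y →* G} {t : G} (ti : ∀ y : Y, t * i y = i y * t) {Z Z' : Subgroup Y} {g : Y}
    (hg : ∀ z, z ∈ Z ↔ g * z * g⁻¹ ∈ Z') {w : G} (hw : w ∈ WS i t Z) : i g * w * (i g)⁻¹ ∈ WS i t Z' := by
  obtain ⟨h1, h2, ⟨z, hz, h3⟩, h4⟩ := hw
  have hgt := ti g
  have hgt' : t * (i g)⁻¹ = (i g)⁻¹ * t := by
    have := ti g⁻¹
    rwa [map_inv] at this
  refine ⟨?_, ?_, ⟨g * z * g⁻¹, (hg z).1 hz, ?_⟩, ?_⟩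
  · calc i g * w * (i g)⁻¹ * (i g * w * (i g)⁻¹) = i g * (w * w) * (i g)⁻¹ := by group
      _ = 1 := by rw [h1]; group
  · intro y hy
    have h5 := h2 (g⁻¹ * y * g) (by
      intro z hz
      have h6 := hy _ ((hg z).1 hz)
      calc g⁻¹ * y * g * z = g⁻¹ * (y * (g * z * g⁻¹)) * g := by group
        _ = z * (g⁻¹ * y * g) := by rw [h6]; group)
    rw [map_mul, map_mul, map_inv] at h5
    calc i g * w * (i g)⁻¹ * i y = i g * (w * ((i g)⁻¹ * i y * i g)) * (i g)⁻¹ := by group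
      _ = i y * (i g * w * (i g)⁻¹) := by rw [h5]; group
  · rw [map_mul, map_mul, map_inv]
    calc t * (i g * w * (i g)⁻¹) * t = (t * i g) * w * ((i g)⁻¹ * t) := by group
      _ = i g * (t * w * t) * (i g)⁻¹ := by rw [hgt, ← hgt']; group
      _ = i g * w * (i g)⁻¹ * (i g * i z * (i g)⁻¹) := by rw [h3]; group
  · rintro ⟨z', hz', h5⟩
    apply h4
    refine ⟨g⁻¹ * z' * g, ?_, ?_⟩
    · rw [hg]
      have e : g * (g⁻¹ * z' * g) * g⁻¹ = z' := by group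
      rwa [e]
    · rw [map_mul, map_mul, map_inv]
      calc w = (i g)⁻¹ * (i g * w * (i g)⁻¹) * i g := by group
        _ = ((i g)⁻¹ * t) * i z' * i g := by rw [h5]; group
        _ = t * ((i g)⁻¹ * i z' * i g) := by rw [← hgt']; group

/-- **Output of section 1.** `W a` (`a : ℤ`) is the double of `Z_{2a}`. -/
structure WData (S : Full σ Y) (i : Y →* G) (t : G) (W : ℤ → Subgroup G) : Prop where
  mem : ∀ (a : ℤ) (w : G), w ∈ W a ↔ w ∈ WS i t (S.Zc (a : ZMod 8))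
  /-- every `z ∈ Z_{2a}` is a commutator `[w, t]` -/
  sur : ∀ a : ℤ, ∀ z ∈ S.Zc (a : ZMod 8), ∃ w ∈ W a, t * w * t = w * i z
  /-- `[W_{2a}, W_{2a+2}] = 1` -/
  one : ∀ a : ℤ, ∀ w ∈ W a, ∀ w' ∈ W (a + 1), w * w' = w' * w
  /-- `[W_{2a+2}, X_{2a-3}] ≤ W_{2a}` -/
  two : ∀ a : ℤ, ∀ w ∈ W (a + 1), ∀ y ∈ S.XZ (2 * a - 3), w * i y * w⁻¹ * (i y)⁻¹ ∈ W a
  /-- `[W_{2a}, X_{2a+5}] ≤ W_{2a+2}` -/
  two' : ∀ a : ℤ, ∀ w ∈ W a, ∀ y ∈ S.XZ (2 * a + 5), w * i y * w⁻¹ * (i y)⁻¹ ∈ W (a + 1)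

namespace WData

variable {S : Full σ Y} {i : Y →* G} {t : G} {W : ℤ → Subgroup G} (D : WData S i t W)

include D

theorem sq {a : ℤ} {w : G} (hw : w ∈ W a) : w * w = 1 := ((D.mem a w).1 hw).1

theorem cent {a : ℤ} {w : G} (hw : w ∈ W a) {y : Y} (hy : ∀ z ∈ S.Zc (a : ZMod 8), y * z = z * y) :
    w * i y = i y * w := ((D.mem a w).1 hw).2.1 y hy

theorem comm {a : ℤ} {w : G} (hw : w ∈ W a) : ∃ z ∈ S.Zc (a : ZMod 8), t * w * t = w * i z := ((D.mem a w).1 hw).2.2.1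

theorem notMem {a : ℤ} {w : G} (hw : w ∈ W a) : ¬ ∃ z ∈ S.Zc (a : ZMod 8), w = t * i z := ((D.mem a w).1 hw).2.2.2

theorem ab {a : ℤ} {w w' : G} (hw : w ∈ W a) (hw' : w' ∈ W a) : w * w' = w' * w := by
  have h1 := D.sq hw
  have h2 := D.sq hw'
  have h3 := D.sq (mul_mem hw hw')
  have e1 : w⁻¹ = w := inv_eq_of_mul_eq_one_left h1
  have e2 : w'⁻¹ = w' := inv_eq_of_mul_eq_one_left h2
  have e3 : (w * w')⁻¹ = w * w' := inv_eq_of_mul_eq_one_left h3
  rw [mul_inv_rev, e1, e2] at e3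
  exact e3.symm

/-- elements of `Y` moving `Z_{2a}` to `Z_{2b}` move `W a` to `W b` -/
theorem conj (ti : ∀ y : Y, t * i y = i y * t) {a b : ℤ} {g : Y}
    (hg : ∀ z, z ∈ S.Zc (a : ZMod 8) ↔ g * z * g⁻¹ ∈ S.Zc (b : ZMod 8)) {w : G} (hw : w ∈ W a) :
    i g * w * (i g)⁻¹ ∈ W b := (D.mem b _).2 (WS_conj ti hg ((D.mem a w).1 hw))

end WData

end Cfsg.Agent.OddHalf.D7TwF4.Defs
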