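import Cfsg.Agent.KFacts.TwF4.Sys

/-!
# D7, `K = ²F₄(q)`: the elements `n` of section 1.3 (text: helper544, bb ODD 13028)

`NEl S i t a φ u n` : `n` moves `t` to `t x` with `x = e a 0 u` in the centre of the root group `X_{2a}`, centralises
`X_{2a±1}, X_{2a±2}, X_{2a±3}`, acts on `X_{2a}`, `X_{2a±4}` through the additive map `φ` (`φ (σ p) = φ 1 * p`).
-/

set_option autoImplicit false

namespace Cfsg.Agent.OddHalf.D7TwF4

open Cfsg.Agent.KFacts.TwF4

/-- the elements of section 1.3 -/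
structure NEl {F : Type*} [Field F] {σ : F →+* F} {Y G : Type*} [Group Y] [Group G] (S : Sys σ Y) (i : Y →* G) (t : G)
    (a : ZMod 8) (φ : F → F) (u : F) (n : G) : Prop where
  tau : n⁻¹ * t * n = t * i (S.e a 0 u)
  z : ∀ v, n * i (S.e a 0 v) = i (S.e a 0 v) * n
  o0 : ∀ s, n * i (S.o a s) = i (S.o a s) * n
  o1 : ∀ s, n * i (S.o (a + 1) s) = i (S.o (a + 1) s) * n
  om1 : ∀ s, n * i (S.o (a - 1) s) = i (S.o (a - 1) s) * n
  om2 : ∀ s, n * i (S.o (a - 2) s) = i (S.o (a - 2) s) * n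
  e1 : ∀ p w, n * i (S.e (a + 1) p w) = i (S.e (a + 1) p w) * n
  em1 : ∀ p w, n * i (S.e (a - 1) p w) = i (S.e (a - 1) p w) * n
  x0 : ∀ p w, n⁻¹ * i (S.e a p w) * n = i (S.e a p (w + φ p))
  xp : ∀ q v, n⁻¹ * i (S.e (a + 2) q v) * n = i (S.e (a + 2) q v * S.o a (φ q) * S.e (a + 1) 0 (φ v))
  xm : ∀ q v, n⁻¹ * i (S.e (a - 2) q v) * n = i (S.e (a - 2) q v * S.o (a - 1) (φ q) * S.e (a - 1) 0 (φ v))
  add : ∀ p q, φ (p + q) = φ p + φ q
  phi : ∀ p, φ (σ p) = φ 1 * p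

namespace NEl

variable {F : Type*} [Field F] {σ : F →+* F} {Y G : Type*} [Group Y] [Group G] {S : Sys σ Y} {i : Y →* G} {t : G}
  {a : ZMod 8} {φ : F → F} {u : F} {n : G}

theorem phi_zero (h : NEl S i t a φ u n) : φ 0 = 0 := by
  have := h.phi 0
  rwa [map_zero, mul_zero] at this

/-- the rotation carries position `a` to position `a + 1` -/
theorem rot (h : NEl S i t a φ u n) (ht : ∀ y, t * i y = i y * t) :
    NEl S i t (a + 1) φ u (i S.rot * n * (i S.rot)⁻¹) := by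
  have hro : ∀ b s, i (S.o (b + 1) s) = i S.rot * i (S.o b s) * (i S.rot)⁻¹ := fun b s => by
    rw [← map_inv, ← map_mul, ← map_mul, S.rot_o]
  have hre : ∀ b p w, i (S.e (b + 1) p w) = i S.rot * i (S.e b p w) * (i S.rot)⁻¹ := fun b p w => by
    rw [← map_inv, ← map_mul, ← map_mul, S.rot_e]
  have hc : ∀ r x : G, n * x = x * n → (r * n * r⁻¹) * (r * x * r⁻¹) = r * x * r⁻¹ * (r * n * r⁻¹) := by
    intro r x hx
    calc (r * n * r⁻¹) * (r * x * r⁻¹) = r * (n * x) * r⁻¹ := by group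
      _ = r * (x * n) * r⁻¹ := by rw [hx]
      _ = _ := by group
  have hj : ∀ r x : G, (r * n * r⁻¹)⁻¹ * (r * x * r⁻¹) * (r * n * r⁻¹) = r * (n⁻¹ * x * n) * r⁻¹ := by
    intro r x; group
  have a2 : a + 1 - 1 = (a - 1) + 1 := by ring
  have a3 : a + 1 - 2 = (a - 2) + 1 := by ring
  have a4 : a + 1 + 2 = (a + 2) + 1 := by ring
  refine
    { tau := ?_
      z := fun v => ?_
      o0 := fun s => ?_
      o1 := fun s => ?_
      om1 := fun s => ?_
      om2 := fun s => ?_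
      e1 := fun p w => ?_
      em1 := fun p w => ?_
      x0 := fun p w => ?_
      xp := fun q v => ?_
      xm := fun q v => ?_
      add := h.add
      phi := h.phi }
  · have h1 : t = i S.rot * t * (i S.rot)⁻¹ := by rw [← ht, mul_inv_cancel_right]
    rw [hre]
    calc (i S.rot * n * (i S.rot)⁻¹)⁻¹ * t * (i S.rot * n * (i S.rot)⁻¹)
        = (i S.rot * n * (i S.rot)⁻¹)⁻¹ * (i S.rot * t * (i S.rot)⁻¹) * (i S.rot * n * (i S.rot)⁻¹) := by rw [← h1]
      _ = i S.rot * (n⁻¹ * t * n) * (i S.rot)⁻¹ := hj _ _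
      _ = (i S.rot * t * (i S.rot)⁻¹) * (i S.rot * i (S.e a 0 u) * (i S.rot)⁻¹) := by rw [h.tau]; group
      _ = _ := by rw [← h1]
  · rw [hre]; exact hc _ _ (h.z v)
  · rw [hro]; exact hc _ _ (h.o0 s)
  · rw [hro]; exact hc _ _ (h.o1 s)
  · rw [a2, hro]; exact hc _ _ (h.om1 s)
  · rw [a3, hro]; exact hc _ _ (h.om2 s)
  · rw [hre]; exact hc _ _ (h.e1 p w)
  · rw [a2, hre]; exact hc _ _ (h.em1 p w)
  · rw [hre, hj, h.x0, ← hre]
  · rw [a4, map_mul, map_mul, hre (a + 2), hj, h.xp, map_mul, map_mul, hro a, hre (a + 1)]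
    simp only [mul_assoc, inv_mul_cancel_left]
  · rw [a3, a2, map_mul, map_mul, hre (a - 2), hj, h.xm, map_mul, map_mul, hro (a - 1), hre (a - 1)]
    simp only [mul_assoc, inv_mul_cancel_left]

end NEl

end Cfsg.Agent.OddHalf.D7TwF4
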