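import Cfsg.Agent.OddHalf.D7TwF4.NormC

/-!
# D7, `K = ²F₄(q)`: the action on `Q` and on `X_8`, `X_0` (helper467)

`NR S f φ` : the final form. `NF.exists_NR`: every `f` is conjugate by an element of `U` to one of the final form.
-/

set_option autoImplicit false
set_option maxHeartbeats 400000
set_option linter.unusedSectionVars false

namespace Cfsg.Agent.OddHalf.D7TwF4.NormF

open Cfsg.Agent.KFacts.TwF4 Cfsg.Agent.SplitTwo.ZS Cfsg.Agent.OddHalf.D7TwF4.NormE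
open Cfsg.Agent.OddHalf.D7TwF4.NormSuz
open Cfsg.Agent.KFacts.TwF4.Inv Cfsg.Agent.KFacts.TwF4.SylU Cfsg.Agent.KFacts.TwF4.Perf Cfsg.Agent.KFacts.TwF4.Arc

universe u w

variable {F : Type w} [Field F] {σ : F →+* F} {Y : Type u} [Group Y] [Finite F] [Finite Y]

/-- `N2` and `f = 1` on `X_7` -/
structure N3 (S : Full σ Y) (f : Y → Y) : Prop extends N2 S f where
  fix7 : ∀ s, f (S.o 3 s) = S.o 3 s

/-- the final form -/
structure NR (S : Full σ Y) (f : Y → Y) (φ : F → F) : Prop extends N3 S f where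
  fix1 : ∀ s, f (S.o 0 s) = S.o 0 s
  fix2 : ∀ p u, f (S.e 1 p u) = S.e 1 p u
  fix3 : ∀ s, f (S.o 1 s) = S.o 1 s
  fix5 : ∀ s, f (S.o 2 s) = S.o 2 s
  fix6 : ∀ p u, f (S.e 3 p u) = S.e 3 p u
  f4 : ∀ p u, f (S.e 2 p u) = S.e 2 p (u + φ p)
  f8 : ∀ q v, f (S.e 4 q v) = S.e 4 q v * S.o 2 (φ q) * S.e 3 0 (φ v)
  f0 : ∀ q v, f (S.e 0 q v) = S.e 0 q v * S.o 1 (φ q) * S.e 1 0 (φ v)
  add : ∀ x y, φ (x + y) = φ x + φ y
  phi : ∀ p q, φ (σ p * q) = p * φ q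

namespace N2

variable {S : Full σ Y} {f : Y → Y} (N : N2 S f)

include N

theorem eqv (d : Fˣ) {y : Y} (hy : y ∈ S.PL) : f (sT S d * y * (sT S d)⁻¹) = sT S d * f y * (sT S d)⁻¹ := by
  rw [N.conj (sT_PL S d) hy, N.fixS _ (sT_mem S d)]

/-- `X_7` -/
theorem form7 (hF : ∃ c : Fˣ, c ≠ 1) : ∃ g, ∀ s, f (S.o 3 s) = S.o 3 s * S.e 3 0 (g * s) := by
  have hform : ∀ s, ∃ z d, f (S.o 3 s) = S.o 3 s * EE S 0 0 z 0 d := by
    intro s
    obtain ⟨w, hw, e⟩ := N.eps _ (PL7 S s)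
    obtain ⟨z, d, rfl⟩ := mem_of_comm8 S hw fun q v => by
      obtain ⟨w', hw', e'⟩ := N.eps _ (PL8 S q v)
      obtain ⟨z, hz⟩ := Q_Q2_comm S (mQ7 S s) hw'
      refine ⟨z, ?_⟩
      have hc : S.o 3 s * S.e 4 q v = S.e 4 q v * S.o 3 s := S.o_e1 3 s q v
      have h1 : f (S.o 3 s) * f (S.e 4 q v) = f (S.e 4 q v) * f (S.o 3 s) := by
        rw [← N.mul _ (PL7 S s) _ (PL8 S q v), hc, N.mul _ (PL8 S q v) _ (PL7 S s)]
      rw [e, e'] at h1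
      have hzw : S.e 2 0 z * w = w * S.e 2 0 z := Q2_comm S (S.q2_3 z) hw
      have hzw' : S.e 2 0 z * w' = w' * S.e 2 0 z := Q2_comm S (S.q2_3 z) hw'
      have hww : w' * w = w * w' := Q2_comm S hw' hw
      have h2 : S.o 3 s * (w * S.e 4 q v * w') = S.o 3 s * (S.e 4 q v * w * S.e 2 0 z * w') := by
        calc S.o 3 s * (w * S.e 4 q v * w') = S.o 3 s * w * (S.e 4 q v * w') := by group
          _ = S.e 4 q v * (w' * S.o 3 s) * w := by rw [h1]; group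
          _ = (S.e 4 q v * S.o 3 s) * w' * (S.e 2 0 z * w) := by rw [hz]; group
          _ = (S.o 3 s * S.e 4 q v) * (w' * w) * S.e 2 0 z := by rw [hzw, hc]; group
          _ = S.o 3 s * S.e 4 q v * w * (w' * S.e 2 0 z) := by rw [hww]; group
          _ = _ := by rw [← hzw']; group
      exact mul_right_cancel (mul_left_cancel h2)
    exact ⟨z, d, e⟩
  choose ζ δ h using hform
  have hadd : ∀ x y, ζ (x + y) = ζ x + ζ y ∧ δ (x + y) = δ x + δ y := by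
    intro x y
    have h1 := N.mul _ (PL7 S x) _ (PL7 S y)
    have h2 := act_o3 S y 0 0 (ζ x) 0 (δ x)
    rw [S.o_add, h, h, h] at h1
    have h3 : S.o 3 x * EE S 0 0 (ζ x) 0 (δ x) * (S.o 3 y * EE S 0 0 (ζ y) 0 (δ y)) =
        S.o 3 (x + y) * EE S 0 0 (ζ x + ζ y) 0 (δ x + δ y) := by
      calc S.o 3 x * EE S 0 0 (ζ x) 0 (δ x) * (S.o 3 y * EE S 0 0 (ζ y) 0 (δ y)) =
          S.o 3 x * (EE S 0 0 (ζ x) 0 (δ x) * S.o 3 y) * EE S 0 0 (ζ y) 0 (δ y) := by group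
        _ = (S.o 3 x * S.o 3 y) * (EE S 0 0 (ζ x + 0 * δ x + 0 * 0 + 0 * 0 + y * 0) 0 (δ x) *
            EE S 0 0 (ζ y) 0 (δ y)) := by rw [h2]; group
        _ = _ := by
          rw [S.o_add, EE_mul]
          congr 2 <;> ring
    rw [h3] at h1
    obtain ⟨-, -, h4, -, h5⟩ := EE_inj S (mul_left_cancel h1)
    exact ⟨h4, h5⟩
  have heqv : ∀ (s : Fˣ) x, ζ (((s : F) * σ s)⁻¹ * x) = ζ x ∧ δ (((s : F) * σ s)⁻¹ * x) = ((s : F) * σ s)⁻¹ * δ x := by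
    intro s x
    have h1 := N.eqv s (PL7 S x)
    have h2 : sT S s * (S.o 3 x * EE S 0 0 (ζ x) 0 (δ x)) * (sT S s)⁻¹ =
        (sT S s * S.o 3 x * (sT S s)⁻¹) * (sT S s * EE S 0 0 (ζ x) 0 (δ x) * (sT S s)⁻¹) := by group
    rw [sT_o3, h, h, h2, sT_o3, sT_EE] at h1
    obtain ⟨-, -, h3, -, h4⟩ := EE_inj S (mul_left_cancel h1)
    exact ⟨h3, h4⟩
  obtain ⟨s, -, hs⟩ := exists_unit S hF
  have hζ : ∀ x, ζ x = 0 := tt0 S.two (fun x y => (hadd x y).1) hs (fun x => (heqv s x).1)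
  have hδ : ∀ x, δ x = x * δ 1 := scal (fun x y => (hadd x y).2) fun c x => by
    obtain ⟨s, hs⟩ := exists_s1 S c
    have := (heqv s x).2
    rwa [hs] at this
  refine ⟨δ 1, fun s => ?_⟩
  rw [h, hζ, hδ, ← EE_d, mul_comm]

/-- normalisation on `X_7` -/
theorem exists_N3 (hF : ∃ c : Fˣ, c ≠ 1) : ∃ g, N3 S (fun x => S.e 2 g 0 * f x * (S.e 2 g 0)⁻¹) := by
  obtain ⟨g, hg⟩ := N.form7 hF
  have hw : S.e 2 g 0 ∈ S.Q1 := Subgroup.mem_sup_left (S.mX4 g 0)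
  refine ⟨g, ?_⟩
  exact
    { N.conjU (w := S.e 2 g 0) (mem_J (S.mX4 g 0) (by norm_num) (by norm_num)) with
      fixS := fun s hs => by
        rw [N.fixS s hs, ← S.Tk_comm hs (S.mX4 g 0), mul_inv_cancel_right]
      n2c := fun y hy => by
        have e : S.n2 * S.e 2 g 0 = S.e 2 g 0 * S.n2 := by
          have : S.n2 * S.e 2 g 0 * S.n2⁻¹ = S.e 2 g 0 := S.n2_e 2 g 0
          rw [mul_inv_eq_iff_eq_mul] at this
          exact this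
        show S.e 2 g 0 * f (S.n2 * y * S.n2⁻¹) * (S.e 2 g 0)⁻¹ = _
        rw [N.n2c y hy]
        calc S.e 2 g 0 * (S.n2 * f y * S.n2⁻¹) * (S.e 2 g 0)⁻¹ =
            (S.e 2 g 0 * S.n2) * f y * (S.e 2 g 0 * S.n2)⁻¹ := by group
          _ = _ := by rw [← e]; group
      fixE := fun w' hw' => by
        show S.e 2 g 0 * f w' * (S.e 2 g 0)⁻¹ = _
        rw [N.fixE _ hw', S.Q1_comm hw hw', mul_inv_cancel_right]
      eps := fun x hx => by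
        obtain ⟨w', hw', e⟩ := N.eps x hx
        refine ⟨(x⁻¹ * S.e 2 g 0 * x⁻¹⁻¹ * (S.e 2 g 0)⁻¹) * (S.e 2 g 0 * w' * (S.e 2 g 0)⁻¹),
          mul_mem (comm_Q1 S (inv_mem hx) hw) (Q2_conj S (Q1_le_PL S hw) hw'), ?_⟩
        show S.e 2 g 0 * f x * (S.e 2 g 0)⁻¹ = _
        rw [e]; group
      fix7 := fun s => by
        show S.e 2 g 0 * f (S.o 3 s) * (S.e 2 g 0)⁻¹ = _
        have r : S.e 2 g 0 * S.o 3 s = S.o 3 s * S.e 2 g 0 * S.e 3 0 (g * s) := S.e_o1 2 g 0 s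
        rw [hg, ← mul_assoc, r, mul_assoc (S.o 3 s * S.e 2 g 0), ze, NormE.char2 S, S.e_zero]; group }

end N2

theorem exists_ne_sigma {S : Full σ Y} (hF : ∃ c : Fˣ, c ≠ 1) : ∃ x : F, σ x ≠ x := by
  obtain ⟨c, hc⟩ := hF
  exact ⟨c, fun h => hc (s2 S (Units.ext h))⟩

namespace N3

variable {S : Full σ Y} {f : Y → Y} (N : N3 S f)

include N

theorem fix1 (s : F) : f (S.o 0 s) = S.o 0 s := by
  have e : S.n2 * S.o 3 s * S.n2⁻¹ = S.o 0 s := S.n2_o 3 s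
  rw [← e, N.n2c _ (PL7 S s), N.fix7]

/-- the elements of `Q` fixed modulo `Z_4` -/
def K2 : Subgroup Y where
  carrier := {x | x ∈ S.Q ∧ ∃ z, f x = x * S.e 2 0 z}
  one_mem' := ⟨one_mem _, 0, by rw [N.one, S.e_zero, mul_one]⟩
  mul_mem' := by
    rintro x y ⟨hx, z, h⟩ ⟨hy, z', h'⟩
    refine ⟨mul_mem hx hy, z + z', ?_⟩
    have hc : y * S.e 2 0 z = S.e 2 0 z * y := S.comm_PL (Q_le_PL S hy) ⟨z, rfl⟩
    rw [N.mul _ (Q_le_PL S hx) _ (Q_le_PL S hy), h, h', ← ze]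
    calc x * S.e 2 0 z * (y * S.e 2 0 z') = x * (S.e 2 0 z * y) * S.e 2 0 z' := by group
      _ = _ := by rw [← hc]; group
  inv_mem' := by
    rintro x ⟨hx, z, h⟩
    refine ⟨inv_mem hx, z, ?_⟩
    have hc : x⁻¹ * S.e 2 0 z = S.e 2 0 z * x⁻¹ := S.comm_PL (inv_mem (Q_le_PL S hx)) ⟨z, rfl⟩
    rw [N.inv (Q_le_PL S hx), h, mul_inv_rev, zi, hc]

theorem mem_K2 {x : Y} : x ∈ N.K2 ↔ x ∈ S.Q ∧ ∃ z, f x = x * S.e 2 0 z := Iff.rfl

theorem K2_of_fix {x : Y} (hx : x ∈ S.Q) (h : f x = x) : x ∈ N.K2 := ⟨hx, 0, by rw [h, S.e_zero, mul_one]⟩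

theorem K2_E {x : Y} (hx : x ∈ S.Q2) : x ∈ N.K2 := N.K2_of_fix (Q2_le_Q S hx) (N.fixE x hx)

/-- `K2` is normalised by `PL` -/
theorem K2_conj {g x : Y} (hg : g ∈ S.PL) (hx : x ∈ N.K2) : g * x * g⁻¹ ∈ N.K2 := by
  obtain ⟨hxQ, z, h⟩ := hx
  obtain ⟨w, hw, e⟩ := N.eps g hg
  obtain ⟨z', hz'⟩ := Q_Q2_comm S hxQ hw
  refine ⟨Perf.Q_norm S hg hxQ, z' + z, ?_⟩
  have hc : ∀ z, w⁻¹ * S.e 2 0 z = S.e 2 0 z * w⁻¹ := fun z => Q2_comm S (inv_mem hw) (S.q2_3 z)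
  have hc' : g⁻¹ * S.e 2 0 (z' + z) = S.e 2 0 (z' + z) * g⁻¹ := S.comm_PL (inv_mem hg) ⟨z' + z, rfl⟩
  rw [N.conj hg (Q_le_PL S hxQ), h, e]
  calc g * w * (x * S.e 2 0 z) * (g * w)⁻¹ = g * (w * x) * S.e 2 0 z * w⁻¹ * g⁻¹ := by group
    _ = g * x * w * (S.e 2 0 z' * S.e 2 0 z) * w⁻¹ * g⁻¹ := by rw [hz']; group
    _ = g * x * w * (S.e 2 0 (z' + z) * w⁻¹) * g⁻¹ := by rw [ze]; group
    _ = g * x * (S.e 2 0 (z' + z) * g⁻¹) := by rw [← hc]; group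
    _ = _ := by rw [← hc']; group

theorem K2_conj' {g x : Y} (hg : g ∈ S.PL) (hx : x ∈ N.K2) : g⁻¹ * x * g ∈ N.K2 := by
  have := N.K2_conj (inv_mem hg) hx
  rwa [inv_inv] at this

theorem mK1 (t : F) : S.o 0 t ∈ N.K2 := N.K2_of_fix (mem_J (S.mX1 t) (by norm_num) (by norm_num)) (N.fix1 t)
theorem mK7 (t : F) : S.o 3 t ∈ N.K2 := N.K2_of_fix (mQ7 S t) (N.fix7 t)

theorem K2_pair (t v : F) : S.e 2 (σ t * v) 0 * S.e 3 (t * v) 0 ∈ N.K2 := by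
  have r := S.o_e4 0 t 0 v
  rw [show ((0 : ZMod 8) + 4) = 4 from rfl, show ((0 : ZMod 8) + 1) = 1 from rfl,
    show ((0 : ZMod 8) + 2) = 2 from rfl, show ((0 : ZMod 8) + 3) = 3 from rfl] at r
  simp only [mul_zero, zero_mul, map_zero, zero_add, add_zero] at r
  have h1 := N.K2_conj' (PL8 S 0 v) (N.mK1 t)
  rw [mul_assoc, r] at h1
  have h2 := mul_mem (inv_mem (mul_mem (mul_mem (N.mK1 t) (N.K2_E (S.q2_1 (t * σ t * v)))) (N.K2_E (S.q2_2 (t * σ t * σ v)))))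
    h1
  have h3 := mul_mem h2 (inv_mem (N.mK7 (t * σ v)))
  have hc : S.o 2 (t * σ t * v * v) * S.e 3 (t * v) 0 = S.e 3 (t * v) 0 * S.o 2 (t * σ t * v * v) := S.o_e1 2 _ _ _
  have hc2 := S.comm_PL (PL6 S (t * v) 0) (z := S.e 2 0 (t * t * σ t * v * σ v)) ⟨_, rfl⟩
  have e : (S.o 0 t * S.e 1 0 (t * σ t * v) * S.o 1 (t * σ t * σ v))⁻¹ *
      ((S.e 4 0 v)⁻¹ * (S.e 4 0 v * S.o 0 t * S.e 1 0 (t * σ t * v) * S.o 1 (t * σ t * σ v) *
        S.e 2 (σ t * v) (t * t * σ t * v * σ v) * S.o 2 (t * σ t * v * v) * S.e 3 (t * v) 0 * S.o 3 (t * σ v))) *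
      (S.o 3 (t * σ v))⁻¹ = S.e 2 (σ t * v) 0 * S.e 3 (t * v) 0 *
        (S.e 2 0 (t * t * σ t * v * σ v) * S.o 2 (t * σ t * v * v)) := by
    rw [e_split S 2 (σ t * v)]
    calc _ = S.e 2 (σ t * v) 0 * S.e 2 0 (t * t * σ t * v * σ v) * (S.o 2 (t * σ t * v * v) * S.e 3 (t * v) 0) := by group
      _ = S.e 2 (σ t * v) 0 * (S.e 2 0 (t * t * σ t * v * σ v) * S.e 3 (t * v) 0) * S.o 2 (t * σ t * v * v) := by
        rw [hc]; group
      _ = _ := by rw [← hc2]; group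
  rw [e] at h3
  have h4 := mul_mem h3 (inv_mem (N.K2_E (mul_mem (S.q2_3 (t * t * σ t * v * σ v)) (S.q2_4 (t * σ t * v * v)))))
  rwa [mul_inv_cancel_right] at h4

theorem mK4 (hF : ∃ c : Fˣ, c ≠ 1) (p : F) : S.e 2 p 0 ∈ N.K2 := by
  obtain ⟨τ, hτ⟩ := exists_ne_sigma (S := S) hF
  have hτ0 : τ ≠ 0 := by rintro rfl; exact hτ (map_zero σ)
  have hc : σ τ * τ⁻¹ ≠ 1 := by
    intro h
    apply hτ
    field_simp at h
    exact h
  have hc1 : 1 + σ τ * τ⁻¹ ≠ 0 := by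
    intro h
    apply hc
    have h2 := NormE.char2 S (1 : F)
    linear_combination h - h2
  set v := p * (1 + σ τ * τ⁻¹)⁻¹ with hv
  have h1 := N.K2_pair 1 v
  have h2 := N.K2_pair τ (τ⁻¹ * v)
  rw [map_one, one_mul] at h1
  rw [mul_inv_cancel_left₀ hτ0, ← mul_assoc] at h2
  have h3 := mul_mem h1 (inv_mem h2)
  have e : S.e 2 v 0 * S.e 3 v 0 * (S.e 2 (σ τ * τ⁻¹ * v) 0 * S.e 3 v 0)⁻¹ =
      S.e 2 p 0 * S.e 2 0 (σ τ * τ⁻¹ * v * σ (σ τ * τ⁻¹ * v) + v * σ (σ τ * τ⁻¹ * v)) := by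
    rw [mul_inv_rev, ← mul_assoc, mul_inv_cancel_right, e_inv S 2, S.e_mul, ← e_split]
    congr 1
    · have : v + σ τ * τ⁻¹ * v = (1 + σ τ * τ⁻¹) * v := by ring
      rw [this, hv, mul_comm p, mul_inv_cancel_left₀ hc1]
    · ring
  rw [e] at h3
  have h4 := mul_mem h3 (inv_mem (N.K2_E (S.q2_3 (σ τ * τ⁻¹ * v * σ (σ τ * τ⁻¹ * v) + v * σ (σ τ * τ⁻¹ * v)))))
  rwa [mul_inv_cancel_right] at h4

theorem mK6 (hF : ∃ c : Fˣ, c ≠ 1) (p : F) : S.e 3 p 0 ∈ N.K2 := by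
  have h1 := N.K2_pair 1 p
  rw [map_one, one_mul] at h1
  have h2 := mul_mem (inv_mem (N.mK4 hF p)) h1
  rwa [inv_mul_cancel_left] at h2

/-- `X_6` is fixed -/
theorem fix6 (hF : ∃ c : Fˣ, c ≠ 1) (p u : F) : f (S.e 3 p u) = S.e 3 p u := by
  have hform : ∀ p, ∃ z, f (S.e 3 p 0) = S.e 3 p 0 * S.e 2 0 z := fun p => (N.mK6 hF p).2
  choose ζ h using hform
  have hadd : ∀ x y, ζ (x + y) = ζ x + ζ y := by
    intro x y
    have h1 := N.mul _ (PL6 S x 0) _ (PL6 S y 0)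
    have e1 : S.e 3 x 0 * S.e 3 y 0 = S.e 3 (x + y) 0 * S.e 3 0 (x * σ y) := by
      rw [S.e_mul, ← e_split]; congr 1; ring
    rw [e1, N.mul _ (PL6 S _ 0) _ (PL6 S 0 _), N.fixE _ (S.q2_5 _), h, h, h] at h1
    have c1 := S.comm_PL (PL6 S y 0) (z := S.e 2 0 (ζ x)) ⟨_, rfl⟩
    have c2 := S.comm_PL (PL6 S 0 (x * σ y)) (z := S.e 2 0 (ζ (x + y))) ⟨_, rfl⟩
    have h2 : S.e 3 (x + y) 0 * S.e 3 0 (x * σ y) * S.e 2 0 (ζ (x + y)) =
        S.e 3 (x + y) 0 * S.e 3 0 (x * σ y) * S.e 2 0 (ζ x + ζ y) := by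
      calc S.e 3 (x + y) 0 * S.e 3 0 (x * σ y) * S.e 2 0 (ζ (x + y)) =
          S.e 3 (x + y) 0 * (S.e 3 0 (x * σ y) * S.e 2 0 (ζ (x + y))) := by group
        _ = S.e 3 (x + y) 0 * S.e 2 0 (ζ (x + y)) * S.e 3 0 (x * σ y) := by rw [c2]; group
        _ = S.e 3 x 0 * (S.e 2 0 (ζ x) * S.e 3 y 0) * S.e 2 0 (ζ y) := by rw [h1]; group
        _ = (S.e 3 x 0 * S.e 3 y 0) * (S.e 2 0 (ζ x) * S.e 2 0 (ζ y)) := by rw [← c1]; group
        _ = _ := by rw [e1, ze]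
    exact (S.injE 2 _ _ _ _ (mul_left_cancel h2)).2
  have heqv : ∀ (s : Fˣ) x, ζ ((s : F)⁻¹ * x) = ζ x := by
    intro s x
    have h1 := N.eqv s (PL6 S x 0)
    have h2 : sT S s * (S.e 3 x 0 * S.e 2 0 (ζ x)) * (sT S s)⁻¹ =
        (sT S s * S.e 3 x 0 * (sT S s)⁻¹) * (sT S s * S.e 2 0 (ζ x) * (sT S s)⁻¹) := by group
    rw [sT_e3, mul_zero, h, h, h2, sT_e3, mul_zero, sT_e2] at h1
    exact (S.injE 2 _ _ _ _ (mul_left_cancel h1)).2
  obtain ⟨s, hs, -⟩ := exists_unit S hF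
  rw [e_split, N.mul _ (PL6 S p 0) _ (PL6 S 0 u), N.fixE _ (S.q2_5 u), h, tt0 S.two hadd hs (heqv s), S.e_zero,
    mul_one]

theorem fix2 (hF : ∃ c : Fˣ, c ≠ 1) (p u : F) : f (S.e 1 p u) = S.e 1 p u := by
  have e : S.n2 * S.e 3 p u * S.n2⁻¹ = S.e 1 p u := S.n2_e 3 p u
  rw [← e, N.n2c _ (PL6 S p u), N.fix6 hF]

theorem exists_phi (hF : ∃ c : Fˣ, c ≠ 1) : ∃ φ : F → F, (∀ x y, φ (x + y) = φ x + φ y) ∧
    ∀ p u, f (S.e 2 p u) = S.e 2 p (u + φ p) := by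
  have hform : ∀ p, ∃ z, f (S.e 2 p 0) = S.e 2 p 0 * S.e 2 0 z := fun p => (N.mK4 hF p).2
  choose φ h using hform
  have h4 : ∀ p u, f (S.e 2 p u) = S.e 2 p (u + φ p) := by
    intro p u
    rw [e_split, N.mul _ (PL4 S p 0) _ (PL4 S 0 u), N.fixE _ (S.q2_3 u), h, mul_assoc, ze, ← e_split, add_comm]
  refine ⟨φ, fun x y => ?_, h4⟩
  have h1 := N.mul _ (PL4 S x 0) _ (PL4 S y 0)
  rw [S.e_mul, h4, h4, h4, S.e_mul] at h1
  have h2 := (S.injE 2 _ _ _ _ h1).2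
  linear_combination h2

section eight

variable {φ : F → F} (hadd : ∀ x y, φ (x + y) = φ x + φ y) (h4 : ∀ p u, f (S.e 2 p u) = S.e 2 p (u + φ p))

include hadd h4

theorem move4 (p u : F) : f (S.e 2 p u) = S.e 2 p u * S.e 2 0 (φ p) := by
  rw [h4, e_split S 2 p u, e_split S 2 p (u + φ p), mul_assoc, ze]

/-- `X_8`: the first form -/
theorem form8 (hF : ∃ c : Fˣ, c ≠ 1) (q v : F) : ∃ z c d, f (S.e 4 q v) = S.e 4 q v * EE S 0 0 z c d ∧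
    (∀ p, p * c = φ (σ p * q)) ∧ d = q * c + φ (q * σ q + v) := by
  obtain ⟨w, hw, e⟩ := N.eps _ (PL8 S q v)
  obtain ⟨a, b, z, c, d, rfl⟩ := mem_Q2 S hw
  have hEP : ∀ a b z c d, EE S a b z c d ∈ S.PL := fun a b z c d => Q2_le_PL S (EE_mem S a b z c d)
  -- the general principle
  have key : ∀ (x R : Y) (y t p r s : F), x ∈ S.PL → R ∈ S.PL → x * S.e 4 q v = S.e 4 q v * R → f x = x →
      f R = R * S.e 2 0 y → Act S R t p r s → t * d + p * c + r * b + s * a = y := by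
    intro x R y t p r s hx hR h1 hfx hfR hact
    have h2 := congrArg f h1
    rw [N.mul _ hx _ (PL8 S q v), N.mul _ (PL8 S q v) _ hR, hfx, hfR, e] at h2
    have h3 : S.e 4 q v * (R * EE S a b z c d) =
        S.e 4 q v * (R * (EE S a b (z + t * d + p * c + r * b + s * a) c d * S.e 2 0 y)) := by
      calc S.e 4 q v * (R * EE S a b z c d) = (S.e 4 q v * R) * EE S a b z c d := by group
        _ = x * (S.e 4 q v * EE S a b z c d) := by rw [← h1]; group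
        _ = S.e 4 q v * (EE S a b z c d * R) * S.e 2 0 y := by rw [h2]; group
        _ = _ := by rw [hact]; group
    have h5 := mul_left_cancel (mul_left_cancel h3)
    rw [EE_z, EE_mul] at h5
    obtain ⟨-, -, h6, -, -⟩ := EE_inj S h5
    have c0 := NormE.char2 S y
    linear_combination -c0 - h6
  -- `a = 0`
  have ha : a = 0 := by
    have h1 := key (S.o 3 1) (S.o 3 1) 0 0 0 0 1 (PL7 S 1) (PL7 S 1) (S.o_e1 3 1 q v) (N.fix7 1)
      (by rw [N.fix7, S.e_zero, mul_one]) (act_o3 S 1)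
    linear_combination h1
  have hb : b = 0 := by
    have h1 := key (S.e 3 1 0) (S.e 3 1 0 * S.o 3 (1 * q)) 0 (0 + 0) (0 + 0) (1 + 0) (0 + 1 * q) (PL6 S 1 0)
      (mul_mem (PL6 S 1 0) (PL7 S _))
      (by
        have : S.e 3 1 0 * S.e 4 q v = S.e 4 q v * S.e 3 1 0 * S.o 3 (1 * q) := S.e_e1 3 1 0 q v
        rw [this, mul_assoc]) (N.fix6 hF 1 0)
      (by rw [N.mul _ (PL6 S 1 0) _ (PL7 S _), N.fix6 hF, N.fix7, S.e_zero, mul_one])
      ((act_e3 S 1 0).mul (act_o3 S (1 * q)))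
    rw [ha] at h1
    linear_combination h1
  have hz : ∀ (g : Y) (y : F), g ∈ S.PL → g * S.e 2 0 y = S.e 2 0 y * g := fun g y hg => S.comm_PL hg ⟨y, rfl⟩
  refine ⟨z, c, d, by rw [e, ha, hb], fun p => ?_, ?_⟩
  · -- `X_2`
    have r := S.e_e3 1 p 0 q v
    rw [show ((1 : ZMod 8) + 3) = 4 from rfl, show ((1 : ZMod 8) + 1) = 2 from rfl,
      show ((1 : ZMod 8) + 2) = 3 from rfl] at r
    generalize p * σ p * q + 0 * q = B1 at r
    generalize p * 0 * v + p * p * σ p * v + σ 0 * q * σ q + σ 0 * v = B2 at r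
    generalize 0 * v = B3 at r
    generalize p * σ p * q * q * σ q + p * σ p * σ v + 0 * q * v + 0 * q * q * σ q + 0 * σ v = B4 at r
    generalize p * q * σ q + p * v = B5 at r
    have m1 := PL2 S p 0
    have m2 := mul_mem m1 (PL3 S B1)
    have m3 := mul_mem m2 (PL4 S (σ p * q) B2)
    have m4 := mul_mem m3 (PL5 S B3)
    have m5 := mul_mem m4 (PL6 S (p * σ q) B4)
    have m6 := mul_mem m5 (PL7 S B5)
    have hfR : f (S.e 1 p 0 * S.o 1 B1 * S.e 2 (σ p * q) B2 * S.o 2 B3 * S.e 3 (p * σ q) B4 * S.o 3 B5) =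
        S.e 1 p 0 * S.o 1 B1 * S.e 2 (σ p * q) B2 * S.o 2 B3 * S.e 3 (p * σ q) B4 * S.o 3 B5 *
          S.e 2 0 (φ (σ p * q)) := by
      rw [N.mul _ m5 _ (PL7 S B5), N.mul _ m4 _ (PL6 S _ B4), N.mul _ m3 _ (PL5 S B3), N.mul _ m2 _ (PL4 S _ B2),
        N.mul _ m1 _ (PL3 S B1), N.fix2 hF, N.fixE _ (S.q2_2 B1), N.fixE _ (S.q2_4 B3), N.fix6 hF, N.fix7,
        N.move4 hadd h4]
      calc S.e 1 p 0 * S.o 1 B1 * (S.e 2 (σ p * q) B2 * S.e 2 0 (φ (σ p * q))) * S.o 2 B3 * S.e 3 (p * σ q) B4 *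
            S.o 3 B5 = S.e 1 p 0 * S.o 1 B1 * S.e 2 (σ p * q) B2 *
              (S.e 2 0 (φ (σ p * q)) * (S.o 2 B3 * S.e 3 (p * σ q) B4 * S.o 3 B5)) := by group
        _ = _ := by rw [← hz _ _ (mul_mem (mul_mem (PL5 S B3) (PL6 S _ B4)) (PL7 S B5))]; group
    have h1 := key (S.e 1 p 0) _ (φ (σ p * q)) _ _ _ _ m1 m6 (by rw [r]; group) (N.fix2 hF p 0) hfR
      ((((((act_e1 S p 0).mul (act_o1 S B1)).mul (act_e2 S (σ p * q) B2)).mul (act_o2 S B3)).mul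
        (act_e3 S (p * σ q) B4)).mul (act_o3 S B5))
    rw [ha, hb] at h1
    linear_combination h1
  · -- `X_1`
    have r := S.o_e4 0 1 q v
    rw [show ((0 : ZMod 8) + 4) = 4 from rfl, show ((0 : ZMod 8) + 1) = 1 from rfl,
      show ((0 : ZMod 8) + 2) = 2 from rfl, show ((0 : ZMod 8) + 3) = 3 from rfl] at r
    simp only [map_one, one_mul] at r
    generalize q * σ q + v = A2 at r ⊢
    generalize q * v + q * q * σ q + σ v = A7 at r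
    generalize q * v * v + q * q * σ q * v + v * σ v = A5 at r
    generalize σ q * σ v + q * q * σ q * σ q + v * v = A4 at r
    generalize q * v * v + q * σ q * σ v + q * q * q * σ q * σ q = A6 at r
    have m1 := PL1 S 1
    have m2 := mul_mem m1 (PL2 S q A2)
    have m3 := mul_mem m2 (PL3 S A7)
    have m4 := mul_mem m3 (PL4 S A2 A5)
    have m5 := mul_mem m4 (PL5 S A4)
    have m6 := mul_mem m5 (PL6 S v A6)
    have m7 := mul_mem m6 (PL7 S A7)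
    have hfR : f (S.o 0 1 * S.e 1 q A2 * S.o 1 A7 * S.e 2 A2 A5 * S.o 2 A4 * S.e 3 v A6 * S.o 3 A7) =
        S.o 0 1 * S.e 1 q A2 * S.o 1 A7 * S.e 2 A2 A5 * S.o 2 A4 * S.e 3 v A6 * S.o 3 A7 * S.e 2 0 (φ A2) := by
      rw [N.mul _ m6 _ (PL7 S A7), N.mul _ m5 _ (PL6 S _ _), N.mul _ m4 _ (PL5 S _), N.mul _ m3 _ (PL4 S _ _),
        N.mul _ m2 _ (PL3 S _), N.mul _ m1 _ (PL2 S _ _), N.fix1, N.fix2 hF, N.fixE _ (S.q2_2 A7),
        N.fixE _ (S.q2_4 A4), N.fix6 hF, N.fix7, N.move4 hadd h4]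
      calc S.o 0 1 * S.e 1 q A2 * S.o 1 A7 * (S.e 2 A2 A5 * S.e 2 0 (φ A2)) * S.o 2 A4 * S.e 3 v A6 * S.o 3 A7 =
            S.o 0 1 * S.e 1 q A2 * S.o 1 A7 * S.e 2 A2 A5 *
              (S.e 2 0 (φ A2) * (S.o 2 A4 * S.e 3 v A6 * S.o 3 A7)) := by group
        _ = _ := by rw [← hz _ _ (mul_mem (mul_mem (PL5 S A4) (PL6 S _ _)) (PL7 S A7))]; group
    have h1 := key (S.o 0 1) _ (φ A2) _ _ _ _ m1 m7 (by rw [r]; group) (N.fix1 1) hfR
      (((((((act_o0 S 1).mul (act_e1 S q A2)).mul (act_o1 S A7)).mul (act_e2 S A2 A5)).mul (act_o2 S A4)).mul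
        (act_e3 S v A6)).mul (act_o3 S A7))
    rw [ha, hb] at h1
    have c0 := NormE.char2 S (q * c)
    linear_combination h1 - c0

theorem form8' (hF : ∃ c : Fˣ, c ≠ 1) : (∀ p q, φ (σ p * q) = p * φ q) ∧
    ∀ q v, f (S.e 4 q v) = S.e 4 q v * EE S 0 0 0 (φ q) (φ v) := by
  have hphi : ∀ p q, φ (σ p * q) = p * φ q := by
    intro p q
    obtain ⟨z, c, d, -, h2, -⟩ := N.form8 hadd h4 hF q 0
    have h3 := h2 1
    rw [map_one, one_mul, one_mul] at h3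
    rw [← h2 p, h3]
  have hform : ∀ q v, ∃ z, f (S.e 4 q v) = S.e 4 q v * EE S 0 0 z (φ q) (φ v) := by
    intro q v
    obtain ⟨z, c, d, h1, h2, h3⟩ := N.form8 hadd h4 hF q v
    refine ⟨z, ?_⟩
    have hc : c = φ q := by
      have := h2 1
      rwa [map_one, one_mul, one_mul] at this
    have hd : d = φ v := by
      have e1 := hphi q q
      rw [h3, hc, hadd, mul_comm q (σ q), e1]
      linear_combination NormE.char2 S (q * φ q)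
    rw [h1, hc, hd]
  choose ζ h using hform
  have hζ : ∀ q v q' v', ζ (q + q') (v + v' + q * σ q') = ζ q v + ζ q' v' := by
    intro q v q' v'
    have h1 := N.mul _ (PL8 S q v) _ (PL8 S q' v')
    rw [S.e_mul, h, h, h] at h1
    have h2 : S.e 4 q v * EE S 0 0 (ζ q v) (φ q) (φ v) * (S.e 4 q' v' * EE S 0 0 (ζ q' v') (φ q') (φ v')) =
        S.e 4 (q + q') (v + v' + q * σ q') *
          EE S (0 + 0) (0 + 0) (ζ q v + ζ q' v') (φ q + φ q') (φ v + φ q * q' + φ v') := by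
      calc S.e 4 q v * EE S 0 0 (ζ q v) (φ q) (φ v) * (S.e 4 q' v' * EE S 0 0 (ζ q' v') (φ q') (φ v')) =
          S.e 4 q v * (EE S 0 0 (ζ q v) (φ q) (φ v) * S.e 4 q' v') * EE S 0 0 (ζ q' v') (φ q') (φ v') := by group
        _ = (S.e 4 q v * S.e 4 q' v') * (EE S 0 0 (ζ q v) (φ q) (φ v + φ q * q') *
            EE S 0 0 (ζ q' v') (φ q') (φ v')) := by rw [EE_e4']; group
        _ = _ := by rw [S.e_mul, EE_mul]
    rw [h2] at h1
    exact (EE_inj S (mul_left_cancel h1)).2.2.1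
  have heqv : ∀ (s : Fˣ) q v, ζ ((σ (s : F))⁻¹ * q) ((σ (s : F))⁻¹ * σ (σ (s : F))⁻¹ * v) = ζ q v := by
    intro s q v
    have h1 := N.eqv s (PL8 S q v)
    have h2 : sT S s * (S.e 4 q v * EE S 0 0 (ζ q v) (φ q) (φ v)) * (sT S s)⁻¹ =
        (sT S s * S.e 4 q v * (sT S s)⁻¹) * (sT S s * EE S 0 0 (ζ q v) (φ q) (φ v) * (sT S s)⁻¹) := by group
    rw [sT_e4, h, h, h2, sT_e4, sT_EE] at h1
    exact (EE_inj S (mul_left_cancel h1)).2.2.1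
  obtain ⟨c, hc⟩ := id hF
  have hσc : Units.map (σ : F →* F) c ≠ 1 := Perf.σ_ne hc
  have hw1 : (σ (c : F))⁻¹ ≠ 1 := by
    intro h0
    rw [inv_eq_one] at h0
    exact hσc (Units.ext h0)
  have hw2 : (σ (c : F))⁻¹ * σ (σ (c : F))⁻¹ ≠ 1 := by
    intro h0
    rw [map_inv₀, ← mul_inv, inv_eq_one] at h0
    exact hσc (S.unit_eq_one (Units.ext h0))
  have z1 : ∀ v, ζ 0 v = 0 := by
    refine tt0 S.two (g := fun v => ζ 0 v) (fun x y => ?_) hw2 (fun v => ?_)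
    · have := hζ 0 x 0 y
      rwa [add_zero, zero_mul, add_zero] at this
    · have := heqv c 0 v
      rwa [mul_zero] at this
  have z2 : ∀ q v, ζ q v = ζ q 0 := by
    intro q v
    have := hζ q 0 0 v
    rwa [add_zero, zero_add, map_zero, mul_zero, add_zero, z1, add_zero] at this
  have z3 : ∀ q, ζ q 0 = 0 := by
    refine tt0 S.two (g := fun q => ζ q 0) (fun x y => ?_) hw1 (fun q => ?_)
    · have := hζ x 0 y 0
      rwa [z2 (x + y)] at this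
    · have := heqv c q 0
      rwa [mul_zero] at this
  exact ⟨hphi, fun q v => by rw [h, z2, z3]⟩

end eight

/-- **the final form** -/
theorem toNR (hF : ∃ c : Fˣ, c ≠ 1) : ∃ φ, NR S f φ := by
  obtain ⟨φ, hadd, h4⟩ := N.exists_phi hF
  obtain ⟨hphi, h8⟩ := N.form8' hadd h4 hF
  refine ⟨φ, ?_⟩
  exact
    { N with
      fix1 := N.fix1
      fix2 := N.fix2 hF
      fix3 := fun s => N.fixE _ (S.q2_2 s)
      fix5 := fun s => N.fixE _ (S.q2_4 s)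
      fix6 := N.fix6 hF
      f4 := h4
      f8 := fun q v => by
        rw [h8, mul_assoc, EE_c, EE_d, EE_mul]
        simp only [add_zero, zero_add]
      f0 := fun q v => by
        have e : S.n2 * S.e 4 q v * S.n2⁻¹ = S.e 0 q v := S.n2_e 4 q v
        have e1 : S.n2 * (S.e 4 q v * EE S 0 0 0 (φ q) (φ v)) * S.n2⁻¹ =
            (S.n2 * S.e 4 q v * S.n2⁻¹) * (S.n2 * EE S 0 0 0 (φ q) (φ v) * S.n2⁻¹) := by group
        rw [← e, N.n2c _ (PL8 S q v), h8, e1, n2_EE, mul_assoc (S.n2 * S.e 4 q v * S.n2⁻¹) (S.o 1 (φ q)), EE_b, EE_a,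
          EE_mul]
        simp only [add_zero, zero_add]
      add := hadd
      phi := hphi }

end N3

namespace NF

variable {S : Full σ Y} {f : Y → Y} (N : NF S f)

include N

/-- **The action of a 2-element on `C_Y(Z_4)`.** -/
theorem exists_NR (hF : ∃ c : Fˣ, c ≠ 1) : ∃ w ∈ J S.XZ 1 8, ∃ φ, NR S (fun x => w * f x * w⁻¹) φ := by
  obtain ⟨w1, hw1, s, hs, hs1, hfs⟩ := N.stepA hF
  have M := N.conjU hw1
  have hS : ∀ s' ∈ S.Tk 4, w1 * f s' * w1⁻¹ ∈ S.Tk 4 := fun s' hs' => M.stepA2 hs hs1 hfs hs'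
  obtain ⟨h1, h2⟩ := M.stepB hF (exists_ne_sigma (S := S) hF) hS
  have M1 : N1 S (fun x => w1 * f x * w1⁻¹) :=
    { M with
      fixS := h1
      fn2 := M.stepC hF h1
      f8 := h2 }
  obtain ⟨g, M3⟩ := (M1.toN2 hF).exists_N3 hF
  obtain ⟨φ, M4⟩ := M3.toNR hF
  refine ⟨S.e 2 g 0 * w1, mul_mem (mem_J (S.mX4 g 0) (by norm_num) (by norm_num)) hw1, φ, ?_⟩
  have e : (fun x => S.e 2 g 0 * w1 * f x * (S.e 2 g 0 * w1)⁻¹) =
      fun x => S.e 2 g 0 * (w1 * f x * w1⁻¹) * (S.e 2 g 0)⁻¹ := by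
    funext x; group
  rw [e]; exact M4

end NF

end Cfsg.Agent.OddHalf.D7TwF4.NormF
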