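import Cfsg.Agent.OddHalf.D7TwF4.Defs
import Cfsg.Agent.OddHalf.D7TwF4.NEl
import Cfsg.Agent.OddHalf.D7TwF4.NormD

/-!
# D7, `K = ²F₄(q)`: the elements `n` of sections 1.1 - 1.3 (helper467)

`exists_NEl : Pos S i t → ∀ u, ∃ φ n, NEl S.toSys i t 2 φ u n`.
-/

set_option autoImplicit false
set_option maxHeartbeats 400000
set_option linter.unusedSectionVars false

namespace Cfsg.Agent.OddHalf.D7TwF4.Norm

open Cfsg.Agent.KFacts.TwF4 Cfsg.Agent.SplitTwo.ZS Cfsg.Agent.OddHalf.D7TwF4.Defs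
open Cfsg.Agent.OddHalf.D7TwF4.NormE Cfsg.Agent.OddHalf.D7TwF4.NormF

universe u v w

variable {F : Type w} [Field F] {σ : F →+* F} {Y : Type u} [Group Y] {G : Type v} [Group G]
  {S : Full σ Y} {i : Y →* G} {t : G} (P : Pos S i t)

/-- the normaliser -/
def NN (S : Full σ Y) (i : Y →* G) (t : G) : Subgroup G where
  carrier := {g | g ∈ Subgroup.normalizer (TT S i t : Set G) ∧ (∃ z ∈ S.Zc 2, g * t * g⁻¹ = t * i z) ∧
    (∀ z ∈ S.Zc 2, ∃ z' ∈ S.Zc 2, g * i z * g⁻¹ = i z') ∧ ∀ z ∈ S.Zc 2, ∃ z' ∈ S.Zc 2, g⁻¹ * i z * g = i z'}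
  one_mem' := ⟨one_mem _, ⟨1, one_mem _, by simp⟩, fun z hz => ⟨z, hz, by simp⟩, fun z hz => ⟨z, hz, by simp⟩⟩
  mul_mem' := by
    rintro g h ⟨h1, ⟨z, hz, h2⟩, h3, h4⟩ ⟨k1, ⟨w, hw, k2⟩, k3, k4⟩
    refine ⟨mul_mem h1 k1, ?_, fun z hz => ?_, fun z hz => ?_⟩
    · obtain ⟨w', hw', h5⟩ := h3 w hw
      refine ⟨z * w', mul_mem hz hw', ?_⟩
      calc g * h * t * (g * h)⁻¹ = g * (h * t * h⁻¹) * g⁻¹ := by group
        _ = (g * t * g⁻¹) * (g * i w * g⁻¹) := by rw [k2]; group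
        _ = _ := by rw [h2, h5, map_mul, mul_assoc]
    · obtain ⟨w', hw', h5⟩ := k3 z hz
      obtain ⟨w'', hw'', h6⟩ := h3 w' hw'
      refine ⟨w'', hw'', ?_⟩
      rw [← h6, ← h5]; group
    · obtain ⟨w', hw', h5⟩ := h4 z hz
      obtain ⟨w'', hw'', h6⟩ := k4 w' hw'
      refine ⟨w'', hw'', ?_⟩
      rw [← h6, ← h5]; group
  inv_mem' := by
    rintro g ⟨h1, ⟨z, hz, h2⟩, h3, h4⟩
    refine ⟨inv_mem h1, ?_, fun z hz => ?_, fun z hz => ?_⟩
    · obtain ⟨w', hw', h5⟩ := h4 z hz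
      refine ⟨w'⁻¹, inv_mem hw', ?_⟩
      rw [map_inv, eq_mul_inv_iff_mul_eq, ← h5]
      calc g⁻¹ * t * g⁻¹⁻¹ * (g⁻¹ * i z * g) = g⁻¹ * (t * i z) * g := by group
        _ = g⁻¹ * (g * t * g⁻¹) * g := by rw [h2]
        _ = t := by group
    · obtain ⟨w', hw', h5⟩ := h4 z hz
      exact ⟨w', hw', by rw [inv_inv]; exact h5⟩
    · obtain ⟨w', hw', h5⟩ := h3 z hz
      exact ⟨w', hw', by rw [inv_inv]; exact h5⟩

include P

theorem t_conj_i (y : Y) : t * i y * t⁻¹ = i y := by rw [P.ti, mul_inv_cancel_right]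

/-- the elements of `T` -/
theorem mem_TT {x : G} : x ∈ TT S i t ↔ ∃ y ∈ UY S, x = i y ∨ x = t * i y := by
  constructor
  · intro hx
    obtain ⟨a, ha, b, hb, rfl⟩ := mem_sup_of_norm (A := Subgroup.zpowers t) (B := (UY S).map i) (fun a ha b hb => by
      obtain ⟨n, rfl⟩ := Subgroup.mem_zpowers_iff.1 ha
      obtain ⟨y, hy, rfl⟩ := hb
      have hc : Commute t (i y) := P.ti y
      rw [(hc.zpow_left n).eq, mul_inv_cancel_right]
      exact ⟨y, hy, rfl⟩) hx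
    obtain ⟨n, rfl⟩ := Subgroup.mem_zpowers_iff.1 ha
    obtain ⟨y, hy, rfl⟩ := hb
    refine ⟨y, hy, ?_⟩
    have ht2 : t ^ (2 : ℤ) = 1 := by rw [zpow_two]; exact P.tt
    rcases Int.even_or_odd' n with ⟨m, h | h⟩
    · left; rw [h, zpow_mul, ht2, one_zpow, one_mul]
    · right; rw [h, zpow_add, zpow_mul, ht2, one_zpow, one_mul, zpow_one]
  · rintro ⟨y, hy, rfl | rfl⟩
    · exact Subgroup.mem_sup_right ⟨y, hy, rfl⟩
    · exact mul_mem (Subgroup.mem_sup_left (Subgroup.mem_zpowers t)) (Subgroup.mem_sup_right ⟨y, hy, rfl⟩)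

theorem Z_ne : S.e 2 0 1 ≠ 1 := fun h => one_ne_zero (S.e_eq_one h).2

/-- the centraliser of `⟨t⟩ Z_4` -/
theorem cent_form {c : G} (hct : c * t = t * c) (hc : ∀ z ∈ S.Zc 2, c * i z = i z * c) :
    ∃ y ∈ S.PL, c = i y ∨ c = t * i y := by
  have : Finite F := P.finF
  obtain ⟨y, hy⟩ := P.cZ c hct hc
  refine ⟨y, ?_, hy⟩
  rw [← S.centralizer_z (z := S.e 2 0 1) ⟨1, rfl⟩ (Z_ne P), Subgroup.mem_centralizer_singleton_iff]
  apply P.inj
  have h1 := hc (S.e 2 0 1) ⟨1, rfl⟩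
  rw [map_mul, map_mul]
  rcases hy with rfl | rfl
  · exact h1
  · have h2 : t * (i y * i (S.e 2 0 1)) = t * (i (S.e 2 0 1) * i y) := by
      calc t * (i y * i (S.e 2 0 1)) = t * i y * i (S.e 2 0 1) := by group
        _ = (i (S.e 2 0 1) * t) * i y := by rw [h1]; group
        _ = _ := by rw [← P.ti]; group
    exact mul_left_cancel h2

theorem mem_NN {g : G} : g ∈ NN S i t ↔ g ∈ Subgroup.normalizer (TT S i t : Set G) ∧
    (∃ z ∈ S.Zc 2, g * t * g⁻¹ = t * i z) ∧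
    (∀ z ∈ S.Zc 2, ∃ z' ∈ S.Zc 2, g * i z * g⁻¹ = i z') ∧ ∀ z ∈ S.Zc 2, ∃ z' ∈ S.Zc 2, g⁻¹ * i z * g = i z' := Iff.rfl

theorem exists_NN : ∃ n ∈ NN S i t, n * t * n⁻¹ ≠ t := by
  obtain ⟨n, h1, h2, h3, h4, h5⟩ := P.fus
  exact ⟨n, ⟨h1, h3, h4, h5⟩, h2⟩

/-- the torus lies in the normaliser -/
theorem torus_NN {h : Y} (hh : h ∈ S.T) : i h ∈ NN S i t := by
  have key : ∀ h ∈ S.T, ∀ x ∈ TT S i t, i h * x * (i h)⁻¹ ∈ TT S i t := by
    intro h hh x hx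
    obtain ⟨y, hy, hxy⟩ := (mem_TT P).1 hx
    refine (mem_TT P).2 ⟨h * y * h⁻¹, S.T_conj_J hh hy, ?_⟩
    rcases hxy with rfl | rfl
    · left; rw [map_mul, map_mul, map_inv]
    · right
      rw [map_mul, map_mul, map_inv]
      calc i h * (t * i y) * (i h)⁻¹ = (i h * t) * i y * (i h)⁻¹ := by group
        _ = _ := by rw [← P.ti]; group
  refine ⟨?_, ⟨1, one_mem _, by rw [← P.ti, mul_inv_cancel_right, map_one, mul_one]⟩, fun z hz => ?_, fun z hz => ?_⟩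
  · rw [Subgroup.mem_normalizer_iff]
    intro x
    refine ⟨fun hx => key h hh x hx, fun hx => ?_⟩
    have := key h⁻¹ (inv_mem hh) _ hx
    have e : i h⁻¹ * (i h * x * (i h)⁻¹) * (i h⁻¹)⁻¹ = x := by rw [map_inv]; group
    rwa [e] at this
  · exact ⟨h * z * h⁻¹, S.T_conj_Zc hh hz, by rw [map_mul, map_mul, map_inv]⟩
  · have := S.T_conj_Zc (inv_mem hh) hz
    rw [inv_inv] at this
    exact ⟨h⁻¹ * z * h, this, by rw [map_mul, map_mul, map_inv]⟩

/-- `N` is transitive on `t Z_4` -/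
theorem trans {x : G} {u0 u : F} (hx : x⁻¹ * t * x = t * i (S.e 2 0 u0)) (hu0 : u0 ≠ 0) (hu : u ≠ 0) :
    ∃ h ∈ S.T, (i h * x * (i h)⁻¹)⁻¹ * t * (i h * x * (i h)⁻¹) = t * i (S.e 2 0 u) := by
  have : Finite F := P.finF
  obtain ⟨h, hh, e⟩ := S.T_trans hu0 hu
  refine ⟨h, hh, ?_⟩
  have h1 : (i h)⁻¹ * t * i h = t := by rw [mul_assoc, P.ti, inv_mul_cancel_left]
  have h2 : i h * t * (i h)⁻¹ = t := by rw [← P.ti, mul_inv_cancel_right]
  calc (i h * x * (i h)⁻¹)⁻¹ * t * (i h * x * (i h)⁻¹) = i h * (x⁻¹ * ((i h)⁻¹ * t * i h) * x) * (i h)⁻¹ := by group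
    _ = (i h * t * (i h)⁻¹) * (i h * i (S.e 2 0 u0) * (i h)⁻¹) := by rw [h1, hx]; group
    _ = _ := by rw [h2, ← map_inv, ← map_mul, ← map_mul, e]

theorem form_NN {n : G} (hn : n ∈ NN S i t) : ∃ u, n⁻¹ * t * n = t * i (S.e 2 0 u) := by
  obtain ⟨-, ⟨z, ⟨u, rfl⟩, h⟩, -, -⟩ := (mem_NN P).1 (inv_mem hn)
  rw [inv_inv] at h
  exact ⟨u, h⟩

theorem index_eq : ((Subgroup.centralizer {t}).subgroupOf (NN S i t)).index = Nat.card F := by
  have hu : ∀ n : NN S i t, ∃ u, (n : G) * t * (n : G)⁻¹ = t * i (S.e 2 0 u) := by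
    intro n
    obtain ⟨-, ⟨z, ⟨u, rfl⟩, h⟩, -, -⟩ := (mem_NN P).1 n.2
    exact ⟨u, h⟩
  choose f hf using hu
  have key : ∀ a b : NN S i t, a⁻¹ * b ∈ (Subgroup.centralizer {t}).subgroupOf (NN S i t) ↔ f a = f b := by
    intro a b
    rw [Subgroup.mem_subgroupOf, Subgroup.mem_centralizer_singleton_iff]
    constructor
    · intro h
      have h1 : (a : G) * t * (a : G)⁻¹ = (b : G) * t * (b : G)⁻¹ := by
        have h2 : ((a : G)⁻¹ * b) * t = t * ((a : G)⁻¹ * b) := h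
        calc (a : G) * t * (a : G)⁻¹ = a * (t * ((a : G)⁻¹ * b)) * (b : G)⁻¹ := by group
          _ = _ := by rw [← h2]; group
      rw [hf, hf] at h1
      exact (S.injE 2 _ _ _ _ (P.inj (mul_left_cancel h1))).2
    · intro h
      have h1 : (a : G) * t * (a : G)⁻¹ = (b : G) * t * (b : G)⁻¹ := by rw [hf, hf, h]
      show ((a : G)⁻¹ * b) * t = t * ((a : G)⁻¹ * b)
      calc ((a : G)⁻¹ * b) * t = (a : G)⁻¹ * ((b : G) * t * (b : G)⁻¹) * b := by group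
        _ = _ := by rw [← h1]; group
  rw [Subgroup.index]
  refine Nat.card_congr (Equiv.ofBijective (Quotient.lift f (fun a b hab => ?_)) ⟨?_, ?_⟩)
  · exact (key a b).1 (QuotientGroup.leftRel_apply.1 hab)
  · intro x y
    induction x using Quotient.inductionOn with | h a => ?_
    induction y using Quotient.inductionOn with | h b => ?_
    intro hab
    exact Quotient.sound (QuotientGroup.leftRel_apply.2 ((key a b).2 hab))
  · intro u
    obtain ⟨n, hn, hnt⟩ := exists_NN P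
    obtain ⟨u0, hu0⟩ := form_NN P (inv_mem hn)
    rw [inv_inv] at hu0
    have hu00 : u0 ≠ 0 := by
      rintro rfl
      rw [S.e_zero, map_one, mul_one] at hu0
      exact hnt hu0
    by_cases h0 : u = 0
    · refine ⟨Quotient.mk'' 1, ?_⟩
      show f 1 = u
      have h1 := hf 1
      rw [h0]
      have h2 : t * i (S.e 2 0 (f 1)) = t * 1 := by rw [← h1]; simp
      exact (S.e_eq_one (P.inj ((mul_left_cancel h2).trans (map_one i).symm))).2
    · obtain ⟨h, hh, e⟩ := trans P (x := n⁻¹) (u0 := u0) (u := u) (by rw [inv_inv]; exact hu0) hu00 h0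
      have hm : i h * n * (i h)⁻¹ ∈ NN S i t := mul_mem (mul_mem (torus_NN P hh) hn) (inv_mem (torus_NN P hh))
      refine ⟨Quotient.mk'' ⟨_, hm⟩, ?_⟩
      show f ⟨_, hm⟩ = u
      have h1 := hf ⟨_, hm⟩
      have h2 : t * i (S.e 2 0 (f ⟨_, hm⟩)) = t * i (S.e 2 0 u) := by
        rw [← h1, ← e]
        show i h * n * (i h)⁻¹ * t * (i h * n * (i h)⁻¹)⁻¹ = _
        group
      exact (S.injE 2 _ _ _ _ (P.inj (mul_left_cancel h2))).2

/-- **1.2**: the 2-elements -/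
theorem exists_two (u : F) : ∃ n ∈ NN S i t, (∃ k : ℕ, n ^ (2 ^ k) = 1) ∧ n⁻¹ * t * n = t * i (S.e 2 0 u) := by
  have : Finite F := P.finF
  have : Finite G := P.finG
  by_cases hu : u = 0
  · exact ⟨1, one_mem _, ⟨0, by simp⟩, by rw [hu, S.e_zero]; simp⟩
  have h2 : 2 ∣ ((Subgroup.centralizer {t}).subgroupOf (NN S i t)).index := by
    rw [index_eq P]
    obtain ⟨m, hm, -⟩ := Cfsg.Agent.Octagon.FieldAut171.exists_rln σ S.sq
    rw [hm]
    exact dvd_pow_self 2 (by omega)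
  have : Fact (Nat.Prime 2) := ⟨Nat.prime_two⟩
  obtain ⟨R⟩ : Nonempty (Sylow 2 (NN S i t)) := inferInstance
  obtain ⟨x, hxR, hxt⟩ : ∃ x ∈ R, ¬ ((x : G) * t = t * x) := by
    by_contra hcon
    push Not at hcon
    have hle : (R : Subgroup (NN S i t)) ≤ (Subgroup.centralizer {t}).subgroupOf (NN S i t) := by
      intro x hx
      rw [Subgroup.mem_subgroupOf, Subgroup.mem_centralizer_singleton_iff]
      exact hcon x hx
    exact R.not_dvd_index (h2.trans (Subgroup.index_dvd_of_le hle))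
  obtain ⟨k, hk⟩ := R.2 ⟨x, hxR⟩
  have hk' : (x : G) ^ (2 ^ k) = 1 := by
    have h1 := congrArg Subtype.val hk
    have h3 := congrArg Subtype.val h1
    simpa using h3
  obtain ⟨u0, hu0⟩ := form_NN P x.2
  have hu00 : u0 ≠ 0 := by
    rintro rfl
    rw [S.e_zero, map_one, mul_one] at hu0
    apply hxt
    calc (x : G) * t = x * ((x : G)⁻¹ * t * x) := by rw [hu0]
      _ = _ := by group
  obtain ⟨h, hh, e⟩ := trans P hu0 hu00 hu
  refine ⟨i h * x * (i h)⁻¹, mul_mem (mul_mem (torus_NN P hh) x.2) (inv_mem (torus_NN P hh)), ⟨k, ?_⟩, e⟩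
  rw [conj_pow, hk']; group

/-- the normaliser acts on `PL` -/
theorem act_PL (hF : ∃ c : Fˣ, c ≠ 1) {g : G} (hg : g ∈ NN S i t) {x : Y} (hx : x ∈ S.PL) :
    ∃ y ∈ S.PL, g * i x * g⁻¹ = i y := by
  have : Finite F := P.finF
  have : Finite G := P.finG
  have : Finite Y := Finite.of_injective i P.inj
  obtain ⟨-, ⟨w, hw, e⟩, -, h2⟩ := (mem_NN P).1 hg
  obtain ⟨w1, hw1, e1⟩ := h2 w hw
  -- `g (i x) g⁻¹` centralises `t` and `Z_4`
  have hform : ∀ x ∈ S.PL, ∃ y ∈ S.PL, g * i x * g⁻¹ = i y ∨ g * i x * g⁻¹ = t * i y := by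
    intro x hx
    have hZ : ∀ z ∈ S.Zc 2, (g * i x * g⁻¹) * i z = i z * (g * i x * g⁻¹) := by
      intro z hz
      obtain ⟨z', hz', e'⟩ := h2 z hz
      have h3 : i x * i z' = i z' * i x := by rw [← map_mul, S.comm_PL hx hz', map_mul]
      calc (g * i x * g⁻¹) * i z = g * (i x * (g⁻¹ * i z * g)) * g⁻¹ := by group
        _ = g * ((g⁻¹ * i z * g) * i x) * g⁻¹ := by rw [e', h3]
        _ = _ := by group
    refine cent_form P ?_ hZ
    -- `t = g (t z⁻¹) g⁻¹`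
    have e2 : t = g * (t * (i w1)⁻¹) * g⁻¹ := by
      rw [← e1]
      calc t = (g * t * g⁻¹) * (i w)⁻¹ := by rw [e]; group
        _ = _ := by group
    have h3 : i x * (t * (i w1)⁻¹) = (t * (i w1)⁻¹) * i x := by
      have h4 : i x * (i w1)⁻¹ = (i w1)⁻¹ * i x := by
        rw [← map_inv, ← map_mul, S.comm_PL hx (inv_mem hw1), map_mul]
      calc i x * (t * (i w1)⁻¹) = (i x * t) * (i w1)⁻¹ := by group
        _ = t * (i x * (i w1)⁻¹) := by rw [← P.ti]; group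
        _ = _ := by rw [h4]; group
    calc (g * i x * g⁻¹) * t = (g * i x * g⁻¹) * (g * (t * (i w1)⁻¹) * g⁻¹) := by rw [← e2]
      _ = g * (i x * (t * (i w1)⁻¹)) * g⁻¹ := by group
      _ = (g * (t * (i w1)⁻¹) * g⁻¹) * (g * i x * g⁻¹) := by rw [h3]; group
      _ = _ := by rw [← e2]
  let K : Subgroup Y :=
    { carrier := {x | ∃ y ∈ S.PL, g * i x * g⁻¹ = i y}
      one_mem' := ⟨1, one_mem _, by simp⟩
      mul_mem' := by
        rintro x x' ⟨y, hy, h⟩ ⟨y', hy', h'⟩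
        refine ⟨y * y', mul_mem hy hy', ?_⟩
        rw [map_mul, map_mul, ← h, ← h']; group
      inv_mem' := by
        rintro x ⟨y, hy, h⟩
        refine ⟨y⁻¹, inv_mem hy, ?_⟩
        rw [map_inv, map_inv, ← h]; group }
  have hK : S.PL ≤ K := by
    rw [← Perf.PL_perfect S hF, Subgroup.commutator_le]
    intro x hx y hy
    obtain ⟨x', hx', ex⟩ := hform x hx
    obtain ⟨y', hy', ey⟩ := hform y hy
    refine ⟨x' * y' * x'⁻¹ * y'⁻¹, mul_mem (mul_mem (mul_mem hx' hy') (inv_mem hx')) (inv_mem hy'), ?_⟩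
    have e3 : g * i (x * y * x⁻¹ * y⁻¹) * g⁻¹ = (g * i x * g⁻¹) * (g * i y * g⁻¹) * (g * i x * g⁻¹)⁻¹ *
        (g * i y * g⁻¹)⁻¹ := by
      rw [map_mul, map_mul, map_mul, map_inv, map_inv]; group
    have ht : ∀ z : G, t * (t * z) = z := fun z => by rw [← mul_assoc, P.tt, one_mul]
    have hti := P.ti
    have h1 : ∀ a b : G, (∃ y : Y, b = i y) → (t * a) * b * (t * a)⁻¹ * b⁻¹ = t * (a * b * a⁻¹ * b⁻¹) * t⁻¹ := by
      rintro a _ ⟨y, rfl⟩
      have h5 : (i y)⁻¹ * t = t * (i y)⁻¹ := by rw [← map_inv, ← P.ti]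
      calc (t * a) * i y * (t * a)⁻¹ * (i y)⁻¹ = t * (a * i y * a⁻¹) * (t⁻¹ * (i y)⁻¹) := by group
        _ = t * (a * i y * a⁻¹) * ((i y * t)⁻¹) := by rw [mul_inv_rev]
        _ = t * (a * i y * a⁻¹) * ((t * i y)⁻¹) := by rw [P.ti]
        _ = _ := by group
    have h2 : ∀ a b : G, (∃ y : Y, a = i y) → a * (t * b) * a⁻¹ * (t * b)⁻¹ = t * (a * b * a⁻¹ * b⁻¹) * t⁻¹ := by
      rintro _ b ⟨y, rfl⟩
      calc i y * (t * b) * (i y)⁻¹ * (t * b)⁻¹ = (i y * t) * b * (i y)⁻¹ * b⁻¹ * t⁻¹ := by group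
        _ = (t * i y) * b * (i y)⁻¹ * b⁻¹ * t⁻¹ := by rw [P.ti]
        _ = _ := by group
    show g * i (x * y * x⁻¹ * y⁻¹) * g⁻¹ = _
    have hconj : ∀ z : Y, t * i z * t⁻¹ = i z := t_conj_i P
    have base : i x' * i y' * (i x')⁻¹ * (i y')⁻¹ = i (x' * y' * x'⁻¹ * y'⁻¹) := by
      rw [map_mul, map_mul, map_mul, map_inv, map_inv]
    rw [e3]
    rcases ex with ex | ex <;> rcases ey with ey | ey <;> rw [ex, ey]
    · exact base
    · rw [h2 _ _ ⟨x', rfl⟩, base, hconj]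
    · rw [h1 _ _ ⟨y', rfl⟩, base, hconj]
    · have h6 : t * i x' * (t * i y') * (t * i x')⁻¹ * (t * i y')⁻¹ =
          t * (i x' * (t * i y') * (i x')⁻¹ * (t * i y')⁻¹) * t⁻¹ := by
        have h7 : t⁻¹ * (t * i y')⁻¹ = (t * i y')⁻¹ * t⁻¹ := by
          rw [← mul_inv_rev, ← mul_inv_rev, mul_assoc t, ← P.ti]
        calc t * i x' * (t * i y') * (t * i x')⁻¹ * (t * i y')⁻¹ =
            t * i x' * (t * i y') * (i x')⁻¹ * (t⁻¹ * (t * i y')⁻¹) := by group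
          _ = _ := by rw [h7]; group
      rw [h6, h2 _ _ ⟨x', rfl⟩, base, hconj, hconj]
  exact hK hx

theorem act_U (hF : ∃ c : Fˣ, c ≠ 1) {g : G} (hg : g ∈ NN S i t) {x : Y} (hx : x ∈ J S.XZ 1 8) :
    ∃ y ∈ J S.XZ 1 8, g * i x * g⁻¹ = i y := by
  obtain ⟨y, -, e⟩ := act_PL P hF hg (U_le_PL S hx)
  obtain ⟨h1, -⟩ := (mem_NN P).1 hg
  have h2 : g * i x * g⁻¹ ∈ TT S i t :=
    (Subgroup.mem_normalizer_iff.1 h1 _).1 ((mem_TT P).2 ⟨x, hx, Or.inl rfl⟩)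
  obtain ⟨y', hy', h3⟩ := (mem_TT P).1 h2
  rcases h3 with h3 | h3
  · exact ⟨y', hy', h3⟩
  · exact absurd (h3.symm.trans e) P.t_mul_ne

/-- **Sections 1.1 - 1.3.** -/
theorem exists_NEl (u : F) : ∃ (φ : F → F) (n : G), NEl S.toSys i t 2 φ u n := by
  have : Finite F := P.finF
  have : Finite G := P.finG
  have : Finite Y := Finite.of_injective i P.inj
  have hF : ∃ c : Fˣ, c ≠ 1 := by
    by_contra hcon
    push Not at hcon
    have h1 : Nat.card Fˣ = Nat.card F - 1 := Nat.card_units F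
    have h2 : Nat.card Fˣ = 1 := by
      have : Subsingleton Fˣ := ⟨fun a b => by rw [hcon a, hcon b]⟩
      exact Nat.card_of_subsingleton 1
    have := P.big
    omega
  obtain ⟨n, hn, ⟨k, hk⟩, hnt⟩ := exists_two P u
  -- the action of `n⁻¹`
  have hex : ∀ x ∈ S.PL, ∃ y, y ∈ S.PL ∧ n⁻¹ * i x * n = i y := by
    intro x hx
    obtain ⟨y, hy, e⟩ := act_PL P hF (inv_mem hn) hx
    rw [inv_inv] at e
    exact ⟨y, hy, e⟩
  choose! f hf using hex
  have hit : ∀ m : ℕ, ∀ x ∈ S.PL, f^[m] x ∈ S.PL ∧ i (f^[m] x) = (n⁻¹) ^ m * i x * n ^ m := by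
    intro m
    induction m with
    | zero => intro x hx; exact ⟨hx, by simp⟩
    | succ m ih =>
      intro x hx
      obtain ⟨h1, h2⟩ := ih x hx
      obtain ⟨h3, h4⟩ := hf _ h1
      rw [Function.iterate_succ_apply']
      refine ⟨h3, ?_⟩
      rw [← h4, h2, pow_succ', pow_succ]; group
  have N : NF S f :=
    { mul := fun x hx y hy => by
        apply P.inj
        rw [← (hf _ (mul_mem hx hy)).2, map_mul, map_mul, ← (hf x hx).2, ← (hf y hy).2]; group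
      mem := fun x hx => (hf x hx).1
      memU := fun x hx => by
        obtain ⟨y, hy, e⟩ := act_U P hF (inv_mem hn) hx
        rw [inv_inv, (hf x (U_le_PL S hx)).2] at e
        rw [P.inj e]; exact hy
      ord := ⟨k, fun x hx => by
        apply P.inj
        rw [(hit _ x hx).2, hk, inv_pow, hk]; simp⟩ }
  obtain ⟨w, hw, φ, M⟩ := N.exists_NR hF
  have hconj : ∀ x ∈ S.PL, ∀ y, w * f x * w⁻¹ = y → (n * (i w)⁻¹)⁻¹ * i x * (n * (i w)⁻¹) = i y := by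
    rintro x hx y rfl
    rw [map_mul, map_mul, ← (hf x hx).2, map_inv]; group
  have hfix : ∀ x ∈ S.PL, w * f x * w⁻¹ = x → (n * (i w)⁻¹) * i x = i x * (n * (i w)⁻¹) := by
    intro x hx h
    have h1 := hconj x hx _ h
    calc (n * (i w)⁻¹) * i x = (n * (i w)⁻¹) * ((n * (i w)⁻¹)⁻¹ * i x * (n * (i w)⁻¹)) := by rw [h1]
      _ = _ := by group
  have PL0 : ∀ q v, S.e 0 q v ∈ S.PL := fun q v =>
    mem_J (k := 0) ((S.mem_XZ_even 0 _).2 ⟨q, v, rfl⟩) (by norm_num) (by norm_num)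
  refine ⟨φ, n * (i w)⁻¹, ?_⟩
  exact
    { tau := by
        have h1 := S.comm_PL (U_le_PL S hw) (z := S.e 2 0 u) ⟨u, rfl⟩
        calc (n * (i w)⁻¹)⁻¹ * t * (n * (i w)⁻¹) = i w * (n⁻¹ * t * n) * (i w)⁻¹ := by group
          _ = (i w * t) * i (S.e 2 0 u) * (i w)⁻¹ := by rw [hnt]; group
          _ = t * i (w * S.e 2 0 u * w⁻¹) := by rw [← P.ti, map_mul, map_mul, map_inv]; group
          _ = _ := by rw [h1, mul_inv_cancel_right]
      z := fun v => hfix _ (PL4 S 0 v) (M.fixE _ (S.q2_3 v))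
      o0 := fun s => hfix _ (PL5 S s) (M.fix5 s)
      o1 := fun s => hfix _ (PL7 S s) (M.fix7 s)
      om1 := fun s => hfix _ (PL3 S s) (M.fix3 s)
      om2 := fun s => hfix _ (PL1 S s) (M.fix1 s)
      e1 := fun p w' => hfix _ (PL6 S p w') (M.fix6 p w')
      em1 := fun p w' => hfix _ (PL2 S p w') (M.fix2 p w')
      x0 := fun p w' => hconj _ (PL4 S p w') _ (M.f4 p w')
      xp := fun q v => hconj _ (PL8 S q v) _ (M.f8 q v)
      xm := fun q v => hconj _ (PL0 q v) _ (M.f0 q v)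
      add := M.add
      phi := fun p => by
        have := M.phi p 1
        rw [mul_one] at this
        rw [this, mul_comm] }

end Cfsg.Agent.OddHalf.D7TwF4.Norm
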