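import Cfsg.Agent.OddHalf.D7TwF4.FrontFin
import Cfsg.Agent.OddHalf.D7TwF4.Norm
import Cfsg.Agent.OddHalf.D7TwF4.WMk
import Cfsg.Agent.OddHalf.D7TwF4.Growth.Glue
import Cfsg.Agent.OddHalf.D7TwF4.Growth.KAll
import Cfsg.Agent.OddHalf.D7TwF4.Growth.LevelFive

/-!
# ODD D7, `K = ²F₄(q)`, `q ≥ 8`: the row (assembly: helper186)

Front: helper841, helper611; sections 1.1 - 1.3: helper467; 1.4 - 1.7: helper853; 2, 3: helper544, helper297, helper625;
K-facts: helper517, helper401, helper171, helper611, helper841; growth: helper702, helper180, helper956, helper76,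
helper583, helper570; the end: helper583.

* `exists_cx` : sections 1 and 2a; `inp` : the input of the growth;
* `false_of_pos` : the position is contradictory; `node` : `Node @Fam2F4`.
-/

set_option autoImplicit false
set_option Elab.async false

namespace Cfsg.Agent.OddHalf.D7TwF4.Asm

open Cfsg.Agent.KFacts.TwF4 Cfsg.Agent.OddHalf.D7TwF4.Defs
open Cfsg.Agent.OddHalf.D7TwF4.Growth.Defs Cfsg.Agent.OddHalf.D7TwF4.Growth.KInst
open Cfsg.Agent.OddHalf.D7TwF4.Growth.KCen Cfsg.Agent.OddHalf.D7TwF4.Fab2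
open Cfsg.Agent.OddHalf.Iface Cfsg.Agent.OddHalf.D7.Cases

universe u v w

variable {F₀ : Type w} [Field F₀] {σ : F₀ →+* F₀} {Y : Type u} [Group Y] {G : Type v} [Group G]
variable {S : Full σ Y} {i : Y →* G} {t : G}

/-- **Sections 1 and 2a.** -/
theorem exists_cx (P : Pos S i t) : ∃ W : ℤ → Subgroup G, Cx S i t W := by
  obtain ⟨W, D⟩ := WMk.exists_WData_of_NEl P (Norm.exists_NEl P)
  exact ⟨W, P, D, Fab.comm_two P D⟩

/-- **The input of the growth.** -/
theorem inp {W : ℤ → Subgroup G} (C : Cx S i t W) :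
    Inp (tau t) (fun k => (S.XZ k).map i) (fun k => (YZ S k).map i) (Vd S i W) (fun k => (S.Tk k).map i) :=
  Growth.Glue.inp C ((kbaseStd S (by have := C.P.big; omega)).map C.P.inj)

/-- **The position is contradictory.** -/
theorem false_of_pos (P : Pos S i t) : False := by
  have := P.finG
  obtain ⟨W, C⟩ := exists_cx P
  obtain ⟨R, hR⟩ := Growth.LevelFive.of_inp (Growth.Frame.inp (inp C) 2 (Or.inl rfl))
  exact Growth.End.false_of_U P (fun x => tau_eq P x) (X := fun k => (S.XZ k).map i) (Y := fun k => (YZ S k).map i)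
    (fun k => rfl) (fun c => by
      show (YZ S (2 * c + 1)).map i = (S.XZ (2 * c + 1)).map i
      rw [YZ_odd]) hR

/-- **Node D7 for `²F₄(q)`**, `q ≥ 8`. -/
theorem node : Node.{u} @Fam2F4.{u} := by
  intro G _ C K Sd hc hF
  obtain ⟨F, _, σ, Y, _, S, i, t, P⟩ := FrontFin.exists_pos C Sd hc hF
  exact false_of_pos P

end Cfsg.Agent.OddHalf.D7TwF4.Asm
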