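import Cfsg.Agent.OddHalf.D7TwF4.NEl
import Cfsg.Agent.OddHalf.D7TwF4.Defs
import Cfsg.Agent.KFacts.TwF4.CentR

/-!
# D7, `K = ²F₄(q)`: section 1.4, the constant `c` of an element `n` is zero (helper853; text: helper544, bb ODD 13028)

* `NO_conj` : the action of `B0_5 = NO` on `X_4`;
* `phi_eq_zero` : `NEl 2 φ u n` for all `u` implies `φ = 0`;
* `exists_cent` : for every `u` some `n` centralising `P_4 = PL` has `t n t = n * i (e 2 0 u)`.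
-/

set_option autoImplicit false
set_option linter.unusedSectionVars false

namespace Cfsg.Agent.OddHalf.D7TwF4.CKill

open Cfsg.Agent.KFacts.TwF4 Cfsg.Agent.SplitTwo.ZS Cfsg.Agent.OddHalf.D7TwF4.Defs

universe u v w

variable {F : Type w} [Field F] {σ : F →+* F} {Y : Type u} [Group Y] (S : Full σ Y)

/-- the action of `NO` on `X_4` -/
theorem NO_conj {y : Y} (hy : y ∈ S.NO) : ∃ b4 b6 b7 : F, ∀ p w,
    y⁻¹ * S.e 2 p w * y = S.e 2 p (w + b4 * σ p + p * σ b4) * S.o 2 (p * b6) * S.e 3 0 (p * b7) := by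
  obtain ⟨u, v, r, hr, rfl⟩ := S.mem_NO_iff.1 hy
  have Z := S.zsys8
  obtain ⟨x3, hx3, r4, hr4, rfl⟩ := Z.split_ll (by norm_num) (by norm_num) hr
  obtain ⟨x4, hx4, r5, hr5, rfl⟩ := Z.split_ll (by norm_num) (by norm_num) hr4
  obtain ⟨x5, hx5, r6, hr6, rfl⟩ := Z.split_ll (by norm_num) (by norm_num) hr5
  obtain ⟨x6, hx6, r7, hr7, rfl⟩ := Z.split_ll (by norm_num) (by norm_num) hr6
  have hx7 := mem_of_J_self hr7 (by norm_num)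
  obtain ⟨b3, rfl⟩ := S.X3 (by simpa using hx3)
  obtain ⟨b4, w4, rfl⟩ := S.X4 (by simpa using hx4)
  obtain ⟨b5, rfl⟩ := S.X5 (by simpa using hx5)
  obtain ⟨b6, w6, rfl⟩ := S.X6 (by simpa using hx6)
  obtain ⟨b7, rfl⟩ := S.X7 (by simpa using hx7)
  refine ⟨b4, b6, b7, fun p w => ?_⟩
  -- the moves `X * g = g * X'`
  have g1 : S.e 2 p w * S.e 1 0 u = S.e 1 0 u * S.e 2 p w := by
    have h : S.e 1 0 u * S.e 2 p w = S.e 2 p w * S.e 1 0 u * S.o 1 (0 * p) := S.e_e1 1 0 u p w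
    rw [zero_mul, S.o_zero, mul_one] at h
    exact h.symm
  have g2 : S.e 2 p w * S.o 1 b3 = S.o 1 b3 * S.e 2 p w := (S.o_e1 1 b3 p w).symm
  have g3 : S.e 2 p w * S.e 2 b4 w4 = S.e 2 b4 w4 * S.e 2 p (w + b4 * σ p + p * σ b4) := by
    rw [S.e_mul, S.e_mul, add_comm p b4]
    congr 1
    linear_combination (-(b4 * σ p)) * S.two
  have g4 : ∀ w', S.e 2 p w' * S.o 2 b5 = S.o 2 b5 * S.e 2 p w' := fun w' => S.e_o0 2 p w' b5
  have g5 : ∀ w', S.e 2 p w' * S.e 3 b6 w6 = S.e 3 b6 w6 * (S.e 2 p w' * S.o 2 (p * b6)) := fun w' => by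
    rw [← mul_assoc]; exact S.e_e1 2 p w' b6 w6
  have g6 : ∀ w', S.e 2 p w' * S.o 3 b7 = S.o 3 b7 * (S.e 2 p w' * S.e 3 0 (p * b7)) := fun w' => by
    rw [← mul_assoc]; exact S.e_o1 2 p w' b7
  have g6' : S.o 2 (p * b6) * S.o 3 b7 = S.o 3 b7 * S.o 2 (p * b6) := S.o_o1 2 _ _
  have g6'' : S.e 3 0 (p * b7) * S.o 2 (p * b6) = S.o 2 (p * b6) * S.e 3 0 (p * b7) := (S.o_e1 2 _ _ _).symm
  have g7 : ∀ w', S.e 2 p w' * S.e 4 0 v = S.e 4 0 v * S.e 2 p w' := fun w' => S.e_e2 2 p w' 0 v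
  have g7' : S.o 2 (p * b6) * S.e 4 0 v = S.e 4 0 v * S.o 2 (p * b6) := by
    have h : S.o 2 (p * b6) * S.e 4 0 v = S.e 4 0 v * S.o 2 (p * b6) * S.e 3 0 (p * b6 * 0) := S.o_e2 2 _ _ _
    rwa [mul_zero, S.e_zero, mul_one] at h
  have g7'' : S.e 3 0 (p * b7) * S.e 4 0 v = S.e 4 0 v * S.e 3 0 (p * b7) := by
    have h : S.e 3 0 (p * b7) * S.e 4 0 v = S.e 4 0 v * S.e 3 0 (p * b7) * S.o 3 (0 * 0) := S.e_e1 3 _ _ _ _
    rwa [zero_mul, S.o_zero, mul_one] at h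
  set w' := w + b4 * σ p + p * σ b4 with hw'
  have key : S.e 2 p w * (S.e 1 0 u * (S.o 1 b3 * (S.e 2 b4 w4 * (S.o 2 b5 * (S.e 3 b6 w6 * S.o 3 b7)))) * S.e 4 0 v)
      = (S.e 1 0 u * (S.o 1 b3 * (S.e 2 b4 w4 * (S.o 2 b5 * (S.e 3 b6 w6 * S.o 3 b7)))) * S.e 4 0 v) *
        (S.e 2 p w' * S.o 2 (p * b6) * S.e 3 0 (p * b7)) := by
    calc S.e 2 p w * (S.e 1 0 u * (S.o 1 b3 * (S.e 2 b4 w4 * (S.o 2 b5 * (S.e 3 b6 w6 * S.o 3 b7)))) * S.e 4 0 v)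
        = (S.e 2 p w * S.e 1 0 u) * (S.o 1 b3 * (S.e 2 b4 w4 * (S.o 2 b5 * (S.e 3 b6 w6 * S.o 3 b7)))) * S.e 4 0 v := by
          group
      _ = S.e 1 0 u * ((S.e 2 p w * S.o 1 b3) * (S.e 2 b4 w4 * (S.o 2 b5 * (S.e 3 b6 w6 * S.o 3 b7)))) * S.e 4 0 v := by
          rw [g1]; group
      _ = S.e 1 0 u * (S.o 1 b3 * ((S.e 2 p w * S.e 2 b4 w4) * (S.o 2 b5 * (S.e 3 b6 w6 * S.o 3 b7)))) * S.e 4 0 v := by
          rw [g2]; group
      _ = S.e 1 0 u * (S.o 1 b3 * (S.e 2 b4 w4 * ((S.e 2 p w' * S.o 2 b5) * (S.e 3 b6 w6 * S.o 3 b7)))) * S.e 4 0 v := by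
          rw [g3]; group
      _ = S.e 1 0 u * (S.o 1 b3 * (S.e 2 b4 w4 * (S.o 2 b5 * ((S.e 2 p w' * S.e 3 b6 w6) * S.o 3 b7)))) * S.e 4 0 v := by
          rw [g4]; group
      _ = S.e 1 0 u * (S.o 1 b3 * (S.e 2 b4 w4 * (S.o 2 b5 * (S.e 3 b6 w6 * (S.e 2 p w' *
            (S.o 2 (p * b6) * S.o 3 b7)))))) * S.e 4 0 v := by
          rw [g5]; group
      _ = S.e 1 0 u * (S.o 1 b3 * (S.e 2 b4 w4 * (S.o 2 b5 * (S.e 3 b6 w6 * ((S.e 2 p w' * S.o 3 b7) *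
            S.o 2 (p * b6)))))) * S.e 4 0 v := by
          rw [g6']; group
      _ = S.e 1 0 u * (S.o 1 b3 * (S.e 2 b4 w4 * (S.o 2 b5 * (S.e 3 b6 w6 * (S.o 3 b7 * (S.e 2 p w' *
            (S.e 3 0 (p * b7) * S.o 2 (p * b6)))))))) * S.e 4 0 v := by
          rw [g6]; group
      _ = S.e 1 0 u * (S.o 1 b3 * (S.e 2 b4 w4 * (S.o 2 b5 * (S.e 3 b6 w6 * S.o 3 b7)))) * (S.e 2 p w' *
            (S.o 2 (p * b6) * (S.e 3 0 (p * b7) * S.e 4 0 v))) := by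
          rw [g6'']; group
      _ = S.e 1 0 u * (S.o 1 b3 * (S.e 2 b4 w4 * (S.o 2 b5 * (S.e 3 b6 w6 * S.o 3 b7)))) * (S.e 2 p w' *
            ((S.o 2 (p * b6) * S.e 4 0 v) * S.e 3 0 (p * b7))) := by
          rw [g7'']; group
      _ = S.e 1 0 u * (S.o 1 b3 * (S.e 2 b4 w4 * (S.o 2 b5 * (S.e 3 b6 w6 * S.o 3 b7)))) * ((S.e 2 p w' * S.e 4 0 v) *
            (S.o 2 (p * b6) * S.e 3 0 (p * b7))) := by
          rw [g7']; group
      _ = _ := by rw [g7]; group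
  rw [mul_assoc, key, inv_mul_cancel_left]

/-- uniqueness in `X_4 X_5 X_6` -/
theorem V5_uniq {p w w' s c c' : F} (h : S.e 2 p w * S.o 2 s * S.e 3 0 c = S.e 2 p w' * S.e 3 0 c') : c = c' := by
  have Z := S.zsys8
  have h1 : S.e 3 0 c * (S.e 3 0 c')⁻¹ = (S.e 2 p w * S.o 2 s)⁻¹ * S.e 2 p w' := by
    calc S.e 3 0 c * (S.e 3 0 c')⁻¹ = (S.e 2 p w * S.o 2 s)⁻¹ * (S.e 2 p w * S.o 2 s * S.e 3 0 c) * (S.e 3 0 c')⁻¹ := by
          group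
      _ = _ := by rw [h]; group
  have m6 : S.e 3 0 c * (S.e 3 0 c')⁻¹ ∈ J S.XZ 6 6 :=
    mul_mem (mem_J (S.mX6 0 c) le_rfl le_rfl) (inv_mem (mem_J (S.mX6 0 c') le_rfl le_rfl))
  have m45 : S.e 3 0 c * (S.e 3 0 c')⁻¹ ∈ J S.XZ 4 5 := by
    rw [h1]
    refine mul_mem (inv_mem (mul_mem (mem_J (S.mX4 p w) (by norm_num) (by norm_num))
      (mem_J (S.mX5 s) (by norm_num) (by norm_num)))) (mem_J (S.mX4 p w') (by norm_num) (by norm_num))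
  have h2 := Z.inter_one 1 m6 m45 (by norm_num) (by norm_num) (by norm_num) (by norm_num) (Or.inr (by norm_num))
  exact (S.injE 3 0 c 0 c' (mul_inv_eq_one.1 h2)).2

section Core

variable {S} {G : Type v} [Group G] {i : Y →* G} {t : G}

/-- a commutator commutes with `x` -/
theorem comm_aux {n z x : G} (h1 : z * x = x * z) (h2 : z * (n * x * n⁻¹) = n * x * n⁻¹ * z) :
    (n⁻¹ * z⁻¹ * n * z) * x = x * (n⁻¹ * z⁻¹ * n * z) := by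
  have h3 : z⁻¹ * (n * x * n⁻¹) * z = n * x * n⁻¹ := by
    rw [mul_assoc, ← h2, inv_mul_cancel_left]
  calc (n⁻¹ * z⁻¹ * n * z) * x = n⁻¹ * z⁻¹ * n * (z * x) := by group
    _ = n⁻¹ * z⁻¹ * (n * x * n⁻¹) * n * z := by rw [h1]; group
    _ = n⁻¹ * (z⁻¹ * (n * x * n⁻¹) * z) * z⁻¹ * n * z := by group
    _ = n⁻¹ * (n * x * n⁻¹) * z⁻¹ * n * z := by rw [h3]
    _ = x * (n⁻¹ * z⁻¹ * n * z) := by group

/-- the image of `t` under a commutator -/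
theorem tau_aux {n z z' m m' : G} (h1 : n * t * n⁻¹ = t * z') (htz : t * z = z * t)
    (h2 : z * z' * z⁻¹ = z' * m) (h3 : n⁻¹ * (t * z') * n = t) (h4 : n⁻¹ * m * n = m')
    (h5 : z⁻¹ * m' * z = m') : (n⁻¹ * z⁻¹ * n * z)⁻¹ * t * (n⁻¹ * z⁻¹ * n * z) = t * m' := by
  have e1 : z * (t * z') * z⁻¹ = t * (z' * m) := by
    calc z * (t * z') * z⁻¹ = (z * t) * z' * z⁻¹ := by group
      _ = t * (z * z' * z⁻¹) := by rw [← htz]; group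
      _ = _ := by rw [h2]
  have e2 : z⁻¹ * t * z = t := by rw [mul_assoc, htz, inv_mul_cancel_left]
  calc (n⁻¹ * z⁻¹ * n * z)⁻¹ * t * (n⁻¹ * z⁻¹ * n * z)
      = z⁻¹ * (n⁻¹ * (z * (n * t * n⁻¹) * z⁻¹) * n) * z := by group
    _ = z⁻¹ * (n⁻¹ * (t * (z' * m)) * n) * z := by rw [h1, e1]
    _ = z⁻¹ * ((n⁻¹ * (t * z') * n) * (n⁻¹ * m * n)) * z := by group
    _ = z⁻¹ * (t * m') * z := by rw [h3, h4]
    _ = (z⁻¹ * t * z) * (z⁻¹ * m' * z) := by group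
    _ = t * m' := by rw [e2, h5]

/-- **1.4, the core.** -/
theorem core (P : Pos S i t) {a : F} {φ φ2 φ4 φ6 : F → F} {n8 n2 n4 n6 : G} (h8 : NEl S.toSys i t 4 φ a n8)
    (h2 : NEl S.toSys i t 1 φ2 1 n2) (h4 : NEl S.toSys i t 2 φ4 (φ2 (σ a)) n4) (h6 : NEl S.toSys i t 3 φ6 (φ a) n6) :
    φ 1 = 0 := by
  set R := P.sys with hR
  have ti := P.ti
  -- squares and commutation inside `J_5`
  have ch : (2 : F) = 0 := S.two
  have dbl : ∀ x : F, x + x = 0 := S.add_self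
  have sqE : ∀ (b : ZMod 8) (x : F), R.e b 0 x * R.e b 0 x = 1 := fun b x => by
    rw [R.e_mul, zero_add, zero_mul, add_zero, dbl]
    show i (S.e b 0 0) = 1
    rw [S.e_zero, map_one]
  have sqO : ∀ (b : ZMod 8) (x : F), R.o b x * R.o b x = 1 := fun b x => by
    rw [R.o_add, dbl]
    show i (S.o b 0) = 1
    rw [S.o_zero, map_one]
  have o0 : ∀ b : ZMod 8, R.o b 0 = 1 := fun b => by
    show i (S.o b 0) = 1
    rw [S.o_zero, map_one]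
  have e0 : ∀ b : ZMod 8, R.e b 0 0 = 1 := fun b => by
    show i (S.e b 0 0) = 1
    rw [S.e_zero, map_one]
  have tE : ∀ (b : ZMod 8) (p w : F), t * R.e b p w = R.e b p w * t := fun b p w => ti _
  have tO : ∀ (b : ZMod 8) (x : F), t * R.o b x = R.o b x * t := fun b x => ti _
  -- the elements
  have a8 : n8⁻¹ * t * n8 = t * R.e 4 0 a := h8.tau
  have a2 : n2⁻¹ * t * n2 = t * R.e 1 0 1 := h2.tau
  have a4 : n4⁻¹ * t * n4 = t * R.e 2 0 (φ2 (σ a)) := h4.tau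
  have a6 : n6⁻¹ * t * n6 = t * R.e 3 0 (φ a) := h6.tau
  have b8z : ∀ v, n8 * R.e 4 0 v = R.e 4 0 v * n8 := h8.z
  have b8D : ∀ s, n8 * R.o 3 s = R.o 3 s * n8 := h8.om1
  have b8B : ∀ s, n8 * R.o 2 s = R.o 2 s * n8 := h8.om2
  have b8C : ∀ v, n8 * R.e 3 0 v = R.e 3 0 v * n8 := h8.em1 0
  have b8X : ∀ p w, n8⁻¹ * R.e 2 p w * n8 = R.e 2 p w * R.o 3 (φ p) * R.e 3 0 (φ w) := fun p w => by
    have h : n8⁻¹ * i (S.e 2 p w) * n8 = i (S.e 2 p w * S.o 3 (φ p) * S.e 3 0 (φ w)) := h8.xm p w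
    rw [map_mul, map_mul] at h
    exact h
  have b2z : ∀ v, n2 * R.e 1 0 v = R.e 1 0 v * n2 := h2.z
  have b2B : ∀ s, n2 * R.o 2 s = R.o 2 s * n2 := h2.o1
  have b2X : ∀ p w, n2 * R.e 2 p w = R.e 2 p w * n2 := h2.e1
  have b2C : ∀ v, n2⁻¹ * R.e 3 0 v * n2 = R.e 3 0 v * R.e 2 0 (φ2 v) := fun v => by
    have h : n2⁻¹ * i (S.e 3 0 v) * n2 = i (S.e 3 0 v * S.o 1 (φ2 0) * S.e 2 0 (φ2 v)) := h2.xp 0 v
    rw [h2.phi_zero, S.o_zero, mul_one, map_mul] at h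
    exact h
  have b4A : ∀ v, n4 * R.e 2 0 v = R.e 2 0 v * n4 := h4.z
  have b4B : ∀ s, n4 * R.o 2 s = R.o 2 s * n4 := h4.o0
  have b4C : ∀ v, n4 * R.e 3 0 v = R.e 3 0 v * n4 := h4.e1 0
  have b4X : ∀ p w, n4⁻¹ * R.e 2 p w * n4 = R.e 2 p (w + φ4 p) := h4.x0
  have b6C : ∀ v, n6 * R.e 3 0 v = R.e 3 0 v * n6 := h6.z
  have b6B : ∀ s, n6 * R.o 2 s = R.o 2 s * n6 := h6.om1
  have b6X : ∀ p w, n6 * R.e 2 p w = R.e 2 p w * n6 := h6.em1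
  -- relations
  have rAB : ∀ u s, R.e 2 0 u * R.o 2 s = R.o 2 s * R.e 2 0 u := fun u s => R.e_o0 2 0 u s
  have rBC : ∀ s v, R.o 2 s * R.e 3 0 v = R.e 3 0 v * R.o 2 s := fun s v => R.o_e1 2 s 0 v
  have rXC : ∀ p u v, R.e 2 p u * R.e 3 0 v = R.e 3 0 v * R.e 2 p u := fun p u v => by
    have h : R.e 2 p u * R.e 3 0 v = R.e 3 0 v * R.e 2 p u * R.o 2 (p * 0) := R.e_e1 2 p u 0 v
    rwa [mul_zero, o0, mul_one] at h
  have rAC := rXC 0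
  have rDC : ∀ s v, R.o 3 s * R.e 3 0 v = R.e 3 0 v * R.o 3 s := fun s v => (R.e_o0 3 0 v s).symm
  have rAD : ∀ u s, R.e 2 0 u * R.o 3 s = R.o 3 s * R.e 2 0 u := fun u s => by
    have h : R.e 2 0 u * R.o 3 s = R.o 3 s * R.e 2 0 u * R.e 3 0 (0 * s) := R.e_o1 2 0 u s
    rwa [zero_mul, e0, mul_one] at h
  have z2X : ∀ p w, R.e 1 0 1 * R.e 2 p w = R.e 2 p w * R.e 1 0 1 := fun p w => by
    have h : R.e 1 0 1 * R.e 2 p w = R.e 2 p w * R.e 1 0 1 * R.o 1 (0 * p) := R.e_e1 1 0 1 p w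
    rwa [zero_mul, o0, mul_one] at h
  have z2B : ∀ s, R.e 1 0 1 * R.o 2 s = R.o 2 s * R.e 1 0 1 := fun s => by
    have h : R.e 1 0 1 * R.o 2 s = R.o 2 s * R.e 1 0 1 * R.e 2 0 (0 * s) := R.e_o1 1 0 1 s
    rwa [zero_mul, e0, mul_one] at h
  have z2C : ∀ v, R.e 1 0 1 * R.e 3 0 v = R.e 3 0 v * R.e 1 0 1 := fun v => R.e_e2 1 0 1 0 v
  have z2D : ∀ s, R.e 1 0 1 * R.o 3 s = R.o 3 s * R.e 1 0 1 * R.e 2 0 s := fun s => by
    have h : R.e 1 0 1 * R.o 3 s = R.o 3 s * R.e 1 0 1 * R.e 2 0 (0 * σ 0 * s + 1 * s) * R.o 2 (σ 0 * s) *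
      R.e 3 0 (0 * σ s) := R.e_o2 1 0 1 s
    rwa [map_zero, zero_mul, zero_mul, zero_add, one_mul, zero_mul, o0, e0, mul_one, mul_one] at h
  have z8X : ∀ p w, R.e 4 0 a * R.e 2 p w = R.e 2 p w * R.e 4 0 a := fun p w => (R.e_e2 2 p w 0 a).symm
  have z8B : ∀ s, R.e 4 0 a * R.o 2 s = R.o 2 s * R.e 4 0 a := fun s => by
    have h : R.o 2 s * R.e 4 0 a = R.e 4 0 a * R.o 2 s * R.e 3 0 (s * 0) := R.o_e2 2 s 0 a
    rw [mul_zero, e0, mul_one] at h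
    exact h.symm
  have z8C : ∀ v, R.e 4 0 a * R.e 3 0 v = R.e 3 0 v * R.e 4 0 a := fun v => by
    have h : R.e 3 0 v * R.e 4 0 a = R.e 4 0 a * R.e 3 0 v * R.o 3 (0 * 0) := R.e_e1 3 0 v 0 a
    rw [mul_zero, o0, mul_one] at h
    exact h.symm
  have z28 : R.e 1 0 1 * R.e 4 0 a = R.e 4 0 a * R.e 1 0 1 * (R.e 2 0 a * R.o 2 a * R.e 3 0 (σ a)) := by
    have h := R.e_e3 1 0 1 0 a
    simp only [map_zero, map_one, zero_mul, mul_zero, zero_add, add_zero, one_mul, mul_one] at h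
    have h' : R.e 1 0 1 * R.e 4 0 a = R.e 4 0 a * R.e 1 0 1 * R.o 1 0 * R.e 2 0 a * R.o 2 a * R.e 3 0 (σ a) *
      R.o 3 0 := h
    rw [o0, o0, mul_one, mul_one] at h'
    rw [h']; group
  have tz2 : t * R.e 1 0 1 = R.e 1 0 1 * t := tE _ _ _
  have tz8 : t * R.e 4 0 a = R.e 4 0 a * t := tE _ _ _
  have s2 : R.e 1 0 1 * R.e 1 0 1 = 1 := sqE _ _
  have s8 : R.e 4 0 a * R.e 4 0 a = 1 := sqE _ _
  have b2z' : n2 * R.e 1 0 1 = R.e 1 0 1 * n2 := b2z 1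
  have b8z' : n8 * R.e 4 0 a = R.e 4 0 a * n8 := b8z a
  have z2m : R.e 1 0 1 * (R.e 2 0 a * R.o 2 a * R.e 3 0 (σ a)) = R.e 2 0 a * R.o 2 a * R.e 3 0 (σ a) * R.e 1 0 1 := by
    calc R.e 1 0 1 * (R.e 2 0 a * R.o 2 a * R.e 3 0 (σ a)) = (R.e 1 0 1 * R.e 2 0 a) * R.o 2 a * R.e 3 0 (σ a) := by
          group
      _ = R.e 2 0 a * (R.e 1 0 1 * R.o 2 a) * R.e 3 0 (σ a) := by rw [z2X]; group
      _ = R.e 2 0 a * R.o 2 a * (R.e 1 0 1 * R.e 3 0 (σ a)) := by rw [z2B]; group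
      _ = _ := by rw [z2C]; group
  have z8m : R.e 4 0 a * (R.e 2 0 a * R.o 2 a * R.e 3 0 (σ a)) = R.e 2 0 a * R.o 2 a * R.e 3 0 (σ a) * R.e 4 0 a := by
    calc R.e 4 0 a * (R.e 2 0 a * R.o 2 a * R.e 3 0 (σ a)) = (R.e 4 0 a * R.e 2 0 a) * R.o 2 a * R.e 3 0 (σ a) := by
          group
      _ = R.e 2 0 a * (R.e 4 0 a * R.o 2 a) * R.e 3 0 (σ a) := by rw [z8X]; group
      _ = R.e 2 0 a * R.o 2 a * (R.e 4 0 a * R.e 3 0 (σ a)) := by rw [z8B]; group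
      _ = _ := by rw [z8C]; group
  have mm : (R.e 2 0 a * R.o 2 a * R.e 3 0 (σ a)) * (R.e 2 0 a * R.o 2 a * R.e 3 0 (σ a)) = 1 := by
    calc (R.e 2 0 a * R.o 2 a * R.e 3 0 (σ a)) * (R.e 2 0 a * R.o 2 a * R.e 3 0 (σ a))
        = R.e 2 0 a * R.o 2 a * (R.e 3 0 (σ a) * R.e 2 0 a) * R.o 2 a * R.e 3 0 (σ a) := by group
      _ = R.e 2 0 a * (R.o 2 a * R.e 2 0 a) * (R.e 3 0 (σ a) * R.o 2 a) * R.e 3 0 (σ a) := by rw [← rAC]; group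
      _ = (R.e 2 0 a * R.e 2 0 a) * (R.o 2 a * R.o 2 a) * (R.e 3 0 (σ a) * R.e 3 0 (σ a)) := by
        rw [← rAB, ← rBC]; group
      _ = 1 := by rw [sqE, sqE, sqO]; group
  set z2 := R.e 1 0 1 with hz2
  set z8 := R.e 4 0 a with hz8
  set m := R.e 2 0 a * R.o 2 a * R.e 3 0 (σ a) with hm
  have mi : m⁻¹ = m := inv_eq_of_mul_eq_one_left mm
  -- the commutator `h'`
  have n2m : n2⁻¹ * m * n2 = m * R.e 2 0 (φ2 (σ a)) := by
    have e1 : n2⁻¹ * R.e 2 0 a * n2 = R.e 2 0 a := by rw [mul_assoc, ← b2X, inv_mul_cancel_left]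
    have e2 : n2⁻¹ * R.o 2 a * n2 = R.o 2 a := by rw [mul_assoc, ← b2B, inv_mul_cancel_left]
    calc n2⁻¹ * m * n2 = (n2⁻¹ * R.e 2 0 a * n2) * (n2⁻¹ * R.o 2 a * n2) * (n2⁻¹ * R.e 3 0 (σ a) * n2) := by
          rw [hm]; group
      _ = _ := by rw [e1, e2, b2C, hm]; group
  have n8m : n8⁻¹ * m * n8 = m * R.e 3 0 (φ a) := by
    have e1 : n8⁻¹ * R.e 2 0 a * n8 = R.e 2 0 a * R.e 3 0 (φ a) := by rw [b8X, h8.phi_zero, o0, mul_one]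
    have e2 : n8⁻¹ * R.o 2 a * n8 = R.o 2 a := by rw [mul_assoc, ← b8B, inv_mul_cancel_left]
    have e3 : n8⁻¹ * R.e 3 0 (σ a) * n8 = R.e 3 0 (σ a) := by rw [mul_assoc, ← b8C, inv_mul_cancel_left]
    have e4 : R.e 3 0 (φ a) * R.e 3 0 (σ a) = R.e 3 0 (σ a) * R.e 3 0 (φ a) := by
      rw [R.e_mul, R.e_mul]; congr 1; ring
    calc n8⁻¹ * m * n8 = (n8⁻¹ * R.e 2 0 a * n8) * (n8⁻¹ * R.o 2 a * n8) * (n8⁻¹ * R.e 3 0 (σ a) * n8) := by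
          rw [hm]; group
      _ = R.e 2 0 a * (R.e 3 0 (φ a) * R.o 2 a) * R.e 3 0 (σ a) := by rw [e1, e2, e3]; group
      _ = R.e 2 0 a * R.o 2 a * (R.e 3 0 (φ a) * R.e 3 0 (σ a)) := by rw [← rBC]; group
      _ = _ := by rw [e4, hm]; group
  have T1 : (n2⁻¹ * z8⁻¹ * n2 * z8)⁻¹ * t * (n2⁻¹ * z8⁻¹ * n2 * z8) = t * (m * R.e 2 0 (φ2 (σ a))) := by
    refine tau_aux (z' := z2) (m := m) ?_ tz8 ?_ ?_ n2m ?_
    · calc n2 * t * n2⁻¹ = n2 * ((t * z2) * z2) * n2⁻¹ := by rw [mul_assoc t, s2, mul_one]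
        _ = n2 * ((n2⁻¹ * t * n2) * z2) * n2⁻¹ := by rw [a2]
        _ = t * (n2 * z2) * n2⁻¹ := by group
        _ = t * z2 := by rw [b2z']; group
    · calc z8 * z2 * z8⁻¹ = z2 * z8 * m⁻¹ * z8⁻¹ := by rw [z28]; group
        _ = z2 * (z8 * m) * z8⁻¹ := by rw [mi]; group
        _ = z2 * m := by rw [z8m]; group
    · calc n2⁻¹ * (t * z2) * n2 = (n2⁻¹ * t * n2) * (n2⁻¹ * (z2 * n2)) := by group
        _ = t * z2 * z2 := by rw [a2, ← b2z']; group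
        _ = t := by rw [mul_assoc, s2, mul_one]
    · calc z8⁻¹ * (m * R.e 2 0 (φ2 (σ a))) * z8 = z8⁻¹ * m * (R.e 2 0 (φ2 (σ a)) * z8) := by group
        _ = z8⁻¹ * (m * z8) * R.e 2 0 (φ2 (σ a)) := by rw [← z8X]; group
        _ = _ := by rw [← z8m]; group
  have T2 : (n8⁻¹ * z2⁻¹ * n8 * z2)⁻¹ * t * (n8⁻¹ * z2⁻¹ * n8 * z2) = t * (m * R.e 3 0 (φ a)) := by
    refine tau_aux (z' := z8) (m := m) ?_ tz2 ?_ ?_ n8m ?_
    · calc n8 * t * n8⁻¹ = n8 * ((t * z8) * z8) * n8⁻¹ := by rw [mul_assoc t, s8, mul_one]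
        _ = n8 * ((n8⁻¹ * t * n8) * z8) * n8⁻¹ := by rw [a8]
        _ = t * (n8 * z8) * n8⁻¹ := by group
        _ = t * z8 := by rw [b8z']; group
    · calc z2 * z8 * z2⁻¹ = z8 * (z2 * m) * z2⁻¹ := by rw [z28]; group
        _ = z8 * m := by rw [z2m]; group
    · calc n8⁻¹ * (t * z8) * n8 = (n8⁻¹ * t * n8) * (n8⁻¹ * (z8 * n8)) := by group
        _ = t * z8 * z8 := by rw [a8, ← b8z']; group
        _ = t := by rw [mul_assoc, s8, mul_one]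
    · calc z2⁻¹ * (m * R.e 3 0 (φ a)) * z2 = z2⁻¹ * m * (R.e 3 0 (φ a) * z2) := by group
        _ = z2⁻¹ * (m * z2) * R.e 3 0 (φ a) := by rw [← z2C]; group
        _ = _ := by rw [← z2m]; group
  set h' := n2⁻¹ * z8⁻¹ * n2 * z8 with hh'
  set h := n8⁻¹ * z2⁻¹ * n8 * z2 with hh
  have n4m : n4 * m = m * n4 := by
    calc n4 * m = (n4 * R.e 2 0 a) * R.o 2 a * R.e 3 0 (σ a) := by rw [hm]; group
      _ = R.e 2 0 a * (n4 * R.o 2 a) * R.e 3 0 (σ a) := by rw [b4A]; group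
      _ = R.e 2 0 a * R.o 2 a * (n4 * R.e 3 0 (σ a)) := by rw [b4B]; group
      _ = _ := by rw [b4C, hm]; group
  have n6m : n6 * m = m * n6 := by
    calc n6 * m = (n6 * R.e 2 0 a) * R.o 2 a * R.e 3 0 (σ a) := by rw [hm]; group
      _ = R.e 2 0 a * (n6 * R.o 2 a) * R.e 3 0 (σ a) := by rw [b6X]; group
      _ = R.e 2 0 a * R.o 2 a * (n6 * R.e 3 0 (σ a)) := by rw [b6B]; group
      _ = _ := by rw [b6C, hm]; group
  have mA : m * R.e 2 0 (φ2 (σ a)) = R.e 2 0 (φ2 (σ a)) * m := by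
    have e4 : R.e 2 0 a * R.e 2 0 (φ2 (σ a)) = R.e 2 0 (φ2 (σ a)) * R.e 2 0 a := by
      rw [R.e_mul, R.e_mul]; congr 1; ring
    calc m * R.e 2 0 (φ2 (σ a)) = R.e 2 0 a * R.o 2 a * (R.e 3 0 (σ a) * R.e 2 0 (φ2 (σ a))) := by rw [hm]; group
      _ = R.e 2 0 a * (R.o 2 a * R.e 2 0 (φ2 (σ a))) * R.e 3 0 (σ a) := by rw [← rAC]; group
      _ = (R.e 2 0 a * R.e 2 0 (φ2 (σ a))) * R.o 2 a * R.e 3 0 (σ a) := by rw [← rAB]; group
      _ = _ := by rw [e4, hm]; group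
  have T3 : (h' * n4 * n6)⁻¹ * t * (h' * n4 * n6) = t * (m * R.e 3 0 (φ a)) := by
    have e1 : n4⁻¹ * (t * (m * R.e 2 0 (φ2 (σ a)))) * n4 = t * m := by
      calc n4⁻¹ * (t * (m * R.e 2 0 (φ2 (σ a)))) * n4
          = (n4⁻¹ * t * n4) * (n4⁻¹ * (m * (R.e 2 0 (φ2 (σ a)) * n4))) := by group
        _ = (n4⁻¹ * t * n4) * (n4⁻¹ * ((m * n4) * R.e 2 0 (φ2 (σ a)))) := by rw [← b4A]; group
        _ = t * (R.e 2 0 (φ2 (σ a)) * m) * R.e 2 0 (φ2 (σ a)) := by rw [← n4m, a4]; group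
        _ = t * m * (R.e 2 0 (φ2 (σ a)) * R.e 2 0 (φ2 (σ a))) := by rw [← mA]; group
        _ = t * m := by rw [sqE, mul_one]
    have e2 : n6⁻¹ * (t * m) * n6 = t * (m * R.e 3 0 (φ a)) := by
      have mC : R.e 3 0 (φ a) * m = m * R.e 3 0 (φ a) := by
        have e4 : R.e 3 0 (φ a) * R.e 3 0 (σ a) = R.e 3 0 (σ a) * R.e 3 0 (φ a) := by
          rw [R.e_mul, R.e_mul]; congr 1; ring
        calc R.e 3 0 (φ a) * m = (R.e 3 0 (φ a) * R.e 2 0 a) * R.o 2 a * R.e 3 0 (σ a) := by rw [hm]; group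
          _ = R.e 2 0 a * (R.e 3 0 (φ a) * R.o 2 a) * R.e 3 0 (σ a) := by rw [← rAC]; group
          _ = R.e 2 0 a * R.o 2 a * (R.e 3 0 (φ a) * R.e 3 0 (σ a)) := by rw [← rBC]; group
          _ = _ := by rw [e4, hm]; group
      calc n6⁻¹ * (t * m) * n6 = (n6⁻¹ * t * n6) * (n6⁻¹ * (m * n6)) := by group
        _ = t * (R.e 3 0 (φ a) * m) := by rw [← n6m, a6]; group
        _ = _ := by rw [mC]
    calc (h' * n4 * n6)⁻¹ * t * (h' * n4 * n6) = n6⁻¹ * (n4⁻¹ * (h'⁻¹ * t * h') * n4) * n6 := by group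
      _ = _ := by rw [T1, e1, e2]
  set g := h' * n4 * n6 * h⁻¹ with hg
  have gt : g * t = t * g := by
    have e1 : (h' * n4 * n6)⁻¹ * t * (h' * n4 * n6) = h⁻¹ * t * h := by rw [T3, T2]
    calc g * t = (h' * n4 * n6) * (h⁻¹ * t * h) * h⁻¹ := by rw [hg]; group
      _ = (h' * n4 * n6) * ((h' * n4 * n6)⁻¹ * t * (h' * n4 * n6)) * h⁻¹ := by rw [e1]
      _ = t * g := by rw [hg]; group
  -- conjugation by `n2`, `n8` from the other side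
  have c2C : ∀ v, n2 * R.e 3 0 v * n2⁻¹ = R.e 3 0 v * R.e 2 0 (φ2 v) := fun v => by
    have e1 := b2C v
    have e2 : R.e 3 0 v = n2 * R.e 3 0 v * n2⁻¹ * R.e 2 0 (φ2 v) := by
      calc R.e 3 0 v = n2 * (n2⁻¹ * R.e 3 0 v * n2) * n2⁻¹ := by group
        _ = n2 * R.e 3 0 v * (R.e 2 0 (φ2 v) * n2⁻¹) := by rw [e1]; group
        _ = n2 * R.e 3 0 v * (n2⁻¹ * (n2 * R.e 2 0 (φ2 v)) * n2⁻¹) := by group
        _ = _ := by rw [b2X]; group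
    calc n2 * R.e 3 0 v * n2⁻¹ = (n2 * R.e 3 0 v * n2⁻¹ * R.e 2 0 (φ2 v)) * R.e 2 0 (φ2 v) := by
          rw [mul_assoc _ (R.e 2 0 (φ2 v)), sqE, mul_one]
      _ = _ := by rw [← e2]
  have c8X : ∀ p w, n8 * R.e 2 p w * n8⁻¹ = R.e 2 p w * R.o 3 (φ p) * R.e 3 0 (φ w) := fun p w => by
    have e1 := b8X p w
    have e3 : R.o 3 (φ p) * R.e 3 0 (φ w) * n8⁻¹ = n8⁻¹ * (R.o 3 (φ p) * R.e 3 0 (φ w)) := by
      have e4 : n8 * (R.o 3 (φ p) * R.e 3 0 (φ w)) = (R.o 3 (φ p) * R.e 3 0 (φ w)) * n8 := by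
        rw [← mul_assoc, b8D, mul_assoc, b8C, ← mul_assoc]
      calc R.o 3 (φ p) * R.e 3 0 (φ w) * n8⁻¹ = n8⁻¹ * (n8 * (R.o 3 (φ p) * R.e 3 0 (φ w))) * n8⁻¹ := by group
        _ = _ := by rw [e4]; group
    have e2 : R.e 2 p w = n8 * R.e 2 p w * n8⁻¹ * (R.o 3 (φ p) * R.e 3 0 (φ w)) := by
      calc R.e 2 p w = n8 * (n8⁻¹ * R.e 2 p w * n8) * n8⁻¹ := by group
        _ = n8 * R.e 2 p w * (R.o 3 (φ p) * R.e 3 0 (φ w) * n8⁻¹) := by rw [e1]; group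
        _ = _ := by rw [e3]; group
    have e5 : (R.o 3 (φ p) * R.e 3 0 (φ w)) * (R.o 3 (φ p) * R.e 3 0 (φ w)) = 1 := by
      calc (R.o 3 (φ p) * R.e 3 0 (φ w)) * (R.o 3 (φ p) * R.e 3 0 (φ w))
          = R.o 3 (φ p) * (R.e 3 0 (φ w) * R.o 3 (φ p)) * R.e 3 0 (φ w) := by group
        _ = (R.o 3 (φ p) * R.o 3 (φ p)) * (R.e 3 0 (φ w) * R.e 3 0 (φ w)) := by rw [← rDC]; group
        _ = 1 := by rw [sqO, sqE, one_mul]
    calc n8 * R.e 2 p w * n8⁻¹ = (n8 * R.e 2 p w * n8⁻¹ * (R.o 3 (φ p) * R.e 3 0 (φ w))) *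
          (R.o 3 (φ p) * R.e 3 0 (φ w)) := by
          rw [mul_assoc _ (R.o 3 (φ p) * R.e 3 0 (φ w)) (R.o 3 (φ p) * R.e 3 0 (φ w)), e5, mul_one]
      _ = _ := by rw [← e2]; group
  -- `g` centralises `J_5`
  have conj_of : ∀ {n x : G}, n * x = x * n → n * x * n⁻¹ = x := fun h => by rw [h, mul_inv_cancel_right]
  have comm_g : ∀ {x : G}, h' * x = x * h' → n4 * x = x * n4 → n6 * x = x * n6 → h * x = x * h → g * x = x * g := by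
    intro x h1 h2 h3 h4
    have h5 : h⁻¹ * x = x * h⁻¹ := by rw [inv_mul_eq_iff_eq_mul, ← mul_assoc, h4, mul_inv_cancel_right]
    calc g * x = h' * n4 * n6 * (h⁻¹ * x) := by rw [hg]; group
      _ = h' * n4 * (n6 * x) * h⁻¹ := by rw [h5]; group
      _ = h' * (n4 * x) * n6 * h⁻¹ := by rw [h3]; group
      _ = (h' * x) * n4 * n6 * h⁻¹ := by rw [h2]; group
      _ = x * g := by rw [h1, hg]; group
  have gA : ∀ u, g * R.e 2 0 u = R.e 2 0 u * g := fun u => by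
    refine comm_g (comm_aux (z8X 0 u) ?_) (b4A u) (b6X 0 u) (comm_aux (z2X 0 u) ?_)
    · rw [conj_of (b2X 0 u)]; exact z8X 0 u
    · rw [c8X, h8.phi_zero, o0, mul_one, ← mul_assoc, z2X, mul_assoc, z2C, ← mul_assoc]
  have gB : ∀ u, g * R.o 2 u = R.o 2 u * g := fun u => by
    refine comm_g (comm_aux (z8B u) ?_) (b4B u) (b6B u) (comm_aux (z2B u) ?_)
    · rw [conj_of (b2B u)]; exact z8B u
    · rw [conj_of (b8B u)]; exact z2B u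
  have gC : ∀ u, g * R.e 3 0 u = R.e 3 0 u * g := fun u => by
    refine comm_g (comm_aux (z8C u) ?_) (b4C u) (b6C u) (comm_aux (z2C u) ?_)
    · rw [c2C, ← mul_assoc, z8C, mul_assoc, z8X, ← mul_assoc]
    · rw [conj_of (b8C u)]; exact z2C u
  -- so `g` lies in `⟨t⟩ × NO`
  obtain ⟨y, hy, hgy⟩ : ∃ y ∈ Subgroup.centralizer (S.V5 : Set Y), g = i y ∨ g = t * i y := by
    refine P.lift (a := 2) (fun z hz => ?_) gt ?_
    · obtain ⟨u, rfl⟩ := hz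
      exact S.mem_V5.2 ⟨u, 0, 0, by rw [S.o_zero, S.e_zero, mul_one, mul_one]; rfl⟩
    · intro y hy
      obtain ⟨u, s, v, rfl⟩ := S.mem_V5.1 hy
      rw [map_mul, map_mul]
      show g * (R.e 2 0 u * R.o 2 s * R.e 3 0 v) = R.e 2 0 u * R.o 2 s * R.e 3 0 v * g
      calc g * (R.e 2 0 u * R.o 2 s * R.e 3 0 v) = (g * R.e 2 0 u) * R.o 2 s * R.e 3 0 v := by group
        _ = R.e 2 0 u * (g * R.o 2 s) * R.e 3 0 v := by rw [gA]; group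
        _ = R.e 2 0 u * R.o 2 s * (g * R.e 3 0 v) := by rw [gB]; group
        _ = _ := by rw [gC]; group
  rw [S.centralizer_V5] at hy
  obtain ⟨b4', b6', b7', hb⟩ := NO_conj S hy
  have key : ∀ p, p * b7' = φ (φ p) := by
    intro p
    -- the action of `g` on `X_4`, through `y`
    have k1 : g⁻¹ * R.e 2 p 0 * g = i (S.e 2 p (0 + b4' * σ p + p * σ b4') * S.o 2 (p * b6') * S.e 3 0 (p * b7')) := by
      have k2 : i (y⁻¹ * S.e 2 p 0 * y) = (i y)⁻¹ * R.e 2 p 0 * i y := by rw [map_mul, map_mul, map_inv]; rfl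
      rw [← hb, k2]
      rcases hgy with e | e
      · rw [e]
      · rw [e, mul_inv_rev, P.t_inv]
        calc (i y)⁻¹ * t * R.e 2 p 0 * (t * i y) = (i y)⁻¹ * (t * R.e 2 p 0) * t * i y := by group
          _ = (i y)⁻¹ * R.e 2 p 0 * (t * t) * i y := by rw [tE]; group
          _ = _ := by rw [P.tt, mul_one]
    -- directly
    have k3 : h'⁻¹ * R.e 2 p 0 * h' = R.e 2 p 0 := by
      have e1 : h' * R.e 2 p 0 = R.e 2 p 0 * h' := by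
        refine comm_aux (z8X p 0) ?_
        rw [conj_of (b2X p 0)]; exact z8X p 0
      rw [mul_assoc, ← e1, inv_mul_cancel_left]
    have k4 : n6⁻¹ * (n4⁻¹ * R.e 2 p 0 * n4) * n6 = R.e 2 p (0 + φ4 p) := by
      rw [b4X, mul_assoc, ← b6X, inv_mul_cancel_left]
    have k5 : ∀ w, h * R.e 2 p w * h⁻¹ = R.e 2 p w * R.e 2 0 (φ p) * R.e 3 0 (φ (φ p)) := by
      intro w
      have d1 : z2 * R.e 2 p w * z2⁻¹ = R.e 2 p w := conj_of (z2X p w)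
      have d2 : z2⁻¹ * R.o 3 (φ p) * z2 = R.o 3 (φ p) * R.e 2 0 (φ p) := by
        have d3 : z2 * R.e 2 0 (φ p) = R.e 2 0 (φ p) * z2 := z2X 0 _
        calc z2⁻¹ * R.o 3 (φ p) * z2 = z2⁻¹ * (R.o 3 (φ p) * z2 * R.e 2 0 (φ p)) * (R.e 2 0 (φ p))⁻¹ := by group
          _ = z2⁻¹ * (z2 * R.o 3 (φ p)) * (R.e 2 0 (φ p))⁻¹ := by rw [z2D]
          _ = R.o 3 (φ p) * (R.e 2 0 (φ p))⁻¹ := by group
          _ = _ := by rw [inv_eq_of_mul_eq_one_left (sqE _ _)]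
      have d4 : z2⁻¹ * R.e 3 0 (φ w) * z2 = R.e 3 0 (φ w) := by rw [mul_assoc, ← z2C, inv_mul_cancel_left]
      have d5 : z2⁻¹ * R.e 2 p w * z2 = R.e 2 p w := by rw [mul_assoc, ← z2X, inv_mul_cancel_left]
      have d6 : n8⁻¹ * R.o 3 (φ p) * n8 = R.o 3 (φ p) := by rw [mul_assoc, ← b8D, inv_mul_cancel_left]
      have d7 : n8⁻¹ * R.e 3 0 (φ w) * n8 = R.e 3 0 (φ w) := by rw [mul_assoc, ← b8C, inv_mul_cancel_left]
      have d8 : n8⁻¹ * R.e 2 0 (φ p) * n8 = R.e 2 0 (φ p) * R.e 3 0 (φ (φ p)) := by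
        rw [b8X, h8.phi_zero, o0, mul_one]
      have d9 : R.e 3 0 (φ (φ p)) * R.e 3 0 (φ w) = R.e 3 0 (φ w) * R.e 3 0 (φ (φ p)) := by
        rw [R.e_mul, R.e_mul]; congr 1; ring
      calc h * R.e 2 p w * h⁻¹
          = n8⁻¹ * (z2⁻¹ * (n8 * (z2 * R.e 2 p w * z2⁻¹) * n8⁻¹) * z2) * n8 := by rw [hh]; group
        _ = n8⁻¹ * (z2⁻¹ * (R.e 2 p w * R.o 3 (φ p) * R.e 3 0 (φ w)) * z2) * n8 := by rw [d1, c8X]
        _ = n8⁻¹ * ((z2⁻¹ * R.e 2 p w * z2) * (z2⁻¹ * R.o 3 (φ p) * z2) * (z2⁻¹ * R.e 3 0 (φ w) * z2)) * n8 := by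
            group
        _ = n8⁻¹ * (R.e 2 p w * (R.o 3 (φ p) * R.e 2 0 (φ p)) * R.e 3 0 (φ w)) * n8 := by rw [d5, d2, d4]
        _ = (n8⁻¹ * R.e 2 p w * n8) * (n8⁻¹ * R.o 3 (φ p) * n8) * (n8⁻¹ * R.e 2 0 (φ p) * n8) *
              (n8⁻¹ * R.e 3 0 (φ w) * n8) := by group
        _ = (R.e 2 p w * R.o 3 (φ p) * R.e 3 0 (φ w)) * R.o 3 (φ p) * (R.e 2 0 (φ p) * R.e 3 0 (φ (φ p))) *
              R.e 3 0 (φ w) := by rw [b8X, d6, d8, d7]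
        _ = R.e 2 p w * R.o 3 (φ p) * (R.e 3 0 (φ w) * R.o 3 (φ p)) * R.e 2 0 (φ p) *
              (R.e 3 0 (φ (φ p)) * R.e 3 0 (φ w)) := by group
        _ = R.e 2 p w * (R.o 3 (φ p) * R.o 3 (φ p)) * (R.e 3 0 (φ w) * R.e 2 0 (φ p)) * R.e 3 0 (φ w) *
              R.e 3 0 (φ (φ p)) := by rw [← rDC, d9]; group
        _ = R.e 2 p w * R.e 2 0 (φ p) * (R.e 3 0 (φ w) * R.e 3 0 (φ w)) * R.e 3 0 (φ (φ p)) := by
            rw [sqO, ← rAC]; group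
        _ = _ := by rw [sqE, mul_one]
    have k6 : g⁻¹ * R.e 2 p 0 * g = R.e 2 p (0 + φ4 p) * R.e 2 0 (φ p) * R.e 3 0 (φ (φ p)) := by
      calc g⁻¹ * R.e 2 p 0 * g = h * (n6⁻¹ * (n4⁻¹ * (h'⁻¹ * R.e 2 p 0 * h') * n4) * n6) * h⁻¹ := by rw [hg]; group
        _ = _ := by rw [k3, k4, k5]
    rw [k1] at k6
    have k7 : R.e 2 p (0 + φ4 p) * R.e 2 0 (φ p) * R.e 3 0 (φ (φ p)) = i (S.e 2 p (0 + φ4 p + φ p) *
        S.e 3 0 (φ (φ p))) := by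
      rw [R.e_mul, map_zero, mul_zero, add_zero, add_zero, map_mul]
      rfl
    rw [k7] at k6
    exact V5_uniq S (P.inj k6)
  -- the field argument
  by_contra hc
  have hsurj : ∀ x : F, ∃ r, σ r = x := by
    have := P.finF
    exact fun x => (Finite.injective_iff_surjective.1 σ.injective) x
  have k8 : ∀ s : F, s ^ 2 * (σ (φ 1)⁻¹ * b7') = φ 1 * s := by
    intro s
    have e1 := key (σ ((φ 1)⁻¹ * σ s))
    rw [h8.phi, ← mul_assoc, mul_inv_cancel₀ hc, one_mul, h8.phi, map_mul, S.sq] at e1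
    rw [← e1]; ring
  have k9 : σ (φ 1)⁻¹ * b7' = φ 1 := by
    have := k8 1
    rwa [one_pow, one_mul, mul_one] at this
  have k10 : ∀ s : F, s = 0 ∨ s = 1 := by
    intro s
    have e1 := k8 s
    rw [k9] at e1
    have e2 : φ 1 * (s * (s - 1)) = 0 := by linear_combination e1
    rcases mul_eq_zero.1 e2 with h | h
    · exact absurd h hc
    · rcases mul_eq_zero.1 h with h | h
      · exact Or.inl h
      · exact Or.inr (sub_eq_zero.1 h)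
  have := P.finF
  have hle : Nat.card F ≤ Nat.card (Fin 2) := by
    refine Nat.card_le_card_of_surjective (fun k : Fin 2 => if k = 0 then (0 : F) else 1) ?_
    intro s
    rcases k10 s with rfl | rfl
    · exact ⟨0, rfl⟩
    · exact ⟨1, rfl⟩
  have hb := P.big
  have h2' : Nat.card (Fin 2) = 2 := by simp
  omega

/-- rotation of the elements of 1.3 -/
theorem rotN (P : Pos S i t) {a : ZMod 8} {φ : F → F} {u : F} {n : G} (h : NEl S.toSys i t a φ u n) (k : ℕ) :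
    ∃ n', NEl S.toSys i t (a + k) φ u n' := by
  induction k with
  | zero => exact ⟨n, by simpa using h⟩
  | succ k ih =>
    obtain ⟨n', hn'⟩ := ih
    refine ⟨i S.rot * n' * (i S.rot)⁻¹, ?_⟩
    have e : a + ((k + 1 : ℕ) : ZMod 8) = a + k + 1 := by push_cast; ring
    rw [e]
    exact hn'.rot P.ti

/-- **1.4**: the constant is zero. -/
theorem phi_eq_zero (P : Pos S i t) (hn : ∀ u : F, ∃ (φ : F → F) (n : G), NEl S.toSys i t 2 φ u n) {φ : F → F} {u : F}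
    {n : G} (h : NEl S.toSys i t 2 φ u n) (x : F) : φ x = 0 := by
  obtain ⟨n8, h8⟩ := rotN P h 2
  obtain ⟨φ2, m2, h2⟩ := hn 1
  obtain ⟨n2, h2⟩ := rotN P h2 7
  obtain ⟨φ4, n4, h4⟩ := hn (φ2 (σ u))
  obtain ⟨φ6, m6, h6⟩ := hn (φ u)
  obtain ⟨n6, h6⟩ := rotN P h6 1
  have h1 : φ 1 = 0 := core P h8 h2 h4 h6
  have := P.finF
  obtain ⟨r, rfl⟩ := (Finite.injective_iff_surjective.1 σ.injective) x
  rw [h.phi, h1, zero_mul]

/-- the elements `w` centralising `P_4` with `[w, t] = i (e 2 0 u)` -/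
theorem exists_cent (P : Pos S i t) (hn : ∀ u : F, ∃ (φ : F → F) (n : G), NEl S.toSys i t 2 φ u n) (u : F) :
    ∃ w : G, (∀ y ∈ S.PL, w * i y = i y * w) ∧ t * w * t = w * i (S.e 2 0 u) := by
  obtain ⟨φ, n, h⟩ := hn u
  have h0 := phi_eq_zero P hn h
  refine ⟨n, ?_, ?_⟩
  · have hle : S.PL ≤ (Subgroup.centralizer ({n} : Set G)).comap i := by
      refine J_le fun k h1 h2 y hy => ?_
      rw [Subgroup.mem_comap, Subgroup.mem_centralizer_singleton_iff]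
      have e2 : ∀ {x : G}, n⁻¹ * x * n = x → x * n = n * x := fun {x} hx => by
        calc x * n = n * (n⁻¹ * x * n) := by group
          _ = n * x := by rw [hx]
      have hk : k = 0 ∨ k = 1 ∨ k = 2 ∨ k = 3 ∨ k = 4 ∨ k = 5 ∨ k = 6 ∨ k = 7 ∨ k = 8 := by omega
      rcases hk with rfl | rfl | rfl | rfl | rfl | rfl | rfl | rfl | rfl
      · obtain ⟨p, w, rfl⟩ := (S.mem_XZ_even 0 y).1 hy
        have h3 : n⁻¹ * i (S.e 0 p w) * n = i (S.e 0 p w * S.o 1 (φ p) * S.e 1 0 (φ w)) := h.xm p w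
        rw [h0, h0, S.o_zero, S.e_zero, mul_one, mul_one] at h3
        exact e2 h3
      · obtain ⟨x, rfl⟩ := S.X1 hy
        exact (h.om2 x).symm
      · obtain ⟨p, w, rfl⟩ := S.X2 hy
        exact (h.em1 p w).symm
      · obtain ⟨x, rfl⟩ := S.X3 hy
        exact (h.om1 x).symm
      · obtain ⟨p, w, rfl⟩ := S.X4 hy
        have h3 := h.x0 p w
        rw [h0, add_zero] at h3
        exact e2 h3
      · obtain ⟨x, rfl⟩ := S.X5 hy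
        exact (h.o0 x).symm
      · obtain ⟨p, w, rfl⟩ := S.X6 hy
        exact (h.e1 p w).symm
      · obtain ⟨x, rfl⟩ := S.X7 hy
        exact (h.o1 x).symm
      · obtain ⟨p, w, rfl⟩ := S.X8 hy
        have h3 : n⁻¹ * i (S.e 4 p w) * n = i (S.e 4 p w * S.o 2 (φ p) * S.e 3 0 (φ w)) := h.xp p w
        rw [h0, h0, S.o_zero, S.e_zero, mul_one, mul_one] at h3
        exact e2 h3
    intro y hy
    exact (Subgroup.mem_centralizer_singleton_iff.1 (hle hy)).symm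
  · calc t * n * t = n * (n⁻¹ * t * n) * t := by group
      _ = n * (t * (i (S.e 2 0 u) * t)) := by rw [h.tau]; group
      _ = n * (t * t) * i (S.e 2 0 u) := by rw [← P.ti]; group
      _ = _ := by rw [P.tt, mul_one]

end Core

end Cfsg.Agent.OddHalf.D7TwF4.CKill
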