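import Cfsg.Agent.KFacts.TwF4.TorFix

/-!
# ODD D7, `K = ²F₄(q)`: elements moving the root groups; the centre of `Q1` (helper297)
-/

set_option autoImplicit false
set_option linter.unusedSectionVars false

namespace Cfsg.Agent.OddHalf.D7TwF4.Fab2

open Cfsg.Agent.KFacts.TwF4 Cfsg.Agent.SplitTwo.ZS Cfsg.Agent.TitsThree.RankTwoZ Cfsg.Agent.SplitTwo

universe u w

variable {F : Type w} [Field F] {σ : F →+* F} {Y : Type u} [Group Y] {S : Full σ Y}

/-- `g` moves the root groups by `k ↦ e k + 2 c` -/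
structure Mvs (S : Full σ Y) (g : Y) (e c : ℤ) : Prop where
  he : e = 1 ∨ e = -1
  X : ∀ j x, x ∈ S.XZ j → g * x * g⁻¹ ∈ S.XZ (e * j + 2 * c)
  X' : ∀ j x, x ∈ S.XZ (e * j + 2 * c) → g⁻¹ * x * g ∈ S.XZ j
  Z : ∀ (a : ℤ) x, x ∈ S.Zc (a : ZMod 8) → g * x * g⁻¹ ∈ S.Zc ((e * a + c : ℤ) : ZMod 8)
  Z' : ∀ (a : ℤ) x, x ∈ S.Zc ((e * a + c : ℤ) : ZMod 8) → g⁻¹ * x * g ∈ S.Zc (a : ZMod 8)

namespace Mvs

variable {g : Y} {e c : ℤ} (h : Mvs S g e c)

include h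

theorem ee : e * e = 1 := by
  rcases h.he with rfl | rfl <;> norm_num

theorem inv : Mvs S g⁻¹ e (-(e * c)) where
  he := h.he
  X j x hx := by
    rw [inv_inv]
    apply h.X'
    have e1 : e * (e * j + 2 * -(e * c)) + 2 * c = (e * e) * j - (e * e) * (2 * c) + 2 * c := by ring
    rw [e1, h.ee, one_mul, one_mul, sub_add_cancel]
    exact hx
  X' j x hx := by
    rw [inv_inv]
    have h1 := h.X _ x hx
    have e1 : e * (e * j + 2 * -(e * c)) + 2 * c = (e * e) * j - (e * e) * (2 * c) + 2 * c := by ring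
    rw [e1, h.ee, one_mul, one_mul, sub_add_cancel] at h1
    exact h1
  Z a x hx := by
    rw [inv_inv]
    apply h.Z'
    have e1 : e * (e * a + -(e * c)) + c = (e * e) * a - (e * e) * c + c := by ring
    rw [e1, h.ee, one_mul, one_mul, sub_add_cancel]
    exact hx
  Z' a x hx := by
    rw [inv_inv]
    have h1 := h.Z _ x hx
    have e1 : e * (e * a + -(e * c)) + c = (e * e) * a - (e * e) * c + c := by ring
    rw [e1, h.ee, one_mul, one_mul, sub_add_cancel] at h1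
    exact h1

theorem Ziff (a : ℤ) (x : Y) : x ∈ S.Zc (a : ZMod 8) ↔ g * x * g⁻¹ ∈ S.Zc ((e * a + c : ℤ) : ZMod 8) :=
  ⟨h.Z a x, fun hx => by
    have := h.Z' a _ hx
    have e1 : g⁻¹ * (g * x * g⁻¹) * g = x := by group
    rwa [e1] at this⟩

theorem Jm {a b a' b' : ℤ} (h1 : ∀ j, a ≤ j → j ≤ b → a' ≤ e * j + 2 * c ∧ e * j + 2 * c ≤ b') {x : Y}
    (hx : x ∈ J S.XZ a b) : g * x * g⁻¹ ∈ J S.XZ a' b' := by
  have : J S.XZ a b ≤ (J S.XZ a' b').comap (MulAut.conj g).toMonoidHom :=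
    J_le fun j h2 h3 y hy => mem_J (h.X j y hy) (h1 j h2 h3).1 (h1 j h2 h3).2
  exact this hx

/-- the parabolic subgroup -/
theorem Jc (a : ℤ) {x : Y} (hx : x ∈ J S.XZ (2 * a - 4) (2 * a + 4)) :
    g * x * g⁻¹ ∈ J S.XZ (2 * (e * a + c) - 4) (2 * (e * a + c) + 4) := by
  refine h.Jm (fun j h1 h2 => ?_) hx
  rcases h.he with rfl | rfl <;> constructor <;> linarith

theorem T {x : Y} (hx : x ∈ S.T) : g * x * g⁻¹ ∈ S.T := by
  have key : ∀ z ∈ S.T, ∀ k : ℤ, ∀ x ∈ S.XZ k, (g * z * g⁻¹) * x * (g * z * g⁻¹)⁻¹ ∈ S.XZ k := by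
    intro z hz k x hx
    have h1 := h.inv.X k x hx
    have h2 := h.X _ _ (S.T_conj hz _ h1)
    have e1 : e * (e * k + 2 * -(e * c)) + 2 * c = (e * e) * k - (e * e) * (2 * c) + 2 * c := by ring
    rw [e1, h.ee, one_mul, one_mul, sub_add_cancel, inv_inv] at h2
    have e2 : g * (z * (g⁻¹ * x * g) * z⁻¹) * g⁻¹ = (g * z * g⁻¹) * x * (g * z * g⁻¹)⁻¹ := by group
    rwa [e2] at h2
  intro k y
  have hk : (((k.val : ℕ) : ℤ) : ZMod (2 * 8)) = k := by rw [Int.cast_natCast]; exact ZMod.natCast_zmod_val _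
  have hX : S.XZ (k.val : ℤ) = S.R.X k := by show S.R.X _ = _; rw [hk]
  have k1 := key x hx (k.val : ℤ)
  have k2 := key x⁻¹ (inv_mem hx) (k.val : ℤ)
  rw [hX] at k1 k2
  refine ⟨fun hy => ?_, fun hy => k1 y hy⟩
  have h3 := k2 _ hy
  have e1 : (g * x⁻¹ * g⁻¹) * ((g * x * g⁻¹) * y * (g * x * g⁻¹)⁻¹) * (g * x⁻¹ * g⁻¹)⁻¹ = y := by group
  rwa [e1] at h3

theorem Tk (k : ℤ) {x : Y} (hx : x ∈ S.Tk k) : g * x * g⁻¹ ∈ S.Tk (e * k + 2 * c) := by
  refine ⟨h.T hx.1, Subgroup.mem_centralizer_iff.2 fun y hy => ?_⟩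
  have h1 := S.Tk_comm hx (h.X' k y hy)
  calc y * (g * x * g⁻¹) = g * ((g⁻¹ * y * g) * x) * g⁻¹ := by group
    _ = (g * x * g⁻¹) * y := by rw [← h1]; group

end Mvs

theorem mvs_rot (S : Full σ Y) (m : ℤ) : Mvs S (S.rot ^ m) 1 m where
  he := Or.inl rfl
  X j x hx := by rw [one_mul]; exact S.rotk_X' m j hx
  X' j x hx := by
    rw [one_mul] at hx
    have := S.rotk_X' (-m) _ hx
    rw [zpow_neg, inv_inv, show j + 2 * m + 2 * -m = j by ring] at this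
    exact this
  Z a x hx := by
    obtain ⟨u, rfl⟩ := hx
    exact ⟨u, by rw [S.rotk_e]; push_cast; rw [one_mul]⟩
  Z' a x hx := by
    obtain ⟨u, rfl⟩ := hx
    have := S.rotk_e (-m) ((1 * a + m : ℤ) : ZMod 8) 0 u
    rw [zpow_neg, inv_inv] at this
    refine ⟨u, ?_⟩
    rw [this]
    congr 1
    push_cast; ring

theorem mvs_n2 (S : Full σ Y) : Mvs S S.n2 (-1) 4 where
  he := Or.inr rfl
  X j x hx := by
    rw [show -1 * j + 2 * 4 = 8 - j by ring]
    exact S.n2_refl.mem hx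
  X' j x hx := S.n2_refl.mem_inv hx (by ring)
  Z a x hx := by
    obtain ⟨u, rfl⟩ := hx
    refine ⟨u, ?_⟩
    rw [S.n2_e]
    congr 1
    push_cast; ring
  Z' a x hx := by
    obtain ⟨u, rfl⟩ := hx
    refine ⟨u, ?_⟩
    have := S.n2_e (a : ZMod 8) 0 u
    rw [show ((-1 * a + 4 : ℤ) : ZMod 8) = 4 - (a : ZMod 8) by push_cast; ring, ← this]
    group

theorem mvs_n1 (S : Full σ Y) : Mvs S S.n1 (-1) 5 where
  he := Or.inr rfl
  X j x hx := by
    rw [show -1 * j + 2 * 5 = 10 - j by ring]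
    exact S.n1_refl.mem hx
  X' j x hx := S.n1_refl.mem_inv hx (by ring)
  Z a x hx := by
    obtain ⟨u, rfl⟩ := hx
    refine ⟨u, ?_⟩
    rw [S.n1_e]
    congr 1
    push_cast; ring
  Z' a x hx := by
    obtain ⟨u, rfl⟩ := hx
    refine ⟨u, ?_⟩
    have := S.n1_e (a : ZMod 8) 0 u
    rw [show ((-1 * a + 5 : ℤ) : ZMod 8) = 5 - (a : ZMod 8) by push_cast; ring, ← this]
    group

theorem mvs_T {h : Y} (hh : h ∈ S.T) : Mvs S h 1 0 where
  he := Or.inl rfl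
  X j x hx := by rw [one_mul, mul_zero, add_zero]; exact S.T_conj hh j hx
  X' j x hx := by
    rw [one_mul, mul_zero, add_zero] at hx
    exact S.T_conj' hh j hx
  Z a x hx := by rw [one_mul, add_zero]; exact S.T_conj_Zc hh hx
  Z' a x hx := by
    rw [one_mul, add_zero] at hx
    have := S.T_conj_Zc (inv_mem hh) hx
    rwa [inv_inv] at this

/-! ### the centre of `Q1` -/

/-- `C(Q1) = Q2` -/
theorem centralizer_Q1 (hF : ∃ c : F, c ≠ 0 ∧ c ≠ 1) {y : Y} (hy : ∀ x ∈ S.Q1, y * x = x * y) : y ∈ S.Q2 := by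
  have h1 : y ∈ S.Q1 := by
    rw [← S.centralizer_Q2, Subgroup.mem_centralizer_iff]
    intro x hx
    exact (hy x (Subgroup.mem_sup_right hx)).symm
  obtain ⟨x, hx, q, hq, rfl⟩ := mem_sup_of_norm (A := S.XZ 4) (B := S.Q2) (fun x hx q hq => by
    rw [S.Q1_comm (Subgroup.mem_sup_left hx) hq, mul_inv_cancel_right]; exact hq) h1
  obtain ⟨p, u, rfl⟩ := S.X4 hx
  have key : ∀ r : F, p * σ r = r * σ p := by
    intro r
    have h2 := hy _ (Subgroup.mem_sup_left (S.mX4 r 0))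
    have h3 := S.Q1_comm (Subgroup.mem_sup_left (S.mX4 r 0)) hq
    have h4 : S.e 2 p u * S.e 2 r 0 = S.e 2 r 0 * S.e 2 p u := by
      have h5 : S.e 2 p u * S.e 2 r 0 * q = S.e 2 r 0 * S.e 2 p u * q := by
        calc S.e 2 p u * S.e 2 r 0 * q = S.e 2 p u * (S.e 2 r 0 * q) := by group
          _ = S.e 2 p u * q * S.e 2 r 0 := by rw [h3]; group
          _ = _ := by rw [h2]; group
      exact mul_right_cancel h5
    rw [S.e_mul, S.e_mul] at h4
    have h5 := (S.injE 2 _ _ _ _ h4).2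
    rw [add_zero, zero_add] at h5
    exact add_left_cancel h5
  have hp : p = 0 := by
    by_contra hp
    have h2 := key 1
    rw [map_one, mul_one, one_mul] at h2
    have h3 : ∀ r, σ r = r := by
      intro r
      have h4 := key r
      rw [← h2, mul_comm r p] at h4
      exact mul_left_cancel₀ hp h4
    obtain ⟨c, c0, c1⟩ := hF
    have h4 := S.sq c
    rw [h3, h3, pow_two] at h4
    apply c1
    have : c * c = c * 1 := by rw [mul_one]; exact h4.symm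
    exact mul_left_cancel₀ c0 this
  subst hp
  exact mul_mem (S.q2_3 u) hq

/-- `PL` normalises `Q1` -/
theorem Q1_norm {g x : Y} (hg : g ∈ S.PL) (hx : x ∈ S.Q1) : g * x * g⁻¹ ∈ S.Q1 := by
  rw [← S.centralizer_Q2, Subgroup.mem_centralizer_iff] at hx ⊢
  intro y hy
  have h1 : g⁻¹ * y * g ∈ S.Q2 := by
    have := (Subgroup.mem_normalizer_iff.1 (S.Q2_norm (inv_mem hg)) y).1 hy
    rwa [inv_inv] at this
  have h2 := hx _ h1
  calc y * (g * x * g⁻¹) = g * ((g⁻¹ * y * g) * x) * g⁻¹ := by group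
    _ = g * x * g⁻¹ * y := by rw [h2]; group

/-- `Z_2`, `X_8` generate `X_3` modulo `Z_2 Z_4 Z_6` -/
theorem e1_conj (u : F) : (S.e 4 1 0)⁻¹ * S.e 1 0 u * S.e 4 1 0 =
    S.e 1 0 u * S.o 1 u * S.e 2 0 (σ u) * S.e 3 0 (u) := by
  have h := S.e_e3 1 0 u 1 0
  rw [show ((1 : ZMod 8) + 3) = 4 from rfl, show ((1 : ZMod 8) + 1) = 2 from rfl, show ((1 : ZMod 8) + 2) = 3 from rfl] at h
  simp only [map_zero, map_one, zero_mul, mul_zero, add_zero, zero_add, mul_one, S.o_zero] at h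
  rw [mul_assoc, h]
  group

end Cfsg.Agent.OddHalf.D7TwF4.Fab2
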