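import Cfsg.Agent.OddHalf.D7TwF4.Fab2Defs
import Cfsg.Agent.OddHalf.D7TwF4.Fab2K
import Cfsg.Agent.KFacts.TwF4.SylU

/-!
# ODD D7, `K = ²F₄(q)`, `q ≥ 8`: section 2 (helper297; text: bb ODD 13028)

`FF a` : generated by the conjugates of `W (a-1)`, `W a`, `W (a+1)` under `⟨X_{2a-4}, …, X_{2a+4}⟩`.
`Cx.vdata` : the doubles `V k` of all `Zk S k`.
-/

set_option autoImplicit false
set_option linter.unusedSectionVars false

namespace Cfsg.Agent.OddHalf.D7TwF4.Fab2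

open Cfsg.Agent.KFacts.TwF4 Cfsg.Agent.SplitTwo.ZS Cfsg.Agent.OddHalf.D7TwF4.Defs
open Subgroup

universe u v w

variable {F : Type w} [Field F] {σ : F →+* F} {Y : Type u} [Group Y] {G : Type v} [Group G]

/-! ### general lemmas -/

section gen

variable {i : Y →* G} {t : G}

/-- the values `[f, t]`, `f ∈ A` -/
def tauSub (i : Y →* G) (tt : t * t = 1) (A : Subgroup G) (ab : ∀ f ∈ A, ∀ f' ∈ A, f * f' = f' * f)
    (tA : ∀ f ∈ A, t * f * t ∈ A) : Subgroup Y where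
  carrier := {y | ∃ f ∈ A, t * f * t = f * i y}
  one_mem' := ⟨1, one_mem _, by rw [mul_one, tt, map_one, mul_one]⟩
  mul_mem' := by
    rintro y y' ⟨f, hf, h⟩ ⟨f', hf', h'⟩
    have e1 : i y = f⁻¹ * (t * f * t) := by rw [h]; group
    have hy : i y ∈ A := by rw [e1]; exact mul_mem (inv_mem hf) (tA f hf)
    refine ⟨f * f', mul_mem hf hf', ?_⟩
    have e2 := ab _ hy _ hf'
    calc t * (f * f') * t = t * f * (t * t) * f' * t := by rw [tt]; group
      _ = (t * f * t) * (t * f' * t) := by group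
      _ = f * (i y * f') * i y' := by rw [h, h']; group
      _ = f * f' * i (y * y') := by rw [e2, map_mul]; group
  inv_mem' := by
    rintro y ⟨f, hf, h⟩
    have e1 : i y = f⁻¹ * (t * f * t) := by rw [h]; group
    have hy : i y ∈ A := by rw [e1]; exact mul_mem (inv_mem hf) (tA f hf)
    refine ⟨f⁻¹, inv_mem hf, ?_⟩
    have e2 := ab _ (inv_mem hy) _ (inv_mem hf)
    have ti : t⁻¹ = t := inv_eq_of_mul_eq_one_left tt
    calc t * f⁻¹ * t = (t⁻¹ * f * t⁻¹)⁻¹ := by group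
      _ = (f * i y)⁻¹ := by rw [ti, h]
      _ = (i y)⁻¹ * f⁻¹ := by group
      _ = f⁻¹ * i y⁻¹ := by rw [e2, map_inv]

/-- **averaging** over a group of odd order -/
theorem exists_avg (tt : t * t = 1) (ti : ∀ y : Y, t * i y = i y * t) {A : Subgroup G}
    (ab : ∀ f ∈ A, ∀ f' ∈ A, f * f' = f' * f)
    (tA : ∀ f ∈ A, t * f * t ∈ A) {T : Subgroup Y} [Finite T] (hodd : Odd (Nat.card T))
    (nT : ∀ h ∈ T, ∀ f ∈ A, i h * f * (i h)⁻¹ ∈ A) {y : Y} (hy2 : y * y = 1) (hyT : ∀ h ∈ T, h * y = y * h)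
    {f : G} (hf : f ∈ A) (h : t * f * t = f * i y) :
    ∃ f' ∈ A, (∀ h ∈ T, i h * f' = f' * i h) ∧ t * f' * t = f' * i y := by
  have hti : t⁻¹ = t := inv_eq_of_mul_eq_one_left tt
  have hyA : i y ∈ A := by
    have e1 : i y = f⁻¹ * (t * f * t) := by rw [h]; group
    rw [e1]; exact mul_mem (inv_mem hf) (tA f hf)
  let _ : CommGroup A := { (inferInstance : Group A) with mul_comm := fun a b => Subtype.ext (ab a a.2 b b.2) }
  let _ : Fintype T := Fintype.ofFinite T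
  let φ : T → A := fun h => ⟨i h * f * (i h)⁻¹, nT h h.2 f hf⟩
  let cj : T → (A →* A) := fun k =>
    { toFun := fun a => ⟨i k * a * (i k)⁻¹, nT k k.2 a a.2⟩
      map_one' := Subtype.ext (by show i (k : Y) * ((1 : A) : G) * (i k)⁻¹ = 1; rw [OneMemClass.coe_one]; group)
      map_mul' := fun a b => Subtype.ext (by
        show i (k : Y) * ((a : G) * b) * (i k)⁻¹ = (i k * a * (i k)⁻¹) * (i k * b * (i k)⁻¹)
        group) }
  let τ : A →* A :=
    { toFun := fun a => ⟨t * a * t, tA a a.2⟩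
      map_one' := Subtype.ext (by show t * ((1 : A) : G) * t = 1; rw [OneMemClass.coe_one, mul_one, tt])
      map_mul' := fun a b => Subtype.ext (by
        show t * ((a : G) * b) * t = (t * a * t) * (t * b * t)
        calc t * ((a : G) * b) * t = t * a * (t * t)⁻¹ * b * t := by rw [tt]; group
          _ = (t * a * t⁻¹) * (t⁻¹ * b * t) := by group
          _ = _ := by rw [hti]) }
  have h1 : ∀ k : T, cj k (∏ h : T, φ h) = ∏ h : T, φ h := by
    intro k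
    rw [map_prod]
    refine Fintype.prod_equiv (Equiv.mulLeft k) _ _ fun h => Subtype.ext ?_
    show i (k : Y) * (i h * f * (i h)⁻¹) * (i k)⁻¹ = i ((k : Y) * h) * f * (i ((k : Y) * h))⁻¹
    rw [map_mul]; group
  have h2 : τ (∏ h : T, φ h) = (∏ h : T, φ h) * ⟨i y, hyA⟩ := by
    rw [map_prod]
    have e1 : ∀ h : T, τ (φ h) = φ h * ⟨i y, hyA⟩ := by
      intro k
      apply Subtype.ext
      show t * (i (k : Y) * f * (i k)⁻¹) * t = i k * f * (i k)⁻¹ * i y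
      have a1 := ti k
      have a2 : (i (k : Y))⁻¹ * t = t * (i k)⁻¹ := by
        have := ti (k : Y)⁻¹
        rw [map_inv] at this
        exact this.symm
      have a3 : (i (k : Y))⁻¹ * i y = i y * (i k)⁻¹ := by
        have a4 := congrArg i (hyT k k.2)
        rw [map_mul, map_mul] at a4
        calc (i (k : Y))⁻¹ * i y = (i (k : Y))⁻¹ * (i y * i k) * (i k)⁻¹ := by group
          _ = _ := by rw [← a4]; group
      calc t * (i (k : Y) * f * (i k)⁻¹) * t = (t * i k) * f * ((i (k : Y))⁻¹ * t) := by group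
        _ = i k * (t * f * t) * (i k)⁻¹ := by rw [a1, a2]; group
        _ = i k * f * ((i (k : Y))⁻¹ * i y) := by rw [h, a3]; group
        _ = _ := by group
    rw [Finset.prod_congr rfl fun h _ => e1 h, Finset.prod_mul_distrib, Finset.prod_const, Finset.card_univ,
      ← Nat.card_eq_fintype_card]
    congr 1
    obtain ⟨m, hm⟩ := hodd
    have e2 : (⟨i y, hyA⟩ : A) ^ 2 = 1 := Subtype.ext (by
      show (i y) ^ 2 = 1
      rw [← map_pow, pow_two, hy2, map_one])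
    rw [hm, pow_succ, pow_mul, e2, one_pow, one_mul]
  refine ⟨(∏ h : T, φ h : A), (∏ h : T, φ h : A).2, fun k hk => ?_, congrArg Subtype.val h2⟩
  have h3 : i k * ((∏ h : T, φ h : A) : G) * (i k)⁻¹ = ((∏ h : T, φ h : A) : G) :=
    congrArg Subtype.val (h1 ⟨k, hk⟩)
  calc i k * ((∏ h : T, φ h : A) : G) = (i k * ((∏ h : T, φ h : A) : G) * (i k)⁻¹) * i k := by group
    _ = _ := by rw [h3]

end gen

variable {S : Full σ Y} {i : Y →* G} {t : G} {W : ℤ → Subgroup G}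

/-! ### the groups `FF a` -/

/-- the group `F_{2a}` -/
def FF (S : Full σ Y) (i : Y →* G) (W : ℤ → Subgroup G) (a : ℤ) : Subgroup G :=
  Subgroup.closure {g | ∃ y ∈ J S.XZ (2 * a - 4) (2 * a + 4), ∃ b : ℤ, a - 1 ≤ b ∧ b ≤ a + 1 ∧ ∃ w ∈ W b, g = i y * w * (i y)⁻¹}

/-- The input of section 2b. -/
structure Cx (S : Full σ Y) (i : Y →* G) (t : G) (W : ℤ → Subgroup G) : Prop where
  P : Pos S i t
  D : WData S i t W
  hc : ∀ a : ℤ, ∀ w ∈ W a, ∀ w' ∈ W (a + 2), w * w' = w' * w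

namespace Cx

variable (C : Cx S i t W)

include C

theorem t_inv : t⁻¹ = t := C.P.t_inv

theorem W_Z {a : ℤ} {z : Y} (hz : z ∈ S.Zc (a : ZMod 8)) : i z ∈ W a := by
  rw [C.D.mem]
  obtain ⟨u, rfl⟩ := hz
  refine ⟨?_, fun y hy => ?_, ⟨1, one_mem _, ?_⟩, ?_⟩
  · rw [← map_mul, S.e_mul_Zc, S.add_self, S.e_zero, map_one]
  · rw [← map_mul, ← map_mul, hy _ ⟨u, rfl⟩]
  · rw [C.P.ti, mul_assoc, C.P.tt, map_one]
  · rintro ⟨z', -, h⟩
    exact C.P.t_mul_ne h.symm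

theorem W_t {a : ℤ} {w : G} (hw : w ∈ W a) : t * w * t ∈ W a := by
  obtain ⟨z, hz, h⟩ := C.D.comm hw
  rw [h]
  exact mul_mem hw (C.W_Z hz)

theorem W_mvs {g : Y} {e c : ℤ} (h : Mvs S g e c) {a : ℤ} {w : G} (hw : w ∈ W a) :
    i g * w * (i g)⁻¹ ∈ W (e * a + c) := C.D.conj C.P.ti (h.Ziff a) hw

theorem FF_mvs {g : Y} {e c : ℤ} (h : Mvs S g e c) {a : ℤ} {f : G} (hf : f ∈ FF S i W a) :
    i g * f * (i g)⁻¹ ∈ FF S i W (e * a + c) := by
  have : FF S i W a ≤ (FF S i W (e * a + c)).comap (MulAut.conj (i g)).toMonoidHom := by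
    unfold FF
    rw [closure_le]
    rintro _ ⟨y, hy, b, h1, h2, w, hw, rfl⟩
    show i g * (i y * w * (i y)⁻¹) * (i g)⁻¹ ∈ Subgroup.closure _
    refine subset_closure ⟨g * y * g⁻¹, h.Jc a hy, e * b + c, ?_, ?_, i g * w * (i g)⁻¹, C.W_mvs h hw, ?_⟩
    · rcases h.he with rfl | rfl <;> linarith
    · rcases h.he with rfl | rfl <;> linarith
    · rw [map_mul, map_mul, map_inv]; group
  exact this hf

theorem W_le_FF {a b : ℤ} (h1 : a - 1 ≤ b) (h2 : b ≤ a + 1) : W b ≤ FF S i W a := fun w hw =>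
  subset_closure ⟨1, one_mem _, b, h1, h2, w, hw, by rw [map_one]; group⟩

theorem FF_J {a : ℤ} {y : Y} (hy : y ∈ J S.XZ (2 * a - 4) (2 * a + 4)) {f : G} (hf : f ∈ FF S i W a) :
    i y * f * (i y)⁻¹ ∈ FF S i W a := by
  have : FF S i W a ≤ (FF S i W a).comap (MulAut.conj (i y)).toMonoidHom := by
    conv_lhs => unfold FF
    rw [closure_le]
    rintro _ ⟨y', hy', b, h1, h2, w, hw, rfl⟩
    show i y * (i y' * w * (i y')⁻¹) * (i y)⁻¹ ∈ FF S i W a
    exact subset_closure ⟨y * y', mul_mem hy hy', b, h1, h2, w, hw, by rw [map_mul]; group⟩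
  exact this hf

omit C in
theorem PL_iff (S : Full σ Y) {y : Y} : y ∈ J S.XZ (2 * 2 - 4) (2 * 2 + 4) ↔ y ∈ S.PL := by
  rw [show (2 : ℤ) * 2 - 4 = 0 by norm_num, show (2 : ℤ) * 2 + 4 = 8 by norm_num]
  rfl

theorem FF_PL {y : Y} (hy : y ∈ S.PL) {f : G} (hf : f ∈ FF S i W 2) : i y * f * (i y)⁻¹ ∈ FF S i W 2 :=
  C.FF_J (a := 2) ((PL_iff S).2 hy) hf

/-! ### centre 4 -/

theorem W2_PL {w : G} (hw : w ∈ W 2) {y : Y} (hy : y ∈ S.PL) : w * i y = i y * w :=
  C.D.cent hw fun z hz => S.comm_PL hy hz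

theorem W3_J {w : G} (hw : w ∈ W 3) {x : Y} (hx : x ∈ J S.XZ 2 8) : w * i x = i x * w :=
  C.D.cent hw fun z hz => by
    obtain ⟨u, rfl⟩ := hz
    exact S.W46_comm hx (S.Z6_W46 u)

theorem W1_eq {w : G} (hw : w ∈ W 1) : ∃ w' ∈ W 3, w = i S.n2 * w' * (i S.n2)⁻¹ := by
  refine ⟨(i S.n2)⁻¹ * w * i S.n2, ?_, by group⟩
  have := C.W_mvs (mvs_n2 S).inv hw
  rw [map_inv, inv_inv] at this
  exact this

/-- induction in `FF 2` -/
theorem FF2_ind {K : Subgroup G} (h2 : W 2 ≤ K) (h3 : W 3 ≤ K) (hn : ∀ y ∈ S.PL, ∀ g ∈ K, i y * g * (i y)⁻¹ ∈ K) :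
    FF S i W 2 ≤ K := by
  unfold FF
  rw [closure_le]
  rintro _ ⟨y, hy, b, hb1, hb2, w, hw, rfl⟩
  refine hn y ((PL_iff S).1 hy) w ?_
  have : b = 1 ∨ b = 2 ∨ b = 3 := by omega
  rcases this with rfl | rfl | rfl
  · obtain ⟨w', hw', rfl⟩ := C.W1_eq hw
    exact hn _ S.n2_mem _ (h3 hw')
  · exact h2 hw
  · exact h3 hw

theorem cent_inv {A : Set G} (hA : ∀ y ∈ S.PL, ∀ a ∈ A, i y * a * (i y)⁻¹ ∈ A) {y : Y} (hy : y ∈ S.PL) {g : G}
    (hg : g ∈ centralizer A) : i y * g * (i y)⁻¹ ∈ centralizer A := by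
  rw [mem_centralizer_iff] at hg ⊢
  intro a ha
  have h1 := hA _ (inv_mem hy) a ha
  rw [map_inv, inv_inv] at h1
  have h2 := hg _ h1
  calc a * (i y * g * (i y)⁻¹) = i y * (((i y)⁻¹ * a * i y) * g) * (i y)⁻¹ := by group
    _ = i y * g * (i y)⁻¹ * a := by rw [h2]; group

theorem W3_U {u : Y} (hu : u ∈ J S.XZ 1 8) {w : G} (hw : w ∈ W 3) : ∃ w2 ∈ W 2, i u * w * (i u)⁻¹ = w2 * w := by
  have Z8 := S.zsys8
  obtain ⟨x, hx, y, hy, rfl⟩ := Z8.split_ll (a := 1) (b := 8) (by norm_num) (by norm_num) hu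
  have h1 := C.W3_J hw hy
  have h2 := C.D.two 2 w hw x hx
  refine ⟨(w * i x * w⁻¹ * (i x)⁻¹)⁻¹, inv_mem h2, ?_⟩
  rw [map_mul]
  calc i x * i y * w * (i x * i y)⁻¹ = i x * (i y * w) * (i y)⁻¹ * (i x)⁻¹ := by group
    _ = i x * w * (i x)⁻¹ := by rw [← h1]; group
    _ = _ := by group

theorem comm33 {p : Y} (hp : p ∈ S.PL) {w w' : G} (hw : w ∈ W 3) (hw' : w' ∈ W 3) :
    w * (i p * w' * (i p)⁻¹) = (i p * w' * (i p)⁻¹) * w := by
  have h21 : ∀ w2 ∈ W 2, ∀ w1 ∈ W 1, w2 * w1 = w1 * w2 := fun w2 h2 w1 h1 => (C.D.one 1 w1 h1 w2 h2).symm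
  have h23 : ∀ w2 ∈ W 2, ∀ w3 ∈ W 3, w2 * w3 = w3 * w2 := fun w2 h2 w3 h3 => C.D.one 2 w2 h2 w3 h3
  rcases S.form_PL hp with ⟨b, hb, s, hs, rfl⟩ | ⟨b, hb, s, hs, x, hx, rfl⟩
  · have h1 : i s * w' * (i s)⁻¹ ∈ W 3 := by
      have := C.W_mvs (mvs_T hs) hw'
      exact this
    obtain ⟨w2, hw2, h2⟩ := C.W3_U hb h1
    have e1 : i (b * s) * w' * (i (b * s))⁻¹ = w2 * (i s * w' * (i s)⁻¹) := by
      rw [← h2, map_mul]; group
    rw [e1, ← mul_assoc, ← h23 w2 hw2 w hw, mul_assoc, C.D.ab hw h1, ← mul_assoc]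
  · have h1 : i (s * S.n2 * x) * w' * (i (s * S.n2 * x))⁻¹ ∈ W 1 := by
      have a1 := C.W3_J hw' (mem_J hx (by norm_num) (by norm_num))
      have a2 := C.W_mvs (mvs_n2 S) hw'
      have a3 := C.W_mvs (mvs_T hs) a2
      have e1 : i (s * S.n2 * x) * w' * (i (s * S.n2 * x))⁻¹ = i s * (i S.n2 * w' * (i S.n2)⁻¹) * (i s)⁻¹ := by
        rw [map_mul, map_mul]
        calc i s * i S.n2 * i x * w' * (i s * i S.n2 * i x)⁻¹ =
            i s * i S.n2 * (i x * w') * (i x)⁻¹ * (i S.n2)⁻¹ * (i s)⁻¹ := by group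
          _ = _ := by rw [← a1]; group
      rw [e1]
      exact a3
    set v := i (s * S.n2 * x) * w' * (i (s * S.n2 * x))⁻¹ with hv
    have e1 : i (b * (s * S.n2) * x) * w' * (i (b * (s * S.n2) * x))⁻¹ = i b * v * (i b)⁻¹ := by
      rw [hv, mul_assoc b, map_mul i b]; group
    obtain ⟨w2, hw2, h2⟩ := C.W3_U (inv_mem hb) hw
    rw [map_inv, inv_inv] at h2
    have h3 : ((i b)⁻¹ * w * i b) * v = v * ((i b)⁻¹ * w * i b) := by
      rw [h2, mul_assoc, ← C.hc 1 v h1 w hw, ← mul_assoc, h21 w2 hw2 v h1, mul_assoc]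
    rw [e1]
    calc w * (i b * v * (i b)⁻¹) = i b * (((i b)⁻¹ * w * i b) * v) * (i b)⁻¹ := by group
      _ = _ := by rw [h3]; group

theorem W2_W {b : ℤ} (h1 : 1 ≤ b) (h2 : b ≤ 3) {w w' : G} (hw : w ∈ W 2) (hw' : w' ∈ W b) : w * w' = w' * w := by
  have : b = 1 ∨ b = 2 ∨ b = 3 := by omega
  rcases this with rfl | rfl | rfl
  · exact (C.D.one 1 w' hw' w hw).symm
  · exact C.D.ab hw hw'
  · exact C.D.one 2 w hw w' hw'

theorem FF2_W2 {f : G} (hf : f ∈ FF S i W 2) {w : G} (hw : w ∈ W 2) : f * w = w * f := by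
  have : FF S i W 2 ≤ centralizer (W 2 : Set G) := by
    refine C.FF2_ind (fun x hx => ?_) (fun x hx => ?_) fun y hy g hg => C.cent_inv (fun y hy a ha => ?_) hy hg
    · rw [mem_centralizer_iff]
      intro y hy
      exact C.D.ab hy hx
    · rw [mem_centralizer_iff]
      intro y hy
      exact C.W2_W (by norm_num) le_rfl hy hx
    · rw [← C.W2_PL ha hy, mul_inv_cancel_right]; exact ha
  exact (mem_centralizer_iff.1 (this hf) w hw).symm

theorem FF2_ab {f f' : G} (hf : f ∈ FF S i W 2) (hf' : f' ∈ FF S i W 2) : f * f' = f' * f := by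
  set A : Set G := {g | ∃ y ∈ S.PL, ∃ w ∈ W 3, g = i y * w * (i y)⁻¹} with hA
  have hAn : ∀ y ∈ S.PL, ∀ a ∈ A, i y * a * (i y)⁻¹ ∈ A := by
    rintro y hy _ ⟨y', hy', w, hw, rfl⟩
    exact ⟨y * y', mul_mem hy hy', w, hw, by rw [map_mul]; group⟩
  have h1 : FF S i W 2 ≤ centralizer A := by
    refine C.FF2_ind (fun x hx => ?_) (fun x hx => ?_) fun y hy g hg => C.cent_inv hAn hy hg
    · rw [mem_centralizer_iff]
      rintro _ ⟨y, hy, w, hw, rfl⟩
      have a1 := C.W2_PL hx hy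
      have a2 := C.W2_W (by norm_num) le_rfl hx hw
      calc i y * w * (i y)⁻¹ * x = i y * w * ((i y)⁻¹ * x * i y) * (i y)⁻¹ := by group
        _ = i y * w * x * (i y)⁻¹ := by rw [mul_assoc (i y)⁻¹, a1]; group
        _ = (i y * x) * w * (i y)⁻¹ := by rw [mul_assoc (i y) w x, ← a2]; group
        _ = _ := by rw [← a1]; group
    · rw [mem_centralizer_iff]
      rintro _ ⟨y, hy, w, hw, rfl⟩
      exact (C.comm33 hy hx hw).symm
  have h2 : FF S i W 2 ≤ centralizer (FF S i W 2 : Set G) := by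
    refine C.FF2_ind (fun x hx => ?_) (fun x hx => ?_) fun y hy g hg => C.cent_inv (fun y hy a ha => C.FF_PL hy ha) hy hg
    · rw [mem_centralizer_iff]
      intro g hg
      exact C.FF2_W2 hg hx
    · rw [mem_centralizer_iff]
      intro g hg
      exact (mem_centralizer_iff.1 (h1 hg) x ⟨1, one_mem _, x, hx, by rw [map_one]; group⟩).symm
  exact (mem_centralizer_iff.1 (h2 hf) f' hf').symm

theorem FF2_sq {f : G} (hf : f ∈ FF S i W 2) : f * f = 1 := by
  let K : Subgroup G :=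
    { carrier := {f | f ∈ FF S i W 2 ∧ f * f = 1}
      one_mem' := ⟨one_mem _, one_mul 1⟩
      mul_mem' := by
        rintro a b ⟨ha, ha'⟩ ⟨hb, hb'⟩
        refine ⟨mul_mem ha hb, ?_⟩
        have := C.FF2_ab ha hb
        calc a * b * (a * b) = a * b * (b * a) := by rw [this]
          _ = a * (b * b) * a := by group
          _ = 1 := by rw [hb', mul_one, ha']
      inv_mem' := by
        rintro a ⟨ha, ha'⟩
        refine ⟨inv_mem ha, ?_⟩
        rw [← mul_inv_rev, ha', inv_one] }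
  have : FF S i W 2 ≤ K := by
    refine C.FF2_ind (fun x hx => ⟨C.W_le_FF (by norm_num) (by norm_num) hx, C.D.sq hx⟩)
      (fun x hx => ⟨C.W_le_FF (by norm_num) (by norm_num) hx, C.D.sq hx⟩) ?_
    rintro y hy g ⟨hg, hg'⟩
    refine ⟨C.FF_PL hy hg, ?_⟩
    calc i y * g * (i y)⁻¹ * (i y * g * (i y)⁻¹) = i y * (g * g) * (i y)⁻¹ := by group
      _ = 1 := by rw [hg']; group
  exact (this hf).2

theorem FF2_t {f : G} (hf : f ∈ FF S i W 2) : t * f * t ∈ FF S i W 2 := by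
  have h0 : FF S i W 2 ≤ (FF S i W 2).comap (MulAut.conj t).toMonoidHom := by
    have key : ∀ x : G, t * x * t⁻¹ = t * x * t := fun x => by rw [C.t_inv]
    refine C.FF2_ind (fun x hx => ?_) (fun x hx => ?_) fun y hy g hg => ?_
    · show t * x * t⁻¹ ∈ FF S i W 2
      rw [key]; exact C.W_le_FF (by norm_num) (by norm_num) (C.W_t hx)
    · show t * x * t⁻¹ ∈ FF S i W 2
      rw [key]; exact C.W_le_FF (by norm_num) (by norm_num) (C.W_t hx)
    · have hg' : t * g * t⁻¹ ∈ FF S i W 2 := hg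
      show t * (i y * g * (i y)⁻¹) * t⁻¹ ∈ FF S i W 2
      have h1 := C.P.ti y
      have h2 : (i y)⁻¹ * t⁻¹ = t⁻¹ * (i y)⁻¹ := by rw [← mul_inv_rev, h1, mul_inv_rev]
      have e1 : t * (i y * g * (i y)⁻¹) * t⁻¹ = i y * (t * g * t⁻¹) * (i y)⁻¹ := by
        calc t * (i y * g * (i y)⁻¹) * t⁻¹ = (t * i y) * g * ((i y)⁻¹ * t⁻¹) := by group
          _ = _ := by rw [h1, h2]; group
      rw [e1]
      exact C.FF_PL hy hg'
  have h1 : t * f * t⁻¹ ∈ FF S i W 2 := h0 hf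
  rwa [C.t_inv] at h1

/-- elements of `FF 2` centralise `Q1`, and `[f, t] ∈ Q2` -/
theorem FF2_CE {f : G} (hf : f ∈ FF S i W 2) : (∀ x ∈ S.Q1, f * i x = i x * f) ∧ ∃ y ∈ S.Q2, t * f * t = f * i y := by
  let K : Subgroup G :=
    { carrier := {f | (∀ x ∈ S.Q1, f * i x = i x * f) ∧ ∃ y ∈ S.Q2, t * f * t = f * i y}
      one_mem' := ⟨fun x _ => by rw [one_mul, mul_one], 1, one_mem _, by rw [mul_one, C.P.tt, map_one, mul_one]⟩
      mul_mem' := by
        rintro a b ⟨ha, ya, hya, ha'⟩ ⟨hb, yb, hyb, hb'⟩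
        refine ⟨fun x hx => by rw [mul_assoc, hb x hx, ← mul_assoc, ha x hx, mul_assoc], ya * yb, mul_mem hya hyb, ?_⟩
        have h1 := hb ya (mem_sup_right hya)
        calc t * (a * b) * t = (t * a * t) * (t⁻¹ * t⁻¹) * (t * b * t) := by group
          _ = a * (i ya * b) * i yb := by rw [C.t_inv, C.P.tt, ha', hb']; group
          _ = _ := by rw [← h1, map_mul]; group
      inv_mem' := by
        rintro a ⟨ha, ya, hya, ha'⟩
        have hi : ∀ x ∈ S.Q1, a⁻¹ * i x = i x * a⁻¹ := fun x hx => by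
          have := ha x hx
          calc a⁻¹ * i x = a⁻¹ * (i x * a) * a⁻¹ := by group
            _ = _ := by rw [← this]; group
        refine ⟨hi, ya⁻¹, inv_mem hya, ?_⟩
        have h1 := hi ya⁻¹ (inv_mem (mem_sup_right hya))
        calc t * a⁻¹ * t = (t⁻¹ * a * t⁻¹)⁻¹ := by group
          _ = (a * i ya)⁻¹ := by rw [C.t_inv, ha']
          _ = i ya⁻¹ * a⁻¹ := by rw [map_inv]; group
          _ = _ := h1.symm }
  have hQ : S.Q1 ≤ S.PL := S.Q1_le_J.trans (J_mono (by norm_num) (by norm_num))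
  have : FF S i W 2 ≤ K := by
    refine C.FF2_ind (fun x hx => ?_) (fun x hx => ?_) ?_
    · refine ⟨fun y hy => C.W2_PL hx (hQ hy), ?_⟩
      obtain ⟨z, hz, h⟩ := C.D.comm hx
      obtain ⟨u, rfl⟩ := hz
      exact ⟨_, S.q2_3 u, h⟩
    · refine ⟨fun y hy => C.W3_J hx (J_mono (by norm_num) (by norm_num) (S.Q1_le_J hy)), ?_⟩
      obtain ⟨z, hz, h⟩ := C.D.comm hx
      obtain ⟨u, rfl⟩ := hz
      exact ⟨_, S.q2_5 u, h⟩
    · rintro y hy g ⟨hg, z, hz, hg'⟩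
      refine ⟨fun x hx => ?_, y * z * y⁻¹, (mem_normalizer_iff.1 (S.Q2_norm hy) z).1 hz, ?_⟩
      · have h1 := hg _ (Q1_norm (inv_mem hy) hx)
        rw [inv_inv, map_mul, map_mul, map_inv] at h1
        calc i y * g * (i y)⁻¹ * i x = i y * (g * ((i y)⁻¹ * i x * i y)) * (i y)⁻¹ := by group
          _ = _ := by rw [h1]; group
      · have h1 := C.P.ti y
        have h2 : (i y)⁻¹ * t = t * (i y)⁻¹ := by
          have := C.P.ti y⁻¹
          rw [map_inv] at this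
          exact this.symm
        calc t * (i y * g * (i y)⁻¹) * t = (t * i y) * g * ((i y)⁻¹ * t) := by group
          _ = i y * (t * g * t) * (i y)⁻¹ := by rw [h1, h2]; group
          _ = i y * g * i z * (i y)⁻¹ := by rw [hg']; group
          _ = _ := by rw [map_mul, map_mul, map_inv]; group
  exact this hf

theorem hF : ∃ c : F, c ≠ 0 ∧ c ≠ 1 := by
  have h1 := C.P.big
  have := C.P.finF
  by_contra hcon
  push Not at hcon
  have h2 : ∀ c : F, c = 0 ∨ c = 1 := fun c => by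
    by_cases h : c = 0
    · exact Or.inl h
    · exact Or.inr (hcon c h)
  have h3 : Function.Surjective (fun b : Bool => if b then (1 : F) else 0) := by
    intro c
    rcases h2 c with rfl | rfl
    · exact ⟨false, by simp⟩
    · exact ⟨true, by simp⟩
  have h4 := Nat.card_le_card_of_surjective _ h3
  have h5 : Nat.card Bool = 2 := by simp
  omega

/-- **`C_{FF 2}(t) = Q2`** -/
theorem FF2_fix {f : G} (hf : f ∈ FF S i W 2) (h : t * f * t = f) : ∃ y ∈ S.Q2, f = i y := by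
  have hft : f * t = t * f := by
    calc f * t = (t * f * t) * t := by rw [h]
      _ = t * f * (t * t) := by group
      _ = t * f := by rw [C.P.tt, mul_one]
  have h1 := (C.FF2_CE hf).1
  obtain ⟨y, hy, h2⟩ := C.P.lift (A := (S.Q1 : Set Y)) (a := 2) (fun z hz => by
    obtain ⟨u, rfl⟩ := hz
    exact mem_sup_right (S.q2_3 u)) hft h1
  have hy' : y ∈ S.Q2 := centralizer_Q1 C.hF fun x hx => (mem_centralizer_iff.1 hy x hx).symm
  refine ⟨y, hy', ?_⟩
  rcases h2 with h2 | h2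
  · exact h2
  · exfalso
    obtain ⟨w, hw, h3⟩ := C.D.sur 2 (S.e 2 0 1) ⟨1, rfl⟩
    have h4 := C.FF2_W2 hf hw
    have h5 := C.W2_PL hw (S.Q2_le_J.trans (J_mono (by norm_num) (by norm_num)) hy')
    rw [h2] at h4
    have h6 : t * w = w * t := by
      have : t * w * i y = w * t * i y := by
        calc t * w * i y = t * (w * i y) := by group
          _ = t * i y * w := by rw [h5]; group
          _ = w * (t * i y) := h4
          _ = _ := by group
      exact mul_right_cancel this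
    have h7 : w = w * i (S.e 2 0 1) := by
      rw [← h3, h6, mul_assoc, C.P.tt, mul_one]
    have h8 : i (S.e 2 0 1) = 1 := (mul_eq_left.1 h7.symm)
    have h9 : S.e 2 0 1 = 1 := C.P.inj (by rw [h8, map_one])
    exact one_ne_zero (S.e_eq_one h9).2

/-- **`[FF 2, t] = Q2`** -/
theorem FF2_sur {y : Y} (hy : y ∈ S.Q2) : ∃ f ∈ FF S i W 2, t * f * t = f * i y := by
  let K : Subgroup Y := tauSub i C.P.tt (FF S i W 2) (fun f hf f' hf' => C.FF2_ab hf hf') (fun f hf => C.FF2_t hf)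
  have hK : ∀ z : Y, z ∈ K ↔ ∃ f ∈ FF S i W 2, t * f * t = f * i z := fun z => Iff.rfl
  have hn : ∀ p ∈ S.PL, ∀ z ∈ K, p * z * p⁻¹ ∈ K := by
    rintro p hp z ⟨f, hf, h⟩
    refine ⟨i p * f * (i p)⁻¹, C.FF_PL hp hf, ?_⟩
    have h1 := C.P.ti p
    have h2 : (i p)⁻¹ * t = t * (i p)⁻¹ := by
      have := C.P.ti p⁻¹
      rw [map_inv] at this
      exact this.symm
    calc t * (i p * f * (i p)⁻¹) * t = (t * i p) * f * ((i p)⁻¹ * t) := by group
      _ = i p * (t * f * t) * (i p)⁻¹ := by rw [h1, h2]; group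
      _ = i p * f * i z * (i p)⁻¹ := by rw [h]; group
      _ = _ := by rw [map_mul, map_mul, map_inv]; group
  have hZ : ∀ b : ℤ, 1 ≤ b → b ≤ 3 → ∀ z ∈ S.Zc (b : ZMod 8), z ∈ K := by
    intro b h1 h2 z hz
    obtain ⟨w, hw, h⟩ := C.D.sur b z hz
    exact ⟨w, C.W_le_FF (by omega) (by omega) hw, h⟩
  have z1 : ∀ u, S.e 1 0 u ∈ K := fun u => hZ 1 le_rfl (by norm_num) _ ⟨u, by push_cast; rfl⟩
  have z2 : ∀ u, S.e 2 0 u ∈ K := fun u => hZ 2 (by norm_num) (by norm_num) _ ⟨u, by push_cast; rfl⟩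
  have z3 : ∀ u, S.e 3 0 u ∈ K := fun u => hZ 3 (by norm_num) le_rfl _ ⟨u, by push_cast; rfl⟩
  have o1 : ∀ u, S.o 1 u ∈ K := by
    intro u
    have h8 : S.e 4 1 0 ∈ S.PL := mem_J (S.mX8 1 0) (by norm_num) le_rfl
    have h1 := hn _ (inv_mem h8) _ (z1 u)
    rw [inv_inv, e1_conj u] at h1
    have e1 : S.o 1 u = (S.e 1 0 u)⁻¹ * (S.e 1 0 u * S.o 1 u * S.e 2 0 (σ u) * S.e 3 0 u) * (S.e 3 0 u)⁻¹ *
        (S.e 2 0 (σ u))⁻¹ := by group
    rw [e1]
    exact mul_mem (mul_mem (mul_mem (inv_mem (z1 u)) h1) (inv_mem (z3 u))) (inv_mem (z2 _))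
  have o2 : ∀ u, S.o 2 u ∈ K := by
    intro u
    have h1 := hn _ S.n2_mem _ (o1 u)
    rw [S.n2_o, show (3 : ZMod 8) - 1 = 2 from rfl] at h1
    exact h1
  exact (S.Q2_le z1 o1 z2 o2 z3) hy

theorem iQ2_le {y : Y} (hy : y ∈ S.Q2) : i y ∈ FF S i W 2 := by
  obtain ⟨f, hf, h⟩ := C.FF2_sur hy
  have e1 : i y = f⁻¹ * (t * f * t) := by rw [h]; group
  rw [e1]; exact mul_mem (inv_mem hf) (C.FF2_t hf)

/-- **`[FF 2, Q] ≤ W 2`** -/
theorem FF2_Q {f : G} (hf : f ∈ FF S i W 2) {x : Y} (hx : x ∈ S.Q) : f * i x * f⁻¹ * (i x)⁻¹ ∈ W 2 := by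
  have Z8 := S.zsys8
  let K : Subgroup G :=
    { carrier := {f | (∀ w ∈ W 2, f * w = w * f) ∧ ∀ x ∈ S.Q, f * i x * f⁻¹ * (i x)⁻¹ ∈ W 2}
      one_mem' := ⟨fun w _ => by rw [one_mul, mul_one], fun x _ => by
        have : (1 : G) * i x * 1⁻¹ * (i x)⁻¹ = 1 := by group
        rw [this]; exact one_mem _⟩
      mul_mem' := by
        rintro a b ⟨ha, ha'⟩ ⟨hb, hb'⟩
        refine ⟨fun w hw => by rw [mul_assoc, hb w hw, ← mul_assoc, ha w hw, mul_assoc], fun x hx => ?_⟩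
        have h1 := hb' x hx
        have h2 := ha _ h1
        have e1 : a * b * i x * (a * b)⁻¹ * (i x)⁻¹ = a * (b * i x * b⁻¹ * (i x)⁻¹) * a⁻¹ * (a * i x * a⁻¹ * (i x)⁻¹) := by
          group
        rw [e1, h2]
        refine mul_mem ?_ (ha' x hx)
        rw [mul_inv_cancel_right]; exact h1
      inv_mem' := by
        rintro a ⟨ha, ha'⟩
        have hi : ∀ w ∈ W 2, a⁻¹ * w = w * a⁻¹ := fun w hw => by
          have := ha w hw
          calc a⁻¹ * w = a⁻¹ * (w * a) * a⁻¹ := by group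
            _ = _ := by rw [← this]; group
        refine ⟨hi, fun x hx => ?_⟩
        have h1 := inv_mem (ha' x hx)
        have h2 := hi _ h1
        have e1 : a⁻¹ * i x * a⁻¹⁻¹ * (i x)⁻¹ = a⁻¹ * (a * i x * a⁻¹ * (i x)⁻¹)⁻¹ * a := by group
        rw [e1, h2, mul_assoc, inv_mul_cancel, mul_one]
        exact h1 }
  have : FF S i W 2 ≤ K := by
    refine C.FF2_ind (fun w hw => ?_) (fun w hw => ?_) ?_
    · refine ⟨fun w' hw' => C.D.ab hw hw', fun x hx => ?_⟩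
      rw [C.W2_PL hw (J_mono (by norm_num) (by norm_num) hx)]
      have : i x * w * w⁻¹ * (i x)⁻¹ = 1 := by group
      rw [this]; exact one_mem _
    · refine ⟨fun w' hw' => (C.W2_W (by norm_num) le_rfl hw' hw).symm, fun x hx => ?_⟩
      obtain ⟨x1, hx1, y, hy, rfl⟩ := Z8.split_ll (a := 1) (b := 7) (by norm_num) (by norm_num) hx
      have h1 := C.W3_J hw (J_mono (a := 1 + 1) (b := 7) (by norm_num) (by norm_num) hy)
      have h2 := C.D.two 2 w hw x1 hx1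
      have e1 : w * i (x1 * y) * w⁻¹ * (i (x1 * y))⁻¹ = w * i x1 * w⁻¹ * (i x1)⁻¹ := by
        rw [map_mul]
        calc w * (i x1 * i y) * w⁻¹ * (i x1 * i y)⁻¹ = w * i x1 * w⁻¹ * (w * i y) * w⁻¹ * (i y)⁻¹ * (i x1)⁻¹ := by group
          _ = _ := by rw [h1]; group
      rw [e1]; exact h2
    · rintro y hy g ⟨hg, hg'⟩
      refine ⟨fun w hw => ?_, fun x hx => ?_⟩
      · have h1 := C.W2_PL hw hy
        have h2 := hg w hw
        calc i y * g * (i y)⁻¹ * w = i y * g * ((i y)⁻¹ * (w * i y)) * (i y)⁻¹ := by group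
          _ = i y * (g * w) * (i y)⁻¹ := by rw [h1]; group
          _ = (i y * w) * g * (i y)⁻¹ := by rw [h2]; group
          _ = _ := by rw [← h1]; group
      · have h1 : y⁻¹ * x * y ∈ S.Q := by
          have := Z8.conj_J (a := 1) (b := 7) (c := 0) (d := 8) (by norm_num) (by norm_num) (by norm_num) (inv_mem hy) hx
          rwa [inv_inv] at this
        have h2 := hg' _ h1
        have h3 := C.W2_PL h2 hy
        have e1 : i y * g * (i y)⁻¹ * i x * (i y * g * (i y)⁻¹)⁻¹ * (i x)⁻¹ =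
            i y * (g * i (y⁻¹ * x * y) * g⁻¹ * (i (y⁻¹ * x * y))⁻¹) * (i y)⁻¹ := by
          rw [map_mul, map_mul, map_inv]; group
        rw [e1, ← h3, mul_inv_cancel_right]
        exact h2
  exact (this hf).2 x hx

end Cx

end Cfsg.Agent.OddHalf.D7TwF4.Fab2
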