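import Cfsg.Agent.OddHalf.D7TwF4.Defs
import Cfsg.Agent.KFacts.TwF4.TorFix

/-!
# ODD D7, `K = ²F₄(q)`, `q ≥ 8`: output of section 2 (helper297; text: bb ODD 13028)

* `Zk S k` : the centre of `X_k` (`X_k` for `k` odd);
* `VData S i t W V` : the double `V k` of `Zk S k`, for all `k`, with the relations inside `V 2 … V 6`.
-/

set_option autoImplicit false
set_option linter.unusedSectionVars false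

namespace Cfsg.Agent.OddHalf.D7TwF4.Fab2

open Cfsg.Agent.KFacts.TwF4 Cfsg.Agent.SplitTwo.ZS Cfsg.Agent.OddHalf.D7TwF4.Defs

universe u v w

variable {F : Type w} [Field F] {σ : F →+* F} {Y : Type u} [Group Y] {G : Type v} [Group G]

/-- `Z_k` for `k` even, `X_k` for `k` odd -/
def Zk (S : Full σ Y) (k : ℤ) : Subgroup Y := if (2 : ℤ) ∣ k then S.Zc ((k / 2 : ℤ) : ZMod 8) else S.XZ k

theorem Zk_even (S : Full σ Y) (a : ℤ) : Zk S (2 * a) = S.Zc (a : ZMod 8) := by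
  unfold Zk
  rw [if_pos (Dvd.intro _ rfl), Int.mul_ediv_cancel_left _ (by norm_num)]

theorem Zk_odd (S : Full σ Y) (a : ℤ) : Zk S (2 * a + 1) = S.XZ (2 * a + 1) := by
  unfold Zk
  rw [if_neg (by omega)]

theorem Zk_le (S : Full σ Y) (k : ℤ) : Zk S k ≤ S.XZ k := by
  obtain ⟨a, h | h⟩ := Int.even_or_odd' k
  · rw [h, Zk_even]; exact S.Zc_le a
  · rw [h, Zk_odd]

/-- **Output of section 2.** `V k` is the double of `Zk S k`; `W a = V (2 a)`. -/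
structure VData (S : Full σ Y) (i : Y →* G) (t : G) (W : ℤ → Subgroup G) (V : ℤ → Subgroup G) : Prop where
  even : ∀ a : ℤ, V (2 * a) = W a
  ab : ∀ k, ∀ v ∈ V k, ∀ v' ∈ V k, v * v' = v' * v
  sq : ∀ k, ∀ v ∈ V k, v * v = 1
  tinv : ∀ k, ∀ v ∈ V k, t * v * t ∈ V k
  /-- `C_{V k}(t) = Zk` -/
  fix : ∀ k, ∀ v ∈ V k, t * v * t = v → ∃ y ∈ Zk S k, v = i y
  le : ∀ k, ∀ y ∈ Zk S k, i y ∈ V k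
  /-- `[V k, t] = Zk` -/
  comm : ∀ k, ∀ v ∈ V k, ∃ y ∈ Zk S k, t * v * t = v * i y
  sur : ∀ k, ∀ y ∈ Zk S k, ∃ v ∈ V k, t * v * t = v * i y
  /-- the torus -/
  tor : ∀ k, ∀ h ∈ S.T, ∀ v ∈ V k, i h * v * (i h)⁻¹ ∈ V k
  torc : ∀ k, ∀ h ∈ S.Tk k, ∀ v ∈ V k, i h * v = v * i h
  /-- naturality -/
  rot : ∀ m k : ℤ, ∀ v, v ∈ V k ↔ i (S.rot ^ m) * v * (i (S.rot ^ m))⁻¹ ∈ V (k + 2 * m)
  n1 : ∀ k, ∀ v, v ∈ V k ↔ i S.n1 * v * (i S.n1)⁻¹ ∈ V (10 - k)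
  n2 : ∀ k, ∀ v, v ∈ V k ↔ i S.n2 * v * (i S.n2)⁻¹ ∈ V (8 - k)
  /-- `V 2 V 3 V 4 V 5 V 6` is abelian -/
  cm : ∀ j k : ℤ, 2 ≤ j → j ≤ 6 → 2 ≤ k → k ≤ 6 → ∀ v ∈ V j, ∀ v' ∈ V k, v * v' = v' * v
  /-- and centralised by `X_4` -/
  x4 : ∀ j : ℤ, 2 ≤ j → j ≤ 6 → ∀ v ∈ V j, ∀ x ∈ S.XZ 4, v * i x = i x * v
  /-- `V 4` is centralised by `X_0, …, X_8` -/
  v4 : ∀ v ∈ V 4, ∀ k : ℤ, 0 ≤ k → k ≤ 8 → ∀ x ∈ S.XZ k, v * i x = i x * v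
  /-- `[V j, X_k] ≤ V 4` -/
  cl : ∀ j k : ℤ, 2 ≤ j → j ≤ 6 → 1 ≤ k → k ≤ 7 → ∀ v ∈ V j, ∀ x ∈ S.XZ k, v * i x * v⁻¹ * (i x)⁻¹ ∈ V 4
  /-- `X_0, X_8` normalise `V 2 V 3 V 4 V 5 V 6` -/
  x8 : ∀ k : ℤ, 0 ≤ k → k ≤ 8 → ∀ x ∈ S.XZ k, ∀ v ∈ V 2 ⊔ V 3 ⊔ V 4 ⊔ V 5 ⊔ V 6,
    i x * v * (i x)⁻¹ ∈ V 2 ⊔ V 3 ⊔ V 4 ⊔ V 5 ⊔ V 6

end Cfsg.Agent.OddHalf.D7TwF4.Fab2
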