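import Cfsg.Agent.OddHalf.D7TwF4.Fab2

/-!
# ODD D7, `K = ²F₄(q)`, `q ≥ 8`: section 2, the doubles of the odd root groups (helper297; text: bb ODD 13028)

`Vd S i W k`: `W (k/2)` for `k` even, the centraliser of `T_k` in `FF (k/2)` for `k` odd; `Cx.vdata : VData S i t W (Vd S i W)`.
-/

set_option autoImplicit false
set_option linter.unusedSectionVars false

namespace Cfsg.Agent.OddHalf.D7TwF4.Fab2

open Cfsg.Agent.KFacts.TwF4 Cfsg.Agent.SplitTwo.ZS Cfsg.Agent.OddHalf.D7TwF4.Defs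
open Subgroup

universe u v w

variable {F : Type w} [Field F] {σ : F →+* F} {Y : Type u} [Group Y] {G : Type v} [Group G]
variable {S : Full σ Y} {i : Y →* G} {t : G} {W : ℤ → Subgroup G}

/-- the double of `Zk S k` -/
def Vd (S : Full σ Y) (i : Y →* G) (W : ℤ → Subgroup G) (k : ℤ) : Subgroup G :=
  if (2 : ℤ) ∣ k then W (k / 2) else FF S i W (k / 2) ⊓ centralizer ((S.Tk k).map i : Set G)

theorem Vd_even (a : ℤ) : Vd S i W (2 * a) = W a := by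
  unfold Vd
  rw [if_pos (Dvd.intro _ rfl), Int.mul_ediv_cancel_left _ (by norm_num)]

theorem mem_Vd_odd (a : ℤ) (f : G) :
    f ∈ Vd S i W (2 * a + 1) ↔ f ∈ FF S i W a ∧ ∀ h ∈ S.Tk (2 * a + 1), i h * f = f * i h := by
  unfold Vd
  rw [if_neg (by omega), show (2 * a + 1) / 2 = a by omega]
  constructor
  · rintro ⟨h1, h2⟩
    exact ⟨h1, fun h hh => mem_centralizer_iff.1 h2 _ ⟨h, hh, rfl⟩⟩
  · rintro ⟨h1, h2⟩
    refine ⟨h1, mem_centralizer_iff.2 ?_⟩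
    rintro _ ⟨h, hh, rfl⟩
    exact h2 h hh

theorem CT_mvs {g : Y} {e c : ℤ} (h : Mvs S g e c) {k : ℤ} {f : G} (hf : ∀ s ∈ S.Tk k, i s * f = f * i s) {s : Y}
    (hs : s ∈ S.Tk (e * k + 2 * c)) : i s * (i g * f * (i g)⁻¹) = (i g * f * (i g)⁻¹) * i s := by
  have h1 := h.inv.Tk _ hs
  rw [show e * (e * k + 2 * c) + 2 * -(e * c) = (e * e) * k by ring, h.ee, one_mul, inv_inv] at h1
  have h2 := hf _ h1
  rw [map_mul, map_mul, map_inv] at h2
  calc i s * (i g * f * (i g)⁻¹) = i g * (((i g)⁻¹ * i s * i g) * f) * (i g)⁻¹ := by group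
    _ = _ := by rw [h2]; group

theorem finite_Y (P : Pos S i t) : Finite Y := by
  have := P.finG
  exact Finite.of_injective _ P.inj

theorem odd_Tk [Finite Y] (S : Full σ Y) (k : ℤ) : Odd (Nat.card (S.Tk k)) := by
  by_contra hcon
  rw [Nat.not_odd_iff_even, even_iff_two_dvd] at hcon
  have : Fact (Nat.Prime 2) := ⟨Nat.prime_two⟩
  obtain ⟨x, hx⟩ := exists_prime_orderOf_dvd_card' 2 hcon
  obtain ⟨c, d, h⟩ := S.mem_T.1 x.2.1
  have h1 : (x : Y) ^ 2 = 1 := by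
    have := pow_orderOf_eq_one x
    rw [hx] at this
    exact congrArg Subtype.val this
  have h2 : S.h c d ^ (2 ^ 1) = 1 := by rw [h, pow_one]; exact h1
  obtain ⟨rfl, rfl⟩ := Cfsg.Agent.KFacts.TwF4.SylU.torus_two S h2
  rw [S.h_one] at h
  have h3 : x = 1 := Subtype.ext h.symm
  rw [h3, orderOf_one] at hx
  norm_num at hx

namespace Cx

variable (C : Cx S i t W)

include C

theorem tconj (g : Y) {f : G} {y : Y} (h : t * f * t = f * i y) :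
    t * (i g * f * (i g)⁻¹) * t = i g * f * (i g)⁻¹ * i (g * y * g⁻¹) := by
  have h1 := C.P.ti g
  have h2 : (i g)⁻¹ * t = t * (i g)⁻¹ := by
    have := C.P.ti g⁻¹
    rw [map_inv] at this
    exact this.symm
  calc t * (i g * f * (i g)⁻¹) * t = (t * i g) * f * ((i g)⁻¹ * t) := by group
    _ = i g * (t * f * t) * (i g)⁻¹ := by rw [h1, h2]; group
    _ = i g * f * i y * (i g)⁻¹ := by rw [h]; group
    _ = _ := by rw [map_mul, map_mul, map_inv]; group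

/-- an element `t y` does not centralise `W 2` -/
theorem no_t {y : Y} (hy : y ∈ S.PL) (hw : ∀ w ∈ W 2, (t * i y) * w = w * (t * i y)) : False := by
  obtain ⟨w, hw', h3⟩ := C.D.sur 2 (S.e 2 0 1) ⟨1, rfl⟩
  have h4 := hw w hw'
  have h5 := C.W2_PL hw' hy
  have h6 : t * w = w * t := by
    have : t * w * i y = w * t * i y := by
      calc t * w * i y = t * (w * i y) := by group
        _ = t * i y * w := by rw [h5]; group
        _ = w * (t * i y) := h4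
        _ = _ := by group
    exact mul_right_cancel this
  have h7 : w = w * i (S.e 2 0 1) := by
    rw [← h3, h6, mul_assoc, C.P.tt, mul_one]
  have h8 : i (S.e 2 0 1) = 1 := (mul_eq_left.1 h7.symm)
  have h9 : S.e 2 0 1 = 1 := C.P.inj (by rw [h8, map_one])
  exact one_ne_zero (S.e_eq_one h9).2

theorem exists_T5 : ∃ h ∈ S.Tk 5, h ≠ 1 := by
  obtain ⟨c, c0, c1⟩ := C.hF
  have h1 : S.h (Units.mk0 c c0) (Units.mk0 c c0)⁻¹ ∈ S.Tk 1 := S.mem_Tk_one.2 ⟨_, rfl⟩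
  refine ⟨S.ck 2 (S.h (Units.mk0 c c0) (Units.mk0 c c0)⁻¹), ?_, fun h => ?_⟩
  · have := S.ck_Tk 2 h1
    rwa [show (1 : ℤ) + 2 * 2 = 5 by norm_num] at this
  · have h2 := (MulEquiv.map_eq_one_iff _).1 h
    rw [← S.h_one] at h2
    exact c1 (congrArg Units.val (S.h_inj _ _ _ _ h2).1)

theorem FF_T {a : ℤ} {h : Y} (hh : h ∈ S.T) {f : G} (hf : f ∈ FF S i W a) : i h * f * (i h)⁻¹ ∈ FF S i W a := by
  have := C.FF_mvs (mvs_T hh) hf
  rwa [one_mul, add_zero] at this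

/-- an element of `Y` commuting with `T_5` -/
theorem mem_X5 {a b : ℤ} (ha : -3 < a) (hb : b < a + 8) (hb' : b < 13) {y : Y} (hy : y ∈ J S.XZ a b)
    (h : ∀ s ∈ S.Tk 5, i s * i y = i y * i s) : y ∈ S.XZ 5 := by
  obtain ⟨s, hs, hs1⟩ := C.exists_T5
  refine S.fix_J (k := 5) hs hs1 (a := a) (b := b) (by omega) (by omega) (by omega) hy ?_
  have h1 : s * y = y * s := C.P.inj (by rw [map_mul, map_mul]; exact h s hs)
  rw [h1, mul_inv_cancel_right]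

theorem mem5 {f : G} : f ∈ Vd S i W 5 ↔ f ∈ FF S i W 2 ∧ ∀ h ∈ S.Tk 5, i h * f = f * i h := by
  have := mem_Vd_odd (S := S) (i := i) (W := W) 2 f
  rwa [show (2 : ℤ) * 2 + 1 = 5 by norm_num] at this

theorem comm5 {f : G} (hf : f ∈ Vd S i W 5) : ∃ y ∈ S.XZ 5, t * f * t = f * i y := by
  obtain ⟨h1, h2⟩ := C.mem5.1 hf
  obtain ⟨y, hy, h3⟩ := (C.FF2_CE h1).2
  refine ⟨y, C.mem_X5 (a := 2) (b := 6) (by norm_num) (by norm_num) (by norm_num) (S.Q2_le_J hy) fun s hs => ?_, h3⟩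
  have e1 : i y = f⁻¹ * (t * f * t) := by rw [h3]; group
  have a1 := h2 s hs
  have a2 := C.P.ti s
  have a3 : i s * f⁻¹ = f⁻¹ * i s := by
    calc i s * f⁻¹ = f⁻¹ * (f * i s) * f⁻¹ := by group
      _ = _ := by rw [← a1]; group
  rw [e1]
  calc i s * (f⁻¹ * (t * f * t)) = (i s * f⁻¹) * t * f * t := by group
    _ = f⁻¹ * (t * i s) * f * t := by rw [a3, a2]; group
    _ = f⁻¹ * t * (i s * f) * t := by group
    _ = f⁻¹ * t * f * (t * i s) := by rw [a1, a2]; group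
    _ = _ := by group

theorem sur5 {y : Y} (hy : y ∈ S.XZ 5) : ∃ f ∈ Vd S i W 5, t * f * t = f * i y := by
  have := finite_Y C.P
  obtain ⟨r, rfl⟩ := S.X5 hy
  obtain ⟨f, hf, h⟩ := C.FF2_sur (S.q2_4 r)
  obtain ⟨f', hf', h1, h2⟩ := exists_avg C.P.tt C.P.ti (A := FF S i W 2) (fun f hf f' hf' => C.FF2_ab hf hf')
    (fun f hf => C.FF2_t hf) (T := S.Tk 5) (odd_Tk S 5) (fun h hh f hf => C.FF_T hh.1 hf) (y := S.o 2 r)
    (by rw [S.o_add, S.add_self, S.o_zero]) (fun s hs => S.Tk_comm hs (S.mX5 r)) hf h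
  exact ⟨f', C.mem5.2 ⟨hf', h1⟩, h2⟩

theorem le5 {y : Y} (hy : y ∈ S.XZ 5) : i y ∈ Vd S i W 5 := by
  obtain ⟨r, rfl⟩ := S.X5 hy
  refine C.mem5.2 ⟨C.iQ2_le (S.q2_4 r), fun s hs => ?_⟩
  rw [← map_mul, ← map_mul, S.Tk_comm hs (S.mX5 r)]

theorem fix5 {f : G} (hf : f ∈ Vd S i W 5) (h : t * f * t = f) : ∃ y ∈ S.XZ 5, f = i y := by
  obtain ⟨h1, h2⟩ := C.mem5.1 hf
  obtain ⟨y, hy, rfl⟩ := C.FF2_fix h1 h
  exact ⟨y, C.mem_X5 (a := 2) (b := 6) (by norm_num) (by norm_num) (by norm_num) (S.Q2_le_J hy) h2, rfl⟩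

/-- the reflection `n1` interchanges `FF 2` and `FF 3` -/
theorem n1_FF {a b : ℤ} (hab : a + b = 5) {f : G} (hf : f ∈ FF S i W a) : i S.n1 * f * (i S.n1)⁻¹ ∈ FF S i W b := by
  have := C.FF_mvs (mvs_n1 S) hf
  rwa [show -1 * a + 5 = b by omega] at this

theorem n1_FF' {a b : ℤ} (hab : a + b = 5) {f : G} (hf : f ∈ FF S i W a) : (i S.n1)⁻¹ * f * i S.n1 ∈ FF S i W b := by
  have := C.FF_mvs (mvs_n1 S).inv hf
  rw [map_inv, inv_inv, show -1 * a + -(-1 * 5) = b by omega] at this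
  exact this

theorem n1_CT {f : G} (hf : ∀ s ∈ S.Tk 5, i s * f = f * i s) : ∀ s ∈ S.Tk 5,
    i s * (i S.n1 * f * (i S.n1)⁻¹) = (i S.n1 * f * (i S.n1)⁻¹) * i s := fun s hs =>
  CT_mvs (mvs_n1 S) hf (by rwa [show (-1 : ℤ) * 5 + 2 * 5 = 5 by norm_num])

theorem n1_CT' {f : G} (hf : ∀ s ∈ S.Tk 5, i s * f = f * i s) : ∀ s ∈ S.Tk 5,
    i s * ((i S.n1)⁻¹ * f * i S.n1) = ((i S.n1)⁻¹ * f * i S.n1) * i s := fun s hs => by
  have := CT_mvs (mvs_n1 S).inv hf (s := s) (by rwa [show (-1 : ℤ) * 5 + 2 * -(-1 * 5) = 5 by norm_num])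
  rwa [map_inv, inv_inv] at this

/-- **`C_{FF 2}(T_5) ≤ FF 3`** -/
theorem V5_le {f : G} (hf : f ∈ Vd S i W 5) : f ∈ FF S i W 3 := by
  obtain ⟨h1, h2⟩ := C.mem5.1 hf
  obtain ⟨y, hy, h3⟩ := C.comm5 hf
  have hy' : S.n1⁻¹ * y * S.n1 ∈ S.XZ 5 := (mvs_n1 S).X' 5 y (by rwa [show (-1 : ℤ) * 5 + 2 * 5 = 5 by norm_num])
  obtain ⟨g, hg, h4⟩ := C.sur5 hy'
  obtain ⟨g1, g2⟩ := C.mem5.1 hg
  have h5 := C.tconj S.n1 h4
  have e1 : S.n1 * (S.n1⁻¹ * y * S.n1) * S.n1⁻¹ = y := by group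
  rw [e1] at h5
  set f' := i S.n1 * g * (i S.n1)⁻¹ with hf'
  have f1 : f' ∈ FF S i W 3 := C.n1_FF (by norm_num) g1
  have f2 : ∀ s ∈ S.Tk 5, i s * f' = f' * i s := C.n1_CT g2
  -- `f` and `f'` centralise `Z_4`, `Z_6`, `y`
  have hy1 : y ∈ S.Q1 := by
    obtain ⟨r, rfl⟩ := S.X5 hy
    exact mem_sup_right (S.q2_4 r)
  have hy1' : S.n1⁻¹ * y * S.n1 ∈ S.Q1 := by
    obtain ⟨r, hr⟩ := S.X5 hy'
    rw [← hr]
    exact mem_sup_right (S.q2_4 r)
  have c1 : f * i y = i y * f := (C.FF2_CE h1).1 y hy1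
  have cn : ∀ x : Y, S.n1⁻¹ * x * S.n1 ∈ S.Q1 → f' * i x = i x * f' := by
    intro x hx
    have h6 := (C.FF2_CE g1).1 _ hx
    rw [map_mul, map_mul, map_inv] at h6
    calc f' * i x = i S.n1 * (g * ((i S.n1)⁻¹ * i x * i S.n1)) * (i S.n1)⁻¹ := by rw [hf']; group
      _ = _ := by rw [h6, hf']; group
  have c2 : f' * i y = i y * f' := cn y hy1'
  have c3 : ∀ x ∈ S.W46, f' * i x = i x * f' := by
    rintro _ ⟨u, v, rfl⟩
    refine cn _ ?_
    have h6 : S.n1⁻¹ * S.e 2 0 u * S.n1 ∈ S.Zc ((3 : ℤ) : ZMod 8) := (mvs_n1 S).Z' 3 _ ⟨u, rfl⟩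
    have h7 : S.n1⁻¹ * S.e 3 0 v * S.n1 ∈ S.Zc ((2 : ℤ) : ZMod 8) := (mvs_n1 S).Z' 2 _ ⟨v, rfl⟩
    obtain ⟨u', hu'⟩ := h6
    obtain ⟨v', hv'⟩ := h7
    have e2 : S.n1⁻¹ * (S.e 2 0 u * S.e 3 0 v) * S.n1 =
        (S.n1⁻¹ * S.e 2 0 u * S.n1) * (S.n1⁻¹ * S.e 3 0 v * S.n1) := by group
    rw [e2, ← hu', ← hv']
    exact mem_sup_right (mul_mem (S.q2_5 u') (S.q2_3 v'))
  have c4 : ∀ x ∈ S.W46, f * i x = i x * f := by
    rintro _ ⟨u, v, rfl⟩
    exact (C.FF2_CE h1).1 _ (mem_sup_right (mul_mem (S.q2_3 u) (S.q2_5 v)))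
  have c5 : ∀ w ∈ W 2, f' * w = w * f' := by
    intro w hw
    have h6 := C.W_mvs (mvs_n1 S).inv hw
    rw [map_inv, inv_inv, show -1 * (2 : ℤ) + -(-1 * 5) = 3 by norm_num] at h6
    have h7 := C.FF2_ab g1 (C.W_le_FF (a := 2) (by norm_num) (by norm_num) h6)
    calc f' * w = i S.n1 * (g * ((i S.n1)⁻¹ * w * i S.n1)) * (i S.n1)⁻¹ := by rw [hf']; group
      _ = _ := by rw [h7, hf']; group
  have inv' : ∀ {a b : G}, a * b = b * a → a⁻¹ * b = b * a⁻¹ := fun {a b} h => by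
    calc a⁻¹ * b = a⁻¹ * (b * a) * a⁻¹ := by group
      _ = _ := by rw [← h]; group
  set c := f⁻¹ * f' with hcdef
  have k1 : c * t = t * c := by
    have e2 : t * c * t = c := by
      calc t * c * t = (t⁻¹ * f * t⁻¹)⁻¹ * (t⁻¹ * f' * t) := by rw [hcdef]; group
        _ = (f * i y)⁻¹ * (f' * i y) := by rw [C.t_inv, h3, h5]
        _ = (i y)⁻¹ * f⁻¹ * (f' * i y) := by group
        _ = f⁻¹ * f' := by rw [c2, inv' (inv' c1).symm]; group
    calc c * t = (t * c * t) * t := by rw [e2]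
      _ = t * c * (t * t) := by group
      _ = t * c := by rw [C.P.tt, mul_one]
  have k2 : ∀ x ∈ (S.W46 : Set Y), c * i x = i x * c := fun x hx => by
    rw [hcdef, mul_assoc, c3 x hx, ← mul_assoc, inv' (c4 x hx), mul_assoc]
  have k3 : ∀ w ∈ W 2, c * w = w * c := fun w hw => by
    rw [hcdef, mul_assoc, c5 w hw, ← mul_assoc, inv' (C.FF2_W2 h1 hw), mul_assoc]
  have k4 : ∀ s ∈ S.Tk 5, i s * c = c * i s := fun s hs => by
    calc i s * c = (i s * f⁻¹) * f' := (mul_assoc _ _ _).symm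
      _ = f⁻¹ * (i s * f') := by rw [← inv' (h2 s hs).symm]; exact mul_assoc _ _ _
      _ = f⁻¹ * (f' * i s) := by rw [f2 s hs]
      _ = _ := (mul_assoc _ _ _).symm
  obtain ⟨z, hz, h6⟩ := C.P.lift (A := (S.W46 : Set Y)) (a := 2) (fun z hz => by
    obtain ⟨u, rfl⟩ := hz
    exact S.Z4_W46 u) k1 k2
  rw [S.centralizer_W46] at hz
  have h7 : c = i z := by
    rcases h6 with h6 | h6
    · exact h6
    · exfalso
      refine C.no_t (J_mono (by norm_num) le_rfl hz) fun w hw => ?_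
      rw [← h6]; exact k3 w hw
  have hz5 : z ∈ S.XZ 5 := C.mem_X5 (a := 2) (b := 8) (by norm_num) (by norm_num) (by norm_num) hz fun s hs => by
    rw [← h7]; exact k4 s hs
  -- `i z ∈ FF 3`
  have hz' : S.n1⁻¹ * z * S.n1 ∈ S.XZ 5 := (mvs_n1 S).X' 5 z (by rwa [show (-1 : ℤ) * 5 + 2 * 5 = 5 by norm_num])
  have h8 := C.n1_FF (a := 2) (b := 3) (by norm_num) (C.mem5.1 (C.le5 hz')).1
  have e3 : i S.n1 * i (S.n1⁻¹ * z * S.n1) * (i S.n1)⁻¹ = i z := by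
    rw [← map_inv, ← map_mul, ← map_mul]
    congr 1
    group
  rw [e3] at h8
  have e4 : f = f' * (i z)⁻¹ := by rw [← h7, hcdef]; group
  rw [e4]
  exact mul_mem f1 (inv_mem h8)

/-- **`C_{FF (b+1)}(T_{2b+1}) = C_{FF b}(T_{2b+1})`** -/
theorem FF_succ {b : ℤ} {f : G} (hf : ∀ s ∈ S.Tk (2 * b + 1), i s * f = f * i s) :
    f ∈ FF S i W (b + 1) ↔ f ∈ FF S i W b := by
  -- rotate to `b = 2`
  have key : ∀ f : G, (∀ s ∈ S.Tk 5, i s * f = f * i s) → (f ∈ FF S i W 3 ↔ f ∈ FF S i W 2) := by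
    intro f hf
    refine ⟨fun h => ?_, fun h => C.V5_le (C.mem5.2 ⟨h, hf⟩)⟩
    have h1 := C.n1_FF' (a := 3) (b := 2) (by norm_num) h
    have h2 := C.V5_le (C.mem5.2 ⟨h1, C.n1_CT' hf⟩)
    have h3 := C.n1_FF (a := 3) (b := 2) (by norm_num) h2
    have e1 : i S.n1 * ((i S.n1)⁻¹ * f * i S.n1) * (i S.n1)⁻¹ = f := by group
    rwa [e1] at h3
  have hm := mvs_rot S (2 - b)
  have hiff : ∀ a : ℤ, f ∈ FF S i W a ↔ i (S.rot ^ (2 - b)) * f * (i (S.rot ^ (2 - b)))⁻¹ ∈ FF S i W (a + (2 - b)) := by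
    intro a
    constructor
    · intro h
      have := C.FF_mvs hm h
      rwa [one_mul] at this
    · intro h
      have := C.FF_mvs hm.inv h
      rw [map_inv, inv_inv, show 1 * (a + (2 - b)) + -(1 * (2 - b)) = a by ring] at this
      have e1 : (i (S.rot ^ (2 - b)))⁻¹ * (i (S.rot ^ (2 - b)) * f * (i (S.rot ^ (2 - b)))⁻¹) * i (S.rot ^ (2 - b)) = f := by
        group
      rwa [e1] at this
  rw [hiff, hiff b, show b + 1 + (2 - b) = 3 by ring, show b + (2 - b) = 2 by ring]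
  refine key _ fun s hs => CT_mvs hm hf ?_
  rwa [show 1 * (2 * b + 1) + 2 * (2 - b) = 5 by ring]

/-- **naturality** -/
theorem Vd_mvs {g : Y} {e c : ℤ} (h : Mvs S g e c) {k : ℤ} {v : G} (hv : v ∈ Vd S i W k) :
    i g * v * (i g)⁻¹ ∈ Vd S i W (e * k + 2 * c) := by
  obtain ⟨a, ha | ha⟩ := Int.even_or_odd' k
  · subst ha
    rw [Vd_even] at hv
    rw [show e * (2 * a) + 2 * c = 2 * (e * a + c) by ring, Vd_even]
    exact C.W_mvs h hv
  · subst ha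
    obtain ⟨h1, h2⟩ := (mem_Vd_odd a v).1 hv
    have h3 := C.FF_mvs h h1
    have h4 : ∀ s ∈ S.Tk (e * (2 * a + 1) + 2 * c), i s * (i g * v * (i g)⁻¹) = i g * v * (i g)⁻¹ * i s :=
      fun s hs => CT_mvs h h2 hs
    rcases h.he with rfl | rfl
    · rw [show 1 * (2 * a + 1) + 2 * c = 2 * (a + c) + 1 by ring] at h4 ⊢
      rw [one_mul] at h3
      exact (mem_Vd_odd _ _).2 ⟨h3, h4⟩
    · rw [show -1 * (2 * a + 1) + 2 * c = 2 * (c - a - 1) + 1 by ring] at h4 ⊢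
      refine (mem_Vd_odd _ _).2 ⟨?_, h4⟩
      rw [← C.FF_succ h4]
      rwa [show -1 * a + c = c - a - 1 + 1 by ring] at h3

theorem Vd_iff {g : Y} {e c : ℤ} (h : Mvs S g e c) (k : ℤ) (v : G) :
    v ∈ Vd S i W k ↔ i g * v * (i g)⁻¹ ∈ Vd S i W (e * k + 2 * c) := by
  refine ⟨fun hv => C.Vd_mvs h hv, fun hv => ?_⟩
  have := C.Vd_mvs h.inv hv
  rw [map_inv, inv_inv, show e * (e * k + 2 * c) + 2 * -(e * c) = (e * e) * k by ring, h.ee, one_mul] at this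
  have e1 : (i g)⁻¹ * (i g * v * (i g)⁻¹) * i g = v := by group
  rwa [e1] at this

/-- transport from `V 5` -/
theorem rot5 (a : ℤ) {v : G} (hv : v ∈ Vd S i W (2 * a + 1)) :
    i (S.rot ^ (2 - a)) * v * (i (S.rot ^ (2 - a)))⁻¹ ∈ Vd S i W 5 := by
  have := C.Vd_mvs (mvs_rot S (2 - a)) hv
  rwa [show 1 * (2 * a + 1) + 2 * (2 - a) = 5 by ring] at this

theorem rot5' (a : ℤ) {v : G} (hv : v ∈ Vd S i W 5) :
    (i (S.rot ^ (2 - a)))⁻¹ * v * i (S.rot ^ (2 - a)) ∈ Vd S i W (2 * a + 1) := by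
  have := C.Vd_mvs (mvs_rot S (2 - a)).inv hv
  rw [map_inv, inv_inv, show 1 * (5 : ℤ) + 2 * -(1 * (2 - a)) = 2 * a + 1 by ring] at this
  exact this

theorem comm_odd (a : ℤ) {v : G} (hv : v ∈ Vd S i W (2 * a + 1)) : ∃ y ∈ S.XZ (2 * a + 1), t * v * t = v * i y := by
  obtain ⟨y, hy, h⟩ := C.comm5 (C.rot5 a hv)
  have h1 := C.tconj (S.rot ^ (2 - a))⁻¹ h
  have e1 : i (S.rot ^ (2 - a))⁻¹ * (i (S.rot ^ (2 - a)) * v * (i (S.rot ^ (2 - a)))⁻¹) * (i (S.rot ^ (2 - a))⁻¹)⁻¹ = v := by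
    rw [map_inv]; group
  rw [e1] at h1
  refine ⟨_, ?_, h1⟩
  rw [inv_inv]
  exact (mvs_rot S (2 - a)).X' _ y (by rwa [show 1 * (2 * a + 1) + 2 * (2 - a) = 5 by ring])

theorem sur_odd (a : ℤ) {y : Y} (hy : y ∈ S.XZ (2 * a + 1)) : ∃ v ∈ Vd S i W (2 * a + 1), t * v * t = v * i y := by
  have h0 := (mvs_rot S (2 - a)).X _ y hy
  rw [show 1 * (2 * a + 1) + 2 * (2 - a) = 5 by ring] at h0
  obtain ⟨v, hv, h⟩ := C.sur5 h0
  have h1 := C.tconj (S.rot ^ (2 - a))⁻¹ h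
  have e1 : (S.rot ^ (2 - a))⁻¹ * (S.rot ^ (2 - a) * y * (S.rot ^ (2 - a))⁻¹) * (S.rot ^ (2 - a))⁻¹⁻¹ = y := by group
  rw [e1, map_inv, inv_inv] at h1
  exact ⟨_, C.rot5' a hv, h1⟩

theorem le_odd (a : ℤ) {y : Y} (hy : y ∈ S.XZ (2 * a + 1)) : i y ∈ Vd S i W (2 * a + 1) := by
  have h0 := (mvs_rot S (2 - a)).X _ y hy
  rw [show 1 * (2 * a + 1) + 2 * (2 - a) = 5 by ring] at h0
  have h1 := C.rot5' a (C.le5 h0)
  have e1 : (i (S.rot ^ (2 - a)))⁻¹ * i (S.rot ^ (2 - a) * y * (S.rot ^ (2 - a))⁻¹) * i (S.rot ^ (2 - a)) = i y := by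
    rw [← map_inv, ← map_mul, ← map_mul]
    congr 1
    group
  rwa [e1] at h1

theorem fix_odd (a : ℤ) {v : G} (hv : v ∈ Vd S i W (2 * a + 1)) (h : t * v * t = v) :
    ∃ y ∈ S.XZ (2 * a + 1), v = i y := by
  obtain ⟨y, hy, h1⟩ := C.fix5 (C.rot5 a hv) (by
    have := C.tconj (S.rot ^ (2 - a)) (f := v) (y := 1) (by rw [map_one, mul_one]; exact h)
    rw [mul_one, mul_inv_cancel, map_one, mul_one] at this
    exact this)
  refine ⟨(S.rot ^ (2 - a))⁻¹ * y * S.rot ^ (2 - a), ?_, ?_⟩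
  · exact (mvs_rot S (2 - a)).X' _ y (by rwa [show 1 * (2 * a + 1) + 2 * (2 - a) = 5 by ring])
  · rw [map_mul, map_mul, map_inv, ← h1]; group

theorem ab_odd (a : ℤ) {v v' : G} (hv : v ∈ Vd S i W (2 * a + 1)) (hv' : v' ∈ Vd S i W (2 * a + 1)) :
    v * v' = v' * v := by
  have h := C.FF2_ab (C.mem5.1 (C.rot5 a hv)).1 (C.mem5.1 (C.rot5 a hv')).1
  set r := i (S.rot ^ (2 - a))
  calc v * v' = r⁻¹ * ((r * v * r⁻¹) * (r * v' * r⁻¹)) * r := by group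
    _ = _ := by rw [h]; group

theorem sq_odd (a : ℤ) {v : G} (hv : v ∈ Vd S i W (2 * a + 1)) : v * v = 1 := by
  have h := C.FF2_sq (C.mem5.1 (C.rot5 a hv)).1
  set r := i (S.rot ^ (2 - a))
  calc v * v = r⁻¹ * ((r * v * r⁻¹) * (r * v * r⁻¹)) * r := by group
    _ = 1 := by rw [h]; group

theorem comm_all (k : ℤ) {v : G} (hv : v ∈ Vd S i W k) : ∃ y ∈ Zk S k, t * v * t = v * i y := by
  obtain ⟨a, ha | ha⟩ := Int.even_or_odd' k
  · subst ha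
    rw [Vd_even] at hv
    rw [Zk_even]; exact C.D.comm hv
  · subst ha
    rw [Zk_odd]; exact C.comm_odd a hv

theorem le_all (k : ℤ) {y : Y} (hy : y ∈ Zk S k) : i y ∈ Vd S i W k := by
  obtain ⟨a, ha | ha⟩ := Int.even_or_odd' k
  · subst ha
    rw [Zk_even] at hy
    rw [Vd_even]; exact C.W_Z hy
  · subst ha
    rw [Zk_odd] at hy
    exact C.le_odd a hy

theorem sur_all (k : ℤ) {y : Y} (hy : y ∈ Zk S k) : ∃ v ∈ Vd S i W k, t * v * t = v * i y := by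
  obtain ⟨a, ha | ha⟩ := Int.even_or_odd' k
  · subst ha
    rw [Zk_even] at hy
    rw [Vd_even]; exact C.D.sur a y hy
  · subst ha
    rw [Zk_odd] at hy
    exact C.sur_odd a hy

/-- `C_W(t) = Z` -/
theorem W_fix {a : ℤ} {w : G} (hw : w ∈ W a) (h : t * w * t = w) : ∃ z ∈ S.Zc (a : ZMod 8), w = i z := by
  have hm := mvs_rot S (2 - a)
  have h1 := C.W_mvs hm hw
  rw [show 1 * a + (2 - a) = 2 by ring] at h1
  obtain ⟨y, hy, h2⟩ := C.FF2_fix (C.W_le_FF (by norm_num) (by norm_num) h1) (by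
    have := C.tconj (S.rot ^ (2 - a)) (f := w) (y := 1) (by rw [map_one, mul_one]; exact h)
    rw [mul_one, mul_inv_cancel, map_one, mul_one] at this
    exact this)
  -- `y` is centralised by `PL`
  have h3 : y ∈ S.Zc 2 := by
    refine S.center_PL fun x hx => ?_
    have h4 := C.W2_PL h1 hx
    rw [h2] at h4
    exact C.P.inj (by rw [map_mul, map_mul]; exact h4)
  refine ⟨(S.rot ^ (2 - a))⁻¹ * y * S.rot ^ (2 - a), ?_, ?_⟩
  · exact hm.Z' a y (by rw [show 1 * a + (2 - a) = 2 by ring]; exact h3)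
  · rw [map_mul, map_mul, map_inv, ← h2]; group

theorem V_le_FF2 {j : ℤ} (h1 : 2 ≤ j) (h2 : j ≤ 6) : Vd S i W j ≤ FF S i W 2 := by
  have : j = 2 * 1 ∨ j = 2 * 1 + 1 ∨ j = 2 * 2 ∨ j = 2 * 2 + 1 ∨ j = 2 * 3 := by omega
  rcases this with rfl | rfl | rfl | rfl | rfl
  · rw [Vd_even]; exact C.W_le_FF (by norm_num) (by norm_num)
  · intro v hv
    obtain ⟨h3, h4⟩ := (mem_Vd_odd 1 v).1 hv
    exact (C.FF_succ h4).2 h3
  · rw [Vd_even]; exact C.W_le_FF (by norm_num) (by norm_num)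
  · intro v hv
    exact ((mem_Vd_odd 2 v).1 hv).1
  · rw [Vd_even]; exact C.W_le_FF (by norm_num) (by norm_num)

/-- **`FF 2 = V 2 V 3 V 4 V 5 V 6`** -/
theorem FF2_eq : FF S i W 2 = Vd S i W 2 ⊔ Vd S i W 3 ⊔ Vd S i W 4 ⊔ Vd S i W 5 ⊔ Vd S i W 6 := by
  set R := Vd S i W 2 ⊔ Vd S i W 3 ⊔ Vd S i W 4 ⊔ Vd S i W 5 ⊔ Vd S i W 6 with hR
  have hle : R ≤ FF S i W 2 := sup_le (sup_le (sup_le (sup_le (C.V_le_FF2 (by norm_num) (by norm_num))
    (C.V_le_FF2 (by norm_num) (by norm_num))) (C.V_le_FF2 (by norm_num) (by norm_num)))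
    (C.V_le_FF2 (by norm_num) (by norm_num))) (C.V_le_FF2 (by norm_num) (by norm_num))
  apply le_antisymm _ hle
  have v2 : Vd S i W 2 ≤ R := le_sup_of_le_left (le_sup_of_le_left (le_sup_of_le_left le_sup_left))
  have v3 : Vd S i W 3 ≤ R := le_sup_of_le_left (le_sup_of_le_left (le_sup_of_le_left le_sup_right))
  have v4 : Vd S i W 4 ≤ R := le_sup_of_le_left (le_sup_of_le_left le_sup_right)
  have v5 : Vd S i W 5 ≤ R := le_sup_of_le_left le_sup_right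
  have v6 : Vd S i W 6 ≤ R := le_sup_right
  have tV : ∀ k : ℤ, ∀ v ∈ Vd S i W k, t * v * t ∈ Vd S i W k := by
    intro k v hv
    obtain ⟨y, hy, h⟩ := C.comm_all k hv
    rw [h]; exact mul_mem hv (C.le_all k hy)
  have tR : ∀ f ∈ R, t * f * t ∈ R := by
    intro f hf
    have key : ∀ k : ℤ, Vd S i W k ≤ R → Vd S i W k ≤ R.comap (MulAut.conj t).toMonoidHom := by
      intro k hk v hv
      show t * v * t⁻¹ ∈ R
      rw [C.t_inv]; exact hk (tV k v hv)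
    have : R ≤ R.comap (MulAut.conj t).toMonoidHom := by
      conv_lhs => rw [hR]
      exact sup_le (sup_le (sup_le (sup_le (key 2 v2) (key 3 v3)) (key 4 v4)) (key 5 v5)) (key 6 v6)
    have h1 : t * f * t⁻¹ ∈ R := this hf
    rwa [C.t_inv] at h1
  let K : Subgroup Y := tauSub i C.P.tt R (fun f hf f' hf' => C.FF2_ab (hle hf) (hle hf')) tR
  have hK : ∀ k : ℤ, Vd S i W k ≤ R → ∀ y ∈ Zk S k, y ∈ K := by
    intro k hk y hy
    obtain ⟨v, hv, h⟩ := C.sur_all k hy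
    exact ⟨v, hk hv, h⟩
  have e2 : ∀ u, S.e 1 0 u ∈ Zk S 2 := fun u => by
    have := Zk_even S 1
    rw [show (2 : ℤ) * 1 = 2 by norm_num] at this
    rw [this]; exact ⟨u, by push_cast; rfl⟩
  have e3 : ∀ u, S.o 1 u ∈ Zk S 3 := fun u => by
    have := Zk_odd S 1
    rw [show (2 : ℤ) * 1 + 1 = 3 by norm_num] at this
    rw [this]; exact S.mX3 u
  have e4 : ∀ u, S.e 2 0 u ∈ Zk S 4 := fun u => by
    have := Zk_even S 2
    rw [show (2 : ℤ) * 2 = 4 by norm_num] at this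
    rw [this]; exact ⟨u, by push_cast; rfl⟩
  have e5 : ∀ u, S.o 2 u ∈ Zk S 5 := fun u => by
    have := Zk_odd S 2
    rw [show (2 : ℤ) * 2 + 1 = 5 by norm_num] at this
    rw [this]; exact S.mX5 u
  have e6 : ∀ u, S.e 3 0 u ∈ Zk S 6 := fun u => by
    have := Zk_even S 3
    rw [show (2 : ℤ) * 3 = 6 by norm_num] at this
    rw [this]; exact ⟨u, by push_cast; rfl⟩
  have hQK : S.Q2 ≤ K := S.Q2_le (fun u => hK 2 v2 _ (e2 u)) (fun u => hK 3 v3 _ (e3 u)) (fun u => hK 4 v4 _ (e4 u))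
    (fun u => hK 5 v5 _ (e5 u)) (fun u => hK 6 v6 _ (e6 u))
  have hQR : ∀ y ∈ S.Q2, i y ∈ R := by
    have : S.Q2 ≤ R.comap i := S.Q2_le (fun u => v2 (C.le_all 2 (e2 u))) (fun u => v3 (C.le_all 3 (e3 u)))
      (fun u => v4 (C.le_all 4 (e4 u))) (fun u => v5 (C.le_all 5 (e5 u))) (fun u => v6 (C.le_all 6 (e6 u)))
    exact fun y hy => this hy
  intro f hf
  obtain ⟨y, hy, h⟩ := (C.FF2_CE hf).2
  obtain ⟨f', hf', h'⟩ := hQK hy
  have a1 := (C.FF2_CE hf).1 y (mem_sup_right hy)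
  have a2 := (C.FF2_CE (hle hf')).1 y (mem_sup_right hy)
  obtain ⟨z, hz, h2⟩ := C.FF2_fix (f := f'⁻¹ * f) (mul_mem (inv_mem (hle hf')) hf) (by
    have a3 : f'⁻¹ * i y = i y * f'⁻¹ := by
      calc f'⁻¹ * i y = f'⁻¹ * (i y * f') * f'⁻¹ := by group
        _ = _ := by rw [← a2]; group
    calc t * (f'⁻¹ * f) * t = (t⁻¹ * f' * t⁻¹)⁻¹ * (t⁻¹ * f * t) := by group
      _ = (f' * i y)⁻¹ * (f * i y) := by rw [C.t_inv, h, h']
      _ = (i y)⁻¹ * (f'⁻¹ * i y) * f := by rw [a1]; group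
      _ = f'⁻¹ * f := by rw [a3]; group)
  have e7 : f = f' * i z := by rw [← h2]; group
  rw [e7]
  exact mul_mem hf' (hQR z hz)

/-- **The output of section 2.** -/
theorem vdata : VData S i t W (Vd S i W) where
  even := Vd_even
  ab k v hv v' hv' := by
    obtain ⟨a, ha | ha⟩ := Int.even_or_odd' k
    · subst ha
      rw [Vd_even] at hv hv'
      exact C.D.ab hv hv'
    · subst ha
      exact C.ab_odd a hv hv'
  sq k v hv := by
    obtain ⟨a, ha | ha⟩ := Int.even_or_odd' k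
    · subst ha
      rw [Vd_even] at hv
      exact C.D.sq hv
    · subst ha
      exact C.sq_odd a hv
  tinv k v hv := by
    obtain ⟨y, hy, h⟩ := C.comm_all k hv
    rw [h]; exact mul_mem hv (C.le_all k hy)
  fix k v hv h := by
    obtain ⟨a, ha | ha⟩ := Int.even_or_odd' k
    · subst ha
      rw [Vd_even] at hv
      rw [Zk_even]
      exact C.W_fix hv h
    · subst ha
      rw [Zk_odd]
      exact C.fix_odd a hv h
  le k y hy := C.le_all k hy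
  comm k v hv := C.comm_all k hv
  sur k y hy := C.sur_all k hy
  tor k h hh v hv := by
    have := C.Vd_mvs (mvs_T hh) hv
    rwa [one_mul, mul_zero, add_zero] at this
  torc k h hh v hv := by
    obtain ⟨a, ha | ha⟩ := Int.even_or_odd' k
    · subst ha
      rw [Vd_even] at hv
      exact (C.D.cent hv fun z hz => S.Tk_comm hh (S.Zc_le a hz)).symm
    · subst ha
      exact ((mem_Vd_odd a v).1 hv).2 h hh
  rot m k v := by
    have := C.Vd_iff (mvs_rot S m) k v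
    rwa [one_mul] at this
  n1 k v := by
    have := C.Vd_iff (mvs_n1 S) k v
    rwa [show -1 * k + 2 * 5 = 10 - k by ring] at this
  n2 k v := by
    have := C.Vd_iff (mvs_n2 S) k v
    rwa [show -1 * k + 2 * 4 = 8 - k by ring] at this
  cm j k h1 h2 h3 h4 v hv v' hv' := C.FF2_ab (C.V_le_FF2 h1 h2 hv) (C.V_le_FF2 h3 h4 hv')
  x4 j h1 h2 v hv x hx := (C.FF2_CE (C.V_le_FF2 h1 h2 hv)).1 x (mem_sup_left hx)
  v4 v hv k h1 h2 x hx := by
    have := Vd_even (S := S) (i := i) (W := W) 2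
    rw [show (2 : ℤ) * 2 = 4 by norm_num] at this
    rw [this] at hv
    exact C.W2_PL hv (mem_J hx h1 h2)
  cl j k h1 h2 h3 h4 v hv x hx := by
    have := Vd_even (S := S) (i := i) (W := W) 2
    rw [show (2 : ℤ) * 2 = 4 by norm_num] at this
    rw [this]
    exact C.FF2_Q (C.V_le_FF2 h1 h2 hv) (mem_J hx h3 h4)
  x8 k h1 h2 x hx v hv := by
    rw [← C.FF2_eq] at hv ⊢
    exact C.FF_PL (mem_J hx h1 h2) hv

end Cx

end Cfsg.Agent.OddHalf.D7TwF4.Fab2
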