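import Cfsg.Agent.OddHalf.D7TwF4.Front
import Cfsg.Agent.KFacts.TwF4.AutNorm

/-!
# ODD D7, `K = ²F₄(q)`, `q ≥ 8`: the position (helper841)

`exists_pos` : from `Ctx`, `Std`, `Cyc` and `Fam2F4 K` to the literal `Defs.Pos`. `exists_front` : the same with the
output of the front, the model and the isomorphism.
-/

set_option autoImplicit false
set_option linter.unusedSectionVars false

namespace Cfsg.Agent.OddHalf.D7TwF4.FrontFin

open Cfsg.Agent.SplitTwo Cfsg.Agent.SplitTwo.ZS Cfsg.Agent.SplitTwo.RootSysZ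
open Cfsg.Agent.KFacts.TwF4 Cfsg.Agent.KFacts.TwF4.Inst
open Cfsg.Agent.OddHalf.Iface Cfsg.Agent.OddHalf.D7.Cases
open Cfsg.Agent.OddHalf.D7TwF4.Defs Cfsg.Agent.OddHalf.D7TwF4.Front
open Cfsg.Agent.ChevalleyStructure.TwF4.TwistedFix

universe u v w

/-- the automorphisms centralising `Z_4` are inner -/
theorem af {F : Type w} [Field F] [Finite F] {σ : F →+* F} {Y : Type u} [Group Y] [Finite Y] {S : Full σ Y}
    (hF : ∃ c : Fˣ, c ≠ 1) (hR : S.R.p = 2) : AF S := by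
  intro α hα
  obtain ⟨k, -, hk⟩ := AutNorm.inner_of_Z4 S hF hR hα
  exact ⟨k, hk⟩

/-- **The front for `K ≅ ²F₄(q)`**: the model, the isomorphism, the output of the front and the position. -/
theorem exists_front {G : Type v} [Group G] (C : Ctx G) {K : Subgroup G} (Sd : Std G K) (hc : Cyc K)
    (hF : Fam2F4 ↥K) : ∃ (F : Type) (_ : Field F) (σ : F →+* F) (Y : Type) (_ : Group Y) (S : Full σ Y)
      (e : Y ≃* ↥K) (t : G) (T : Subgroup G) (n z : G), (∃ m : ℕ, 1 ≤ m ∧ Nat.card F = 2 ^ (2 * m + 1)) ∧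
      YHyp S ∧ Cfsg.Agent.OddHalf.Front.FE.Start K t t ∧ Out S (emb e) t K T n z ∧ Pos S (emb e) t := by
  obtain ⟨F, _, _, m, hm, hK, ⟨e⟩⟩ := hF
  have hchar := Cfsg.Agent.ChevalleyStructure.TwF4.Twisted.charP_two hK
  obtain ⟨φ, hφ⟩ := exists_rln hK
  have := C.fin
  have hfin : Finite ↥(Cfsg.Lie.twistedF4 F (2 ^ m)) := Finite.of_injective _ e.symm.injective
  have hy := yhyp hm hK hφ
  obtain ⟨t, T, n, z, h1, h2, h3⟩ := exists_pos C Sd hc hm hK hφ e.symm (af hy.big hy.two)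
  exact ⟨F, _, φ, _, _, full hK hφ, e.symm, t, T, n, z, ⟨m, hm, by rw [Nat.card_eq_fintype_card, hK]⟩, hy, h1, h2, h3⟩

/-- **The position for `K ≅ ²F₄(q)`.** -/
theorem exists_pos {G : Type v} [Group G] (C : Ctx G) {K : Subgroup G} (Sd : Std G K) (hc : Cyc K)
    (hF : Fam2F4 ↥K) : ∃ (F : Type) (_ : Field F) (σ : F →+* F) (Y : Type) (_ : Group Y) (S : Full σ Y)
      (i : Y →* G) (t : G), Pos S i t := by
  obtain ⟨F, _, σ, Y, _, S, e, t, -, -, -, -, -, -, -, h⟩ := exists_front C Sd hc hF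
  exact ⟨F, _, σ, Y, _, S, emb e, t, h⟩

end Cfsg.Agent.OddHalf.D7TwF4.FrontFin
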