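import Cfsg.Agent.OddHalf.D7TwF4.Growth.KRel

/-!
# Growth for `²F₄(q)`: centralisers in `PL = C_Y(Z_4)` (helper401)

For `y ∈ PL = ⟨X_0, …, X_8⟩`:

* `tor`: `PL ∩ T ≤ T_4`;
* `k1`: `y` commutes with `X_5`, `Z_6` ⟹ `y ∈ NO`;
* `k5`: `y` commutes with `X_3`, `X_5` ⟹ `y ∈ Q1 X_7 X_1`;
* `k6a`: `y` commutes with `X_4`, `Z_6` ⟹ `y ∈ Q2 X_8`;
* `k6b`: `y` commutes with `X_4`, `X_8` ⟹ `y ∈ Z_4 Z_6 Z_8`;
* `k7`: `y` commutes with `Z_4`, `Z_6` ⟹ `y ∈ ⟨X_2, …, X_8⟩`;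
* `k8`: `[y, Q2] ≤ Z_4` ⟹ `y ∈ ⟨X_1, …, X_7⟩`.
-/

set_option autoImplicit false
set_option linter.unusedSectionVars false
set_option linter.unusedVariables false

namespace Cfsg.Agent.OddHalf.D7TwF4.KCent

open Cfsg.Agent.KFacts.TwF4 Cfsg.Agent.SplitTwo.ZS
open scoped commutatorElement

universe u

variable {F : Type*} [Field F] {σ : F →+* F} {G : Type u} [Group G] (S : Full σ G)

include S in
theorem neg_eq (x : F) : -x = x := by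
  rw [← mul_one (-x), neg_mul_comm, S.neg_one_eq, mul_one]

/-- `PL ∩ T ≤ T_4` -/
theorem tor {t : G} (ht : t ∈ S.T) (hP : t ∈ S.PL) : t ∈ S.Tk 4 := by
  refine ⟨ht, Subgroup.mem_centralizer_iff.2 fun y hy => ?_⟩
  obtain ⟨c, d, rfl⟩ := S.mem_T.1 ht
  have h6 := S.comm_PL hP (z := S.e 2 0 1) ⟨1, rfl⟩
  have h7 := S.h_e c d 2 0 1
  rw [h6, mul_inv_cancel_right, mul_one] at h7
  have h8 : chE σ 2 c d = 1 := S.unit_eq_one (Units.ext (S.injE 2 _ _ _ _ h7).2.symm)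
  obtain ⟨p, u, rfl⟩ := S.X4 hy
  have h9 := S.h_e c d 2 p u
  rw [h8, Units.val_one, one_mul, map_one, one_mul, one_mul, mul_inv_eq_iff_eq_mul] at h9
  exact h9.symm

/-! ### `k7`, `k1` -/

theorem mem_cent {A : Subgroup G} {y : G} (h : A ≤ Subgroup.centralizer {y}) : y ∈ Subgroup.centralizer (A : Set G) :=
  Subgroup.mem_centralizer_iff.2 fun x hx => Subgroup.mem_centralizer_singleton_iff.1 (h hx)

theorem k7 {y : G} (h4 : ∀ z ∈ S.Zc 2, y * z = z * y) (h6 : ∀ z ∈ S.Zc 3, y * z = z * y) : y ∈ J S.XZ 2 8 := by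
  rw [← S.centralizer_W46]
  refine mem_cent ?_
  rintro _ ⟨u, v, rfl⟩
  refine mul_mem ?_ ?_
  · rw [Subgroup.mem_centralizer_singleton_iff]; exact (h4 _ ⟨u, rfl⟩).symm
  · rw [Subgroup.mem_centralizer_singleton_iff]; exact (h6 _ ⟨v, rfl⟩).symm

theorem k1 {y : G} (h4 : ∀ z ∈ S.Zc 2, y * z = z * y) (h5 : ∀ x ∈ S.XZ 5, y * x = x * y)
    (h6 : ∀ z ∈ S.Zc 3, y * z = z * y) : y ∈ S.NO :=
  ⟨k7 S h4 h6, mem_cent fun x hx => by
    rw [Subgroup.mem_centralizer_singleton_iff]; exact (h5 x hx).symm⟩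

/-! ### conjugation by `X_4` -/

/-- conjugation of `⟨X_2, …, X_8⟩` by `X_4` -/
theorem conj_four (q v a b s c d t p w r e f : F) :
    S.e 2 q v * (S.e 4 a b * (S.o 3 s * (S.e 3 c d * (S.o 2 t * (S.e 2 p w * (S.o 1 r * S.e 1 e f)))))) * (S.e 2 q v)⁻¹ =
    S.e 4 a b * (S.o 3 s * (S.e 3 c (d + q * s) * (S.o 2 (t + q * c) * (S.e 2 p (w + (q * σ p + p * σ q)) *
      (S.o 1 (r + e * q) * S.e 1 e f))))) := by
  set g := S.e 2 q v with hg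
  have c8 : g * S.e 4 a b * g⁻¹ = S.e 4 a b := by
    have : g * S.e 4 a b = S.e 4 a b * g := S.e_e2 2 q v a b
    rw [this, mul_inv_cancel_right]
  have c7 : g * S.o 3 s * g⁻¹ = S.o 3 s * S.e 3 0 (q * s) := by
    have h1 : g * S.o 3 s = S.o 3 s * g * S.e 3 0 (q * s) := S.e_o1 2 q v s
    have h2 : g * S.e 3 0 (q * s) = S.e 3 0 (q * s) * g :=
      S.comm_Z6 (k := 4) (by norm_num) (by norm_num) (S.mX4 q v) _
    rw [h1, mul_assoc (S.o 3 s), h2, ← mul_assoc, mul_inv_cancel_right]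
  have c6 : g * S.e 3 c d * g⁻¹ = S.e 3 c d * S.o 2 (q * c) := by
    have h1 : g * S.e 3 c d = S.e 3 c d * g * S.o 2 (q * c) := S.e_e1 2 q v c d
    have h2 : g * S.o 2 (q * c) = S.o 2 (q * c) * g := S.e_o0 2 q v _
    rw [h1, mul_assoc (S.e 3 c d), h2, ← mul_assoc, mul_inv_cancel_right]
  have c5 : g * S.o 2 t * g⁻¹ = S.o 2 t := by
    have h2 : g * S.o 2 t = S.o 2 t * g := S.e_o0 2 q v _
    rw [h2, mul_inv_cancel_right]
  have c4 : g * S.e 2 p w * g⁻¹ = S.e 2 p (w + (q * σ p + p * σ q)) := by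
    rw [mul_inv_eq_iff_eq_mul, hg, S.e_mul, S.e_mul]
    congr 1
    · ring
    · have := S.add_self (p * σ q)
      linear_combination - this
  have c3 : g * S.o 1 r * g⁻¹ = S.o 1 r := by
    have h2 : S.o 1 r * g = g * S.o 1 r := S.o_e1 1 r q v
    rw [← h2, mul_inv_cancel_right]
  have c2 : g * S.e 1 e f * g⁻¹ = S.o 1 (e * q) * S.e 1 e f := by
    have h1 : S.e 1 e f * g = g * S.e 1 e f * S.o 1 (e * q) := S.e_e1 1 e f q v
    have h2 : S.o 1 (e * q) * g = g * S.o 1 (e * q) := S.o_e1 1 _ q v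
    have h3 : S.e 1 e f * S.o 1 (e * q) = S.o 1 (e * q) * S.e 1 e f := S.e_o0 1 e f _
    have h4 : S.o 1 (e * q) * S.o 1 (e * q) = 1 := by rw [S.o_add, S.add_self, S.o_zero]
    calc g * S.e 1 e f * g⁻¹ = g * S.e 1 e f * (S.o 1 (e * q) * S.o 1 (e * q)) * g⁻¹ := by rw [h4, mul_one]
      _ = (g * S.e 1 e f * S.o 1 (e * q)) * S.o 1 (e * q) * g⁻¹ := by group
      _ = S.e 1 e f * (g * S.o 1 (e * q)) * g⁻¹ := by rw [← h1]; group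
      _ = (S.e 1 e f * S.o 1 (e * q)) * (g * g⁻¹) := by rw [← h2]; group
      _ = _ := by rw [h3, mul_inv_cancel, mul_one]
  calc g * (S.e 4 a b * (S.o 3 s * (S.e 3 c d * (S.o 2 t * (S.e 2 p w * (S.o 1 r * S.e 1 e f)))))) * g⁻¹ =
      (g * S.e 4 a b * g⁻¹) * ((g * S.o 3 s * g⁻¹) * ((g * S.e 3 c d * g⁻¹) * ((g * S.o 2 t * g⁻¹) *
        ((g * S.e 2 p w * g⁻¹) * ((g * S.o 1 r * g⁻¹) * (g * S.e 1 e f * g⁻¹)))))) := by group
    _ = S.e 4 a b * (S.o 3 s * ((S.e 3 0 (q * s) * S.e 3 c d) * ((S.o 2 (q * c) * S.o 2 t) *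
        (S.e 2 p (w + (q * σ p + p * σ q)) * ((S.o 1 r * S.o 1 (e * q)) * S.e 1 e f))))) := by
      rw [c8, c7, c6, c5, c4, c3, c2]; group
    _ = _ := by
      rw [S.e_mul, S.o_add, S.o_add, zero_add, zero_mul, add_zero, add_comm (q * s), add_comm (q * c)]

theorem split_at {a b c : ℤ} (h1 : a ≤ b) (h2 : b < a + 8) (h3 : b - 1 ≤ c) {y : G} (hy : y ∈ J S.XZ a b) :
    ∃ x ∈ S.XZ b, ∃ y' ∈ J S.XZ a c, y = x * y' := by
  obtain ⟨x, hx, y', hy', e⟩ := S.zsys8.split_rl h1 h2 hy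
  exact ⟨x, hx, y', J_mono le_rfl h3 hy', e⟩

/-- the form of the elements of `⟨X_2, …, X_8⟩` -/
theorem form28 {y : G} (hy : y ∈ J S.XZ 2 8) : ∃ a b s c d t p w r e f, y =
    S.e 4 a b * (S.o 3 s * (S.e 3 c d * (S.o 2 t * (S.e 2 p w * (S.o 1 r * S.e 1 e f))))) := by
  have Z8 := S.zsys8
  obtain ⟨x8, h8, y8, hy8, rfl⟩ := split_at S (a := 2) (b := 8) (c := 7) (by norm_num) (by norm_num) (by norm_num) hy
  obtain ⟨x7, h7, y7, hy7, rfl⟩ := split_at S (a := 2) (b := 7) (c := 6) (by norm_num) (by norm_num) (by norm_num) hy8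
  obtain ⟨x6, h6, y6, hy6, rfl⟩ := split_at S (a := 2) (b := 6) (c := 5) (by norm_num) (by norm_num) (by norm_num) hy7
  obtain ⟨x5, h5, y5, hy5, rfl⟩ := split_at S (a := 2) (b := 5) (c := 4) (by norm_num) (by norm_num) (by norm_num) hy6
  obtain ⟨x4, h4, y4, hy4, rfl⟩ := split_at S (a := 2) (b := 4) (c := 3) (by norm_num) (by norm_num) (by norm_num) hy5
  obtain ⟨x3, h3, y3, hy3, rfl⟩ := split_at S (a := 2) (b := 3) (c := 2) (by norm_num) (by norm_num) (by norm_num) hy4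
  have h2 : y3 ∈ S.XZ 2 := mem_of_J_self hy3 le_rfl
  obtain ⟨a, b, rfl⟩ := S.X8 h8
  obtain ⟨s, rfl⟩ := S.X7 h7
  obtain ⟨c, d, rfl⟩ := S.X6 h6
  obtain ⟨t, rfl⟩ := S.X5 h5
  obtain ⟨p, w, rfl⟩ := S.X4 h4
  obtain ⟨r, rfl⟩ := S.X3 h3
  obtain ⟨e, f, rfl⟩ := S.X2 h2
  exact ⟨a, b, s, c, d, t, p, w, r, e, f, rfl⟩

/-- uniqueness of the top factor -/
theorem uniq_top {k a : ℤ} (ha : k - 8 < a) {x x' y y' : G} (hx : x ∈ S.XZ k) (hx' : x' ∈ S.XZ k)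
    (hy : y ∈ J S.XZ a (k - 1)) (hy' : y' ∈ J S.XZ a (k - 1)) (h : x * y = x' * y') : x = x' ∧ y = y' := by
  have h1 : x'⁻¹ * x = y' * y⁻¹ := by
    rw [inv_mul_eq_iff_eq_mul, ← mul_assoc, eq_mul_inv_iff_mul_eq]; exact h
  have h2 := S.zsys8.inter' (mul_mem (inv_mem hx') hx) (by
    rw [h1]; exact J_mono (by omega) le_rfl (mul_mem hy' (inv_mem hy)))
  have h3 : x = x' := (inv_mul_eq_one.1 h2).symm
  exact ⟨h3, mul_left_cancel (h.trans (by rw [h3]))⟩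

/-- elements of `⟨X_2, …, X_8⟩` commuting with `X_4` -/
theorem form_four {y : G} (hσ : ∃ q, σ q ≠ q) (hy : y ∈ J S.XZ 2 8) (h4 : ∀ x ∈ S.XZ 4, y * x = x * y) :
    ∃ a b d t w r f, y = S.e 4 a b * (S.e 3 0 d * (S.o 2 t * (S.e 2 0 w * (S.o 1 r * S.e 1 0 f)))) := by
  obtain ⟨a, b, s, c, d, t, p, w, r, e, f, rfl⟩ := form28 S hy
  -- comparison of coordinates
  have m2 : ∀ e f, S.e 1 e f ∈ J S.XZ 2 2 := fun e f => mem_J (S.mX2 e f) le_rfl le_rfl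
  have m3 : ∀ r e f, S.o 1 r * S.e 1 e f ∈ J S.XZ 2 3 := fun r e f =>
    mul_mem (mem_J (S.mX3 r) (by norm_num) (by norm_num)) (J_mono le_rfl (by norm_num) (m2 e f))
  have m4 : ∀ p w r e f, S.e 2 p w * (S.o 1 r * S.e 1 e f) ∈ J S.XZ 2 4 := fun p w r e f =>
    mul_mem (mem_J (S.mX4 p w) (by norm_num) (by norm_num)) (J_mono le_rfl (by norm_num) (m3 r e f))
  have m5 : ∀ t p w r e f, S.o 2 t * (S.e 2 p w * (S.o 1 r * S.e 1 e f)) ∈ J S.XZ 2 5 := fun t p w r e f =>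
    mul_mem (mem_J (S.mX5 t) (by norm_num) (by norm_num)) (J_mono le_rfl (by norm_num) (m4 p w r e f))
  have key : ∀ q : F, q * s = 0 ∧ q * c = 0 ∧ q * σ p + p * σ q = 0 ∧ e * q = 0 := by
    intro q
    have h1 := h4 _ (S.mX4 q 0)
    have h2 := conj_four S q 0 a b s c d t p w r e f
    rw [← h1, mul_inv_cancel_right] at h2
    have h3 := mul_left_cancel (mul_left_cancel h2)
    obtain ⟨e6, h5⟩ := uniq_top S (k := 6) (a := 2) (by norm_num) (S.mX6 _ _) (S.mX6 _ _) (m5 _ _ _ _ _ _)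
      (m5 _ _ _ _ _ _) h3
    obtain ⟨e5, h6⟩ := uniq_top S (k := 5) (a := 2) (by norm_num) (S.mX5 _) (S.mX5 _) (m4 _ _ _ _ _) (m4 _ _ _ _ _) h5
    obtain ⟨e4, h7⟩ := uniq_top S (k := 4) (a := 2) (by norm_num) (S.mX4 _ _) (S.mX4 _ _) (m3 _ _ _) (m3 _ _ _) h6
    obtain ⟨e3, -⟩ := uniq_top S (k := 3) (a := 2) (by norm_num) (S.mX3 _) (S.mX3 _) (m2 _ _) (m2 _ _) h7
    exact ⟨left_eq_add.1 (S.injE 3 _ _ _ _ e6).2, left_eq_add.1 (S.injO 2 e5), left_eq_add.1 (S.injE 2 _ _ _ _ e4).2,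
      left_eq_add.1 (S.injO 1 e3)⟩
  obtain ⟨k1, k2, k3, k4⟩ := key 1
  rw [one_mul] at k1 k2
  rw [mul_one] at k4
  rw [map_one, one_mul, mul_one] at k3
  have hσp : σ p = p := by rw [← sub_eq_zero, sub_eq_add_neg, neg_eq S]; exact k3
  obtain ⟨q, hq⟩ := hσ
  obtain ⟨-, -, k5, -⟩ := key q
  have hp : p = 0 := by
    rw [hσp] at k5
    have h1 : p * (σ q - q) = 0 := by
      have := S.add_self (q * p)
      linear_combination k5 - this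
    rcases mul_eq_zero.1 h1 with h2 | h2
    · exact h2
    · exact absurd (sub_eq_zero.1 h2) hq
  refine ⟨a, b, d, t, w, r, f, ?_⟩
  rw [k1, k2, k4, hp, S.o_zero, one_mul]

theorem k6a {y : G} (hσ : ∃ q, σ q ≠ q) (h4 : ∀ x ∈ S.XZ 4, y * x = x * y) (h6 : ∀ z ∈ S.Zc 3, y * z = z * y) :
    y ∈ S.Q2 ⊔ S.XZ 8 := by
  have hy : y ∈ J S.XZ 2 8 := k7 S (fun z hz => h4 z (Cfsg.Agent.OddHalf.D7TwF4.Growth.KInst.Zc_le4 S hz)) h6
  obtain ⟨a, b, d, t, w, r, f, rfl⟩ := form_four S hσ hy h4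
  exact mul_mem (Subgroup.mem_sup_right (S.mX8 a b)) (Subgroup.mem_sup_left
    (mul_mem (S.q2_5 d) (mul_mem (S.q2_4 t) (mul_mem (S.q2_3 w) (mul_mem (S.q2_2 r) (S.q2_1 f))))))

/-! ### `k6b` -/

/-- the torus part of an element `b t ∈ PL` -/
theorem tor_of {b t : G} (hb : b ∈ J S.XZ 1 8) (ht : t ∈ S.T) (h : b * t ∈ S.PL) : t ∈ S.Tk 4 := by
  refine tor S ht ?_
  have e : t = b⁻¹ * (b * t) := by group
  rw [e]
  exact mul_mem (inv_mem (J_mono (by norm_num) le_rfl hb)) h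

theorem conj_eight (q a b d t w : F) :
    S.e 4 q 0 * (S.e 4 a b * (S.e 3 0 d * (S.o 2 t * S.e 2 0 w))) * (S.e 4 q 0)⁻¹ =
    S.e 4 a (b + (q * σ a + a * σ q)) * (S.e 3 0 (d + t * q) * (S.o 2 t * S.e 2 0 w)) := by
  set g := S.e 4 q 0 with hg
  have c4 : g * S.e 4 a b * g⁻¹ = S.e 4 a (b + (q * σ a + a * σ q)) := by
    rw [mul_inv_eq_iff_eq_mul, hg, S.e_mul, S.e_mul]
    congr 1
    · ring
    · have := S.add_self (a * σ q)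
      linear_combination - this
  have c3 : g * S.e 3 0 d * g⁻¹ = S.e 3 0 d := by
    rw [S.comm_Z6 (k := 8) (by norm_num) (by norm_num) (S.mX8 q 0) d, mul_inv_cancel_right]
  have c1 : g * S.e 2 0 w * g⁻¹ = S.e 2 0 w := by
    rw [S.comm_Z4 (k := 8) (by norm_num) (by norm_num) (S.mX8 q 0) w, mul_inv_cancel_right]
  have c2 : g * S.o 2 t * g⁻¹ = S.e 3 0 (t * q) * S.o 2 t := by
    have h1 : S.o 2 t * g = g * S.o 2 t * S.e 3 0 (t * q) := S.o_e2 2 t q 0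
    have h2 : S.o 2 t * S.e 3 0 (t * q) = S.e 3 0 (t * q) * S.o 2 t :=
      S.comm_Z6 (k := 5) (by norm_num) (by norm_num) (S.mX5 t) _
    have h3 : g * S.e 3 0 (t * q) = S.e 3 0 (t * q) * g :=
      S.comm_Z6 (k := 8) (by norm_num) (by norm_num) (S.mX8 q 0) _
    have h4 : S.e 3 0 (t * q) * S.e 3 0 (t * q) = 1 := by rw [S.e_mul_Zc, S.add_self, S.e_zero]
    calc g * S.o 2 t * g⁻¹ = g * S.o 2 t * (S.e 3 0 (t * q) * S.e 3 0 (t * q)) * g⁻¹ := by rw [h4, mul_one]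
      _ = (g * S.o 2 t * S.e 3 0 (t * q)) * S.e 3 0 (t * q) * g⁻¹ := by group
      _ = S.o 2 t * (g * S.e 3 0 (t * q)) * g⁻¹ := by rw [← h1]; group
      _ = S.o 2 t * S.e 3 0 (t * q) := by rw [h3]; group
      _ = _ := h2
  calc g * (S.e 4 a b * (S.e 3 0 d * (S.o 2 t * S.e 2 0 w))) * g⁻¹ =
      (g * S.e 4 a b * g⁻¹) * ((g * S.e 3 0 d * g⁻¹) * ((g * S.o 2 t * g⁻¹) * (g * S.e 2 0 w * g⁻¹))) := by group
    _ = S.e 4 a (b + (q * σ a + a * σ q)) * ((S.e 3 0 d * S.e 3 0 (t * q)) * (S.o 2 t * S.e 2 0 w)) := by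
      rw [c4, c3, c2, c1]; group
    _ = _ := by rw [S.e_mul_Zc]

theorem k6b {y : G} (hσ : ∃ q, σ q ≠ q) (hP : y ∈ S.PL) (h4 : ∀ x ∈ S.XZ 4, y * x = x * y)
    (h8 : ∀ x ∈ S.XZ 8, y * x = x * y) : y ∈ S.Zc 2 ⊔ S.Zc 3 ⊔ S.Zc 4 := by
  have Z8 := S.zsys8
  rcases S.form_PL hP with ⟨b, hb, t, ht, rfl⟩ | ⟨b, hb, t, ht, x, hx, rfl⟩
  · -- `t = 1`
    have hn : S.e 4 1 0 ≠ 1 := fun h => one_ne_zero (S.e_eq_one h).1
    have ht4 := tor_of S hb ht hP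
    have ht1 : t = 1 := by
      by_contra ht1
      obtain ⟨b7, hb7, x8, hx8, rfl⟩ := Z8.split_rr (a := 1) (b := 8) (by norm_num) (by norm_num) hb
      have h1 := h8 _ (S.mX8 1 0)
      have hx' : t * S.e 4 1 0 * t⁻¹ ∈ S.XZ 8 := S.T_conj ht 8 (S.mX8 1 0)
      set g' := x8 * (t * S.e 4 1 0 * t⁻¹) * x8⁻¹ with hg'
      have hg8 : g' ∈ S.XZ 8 := mul_mem (mul_mem hx8 hx') (inv_mem hx8)
      have h2 : ⁅b7, g'⁆ = S.e 4 1 0 * g'⁻¹ := by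
        rw [commutatorElement_def, hg']
        have e : b7 * (x8 * (t * S.e 4 1 0 * t⁻¹) * x8⁻¹) * b7⁻¹ = S.e 4 1 0 := by
          calc b7 * (x8 * (t * S.e 4 1 0 * t⁻¹) * x8⁻¹) * b7⁻¹ = (b7 * x8 * t * S.e 4 1 0) * (b7 * x8 * t)⁻¹ := by group
            _ = _ := by rw [h1]; group
        rw [e]
      have h3 : ⁅b7, g'⁆ ∈ J S.XZ (1 + 1) (8 - 1) := Z8.comm_J_right (a := 1) (b := 8 - 1) (d := 8) (by norm_num)
        (by norm_num) hb7 hg8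
      have h5 : ⁅b7, g'⁆ = 1 := Z8.inter' (k := 8) (by rw [h2]; exact mul_mem (S.mX8 1 0) (inv_mem hg8))
        (J_mono (by norm_num) (by norm_num) h3)
      rw [h2, mul_inv_eq_one, hg'] at h5
      obtain ⟨a, c, rfl⟩ := S.X8 hx8
      obtain ⟨c', d', rfl⟩ := S.mem_T.1 ht
      rw [S.h_e, mul_zero, eq_mul_inv_iff_mul_eq, S.e_mul, S.e_mul] at h5
      have h6 := (S.injE 4 _ _ _ _ h5).1
      have h7 : (chE σ 4 c' d' : F) * 1 = 1 := by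
        rw [add_comm] at h6
        exact (add_left_cancel h6).symm
      have h9 : S.h c' d' * S.e 4 1 0 * (S.h c' d')⁻¹ = S.e 4 1 0 := by rw [S.h_e, mul_zero, h7]
      exact hn (S.fpf (k := 4) (j := 8) (by norm_num) ht4 ht1 (S.mX8 1 0) h9)
    subst ht1
    rw [mul_one] at h4 h8 ⊢
    have hb4 : b ∈ J S.XZ (8 - 4) 8 := Z8.comm_bot (k := 8) (a := 1) (r := 4) (by norm_num) (by norm_num) (S.mX8 1 0) hn
      hb (h8 _ (S.mX8 1 0))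
    obtain ⟨a, c, d, t, w, r, f, rfl⟩ := form_four S hσ (J_mono (by norm_num) le_rfl hb4) h4
    have h48 : ∀ k : ℤ, 4 ≤ k → k ≤ 8 → ∀ x ∈ S.XZ k, x ∈ J S.XZ (8 - 4) 8 := fun k h1 h2 x hx =>
      mem_J hx (by omega) h2
    have h1 : S.o 1 r * S.e 1 0 f ∈ J S.XZ (8 - 4) 8 := by
      have h2 := mul_mem (inv_mem (mul_mem (mul_mem (h48 8 (by norm_num) (by norm_num) _ (S.mX8 a c))
        (h48 6 (by norm_num) (by norm_num) _ (S.mX6 0 d))) (mul_mem (h48 5 (by norm_num) (by norm_num) _ (S.mX5 t))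
        (h48 4 (by norm_num) (by norm_num) _ (S.mX4 0 w))))) hb4
      have e : (S.e 4 a c * S.e 3 0 d * (S.o 2 t * S.e 2 0 w))⁻¹ *
          (S.e 4 a c * (S.e 3 0 d * (S.o 2 t * (S.e 2 0 w * (S.o 1 r * S.e 1 0 f))))) = S.o 1 r * S.e 1 0 f := by group
      rwa [e] at h2
    have h2 : S.o 1 r * S.e 1 0 f ∈ J S.XZ 2 3 :=
      mul_mem (mem_J (S.mX3 r) (by norm_num) (by norm_num)) (mem_J (S.mX2 0 f) (by norm_num) (by norm_num))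
    have h3 := Z8.inter_one 1 h1 h2 (by norm_num) (by norm_num) (by norm_num) (by norm_num) (Or.inr (by norm_num))
    rw [h3, mul_one] at h8 ⊢
    have m4 : S.e 2 0 w ∈ J S.XZ 2 4 := mem_J (S.mX4 0 w) (by norm_num) (by norm_num)
    have m5 : S.o 2 t * S.e 2 0 w ∈ J S.XZ 2 5 := mul_mem (mem_J (S.mX5 t) (by norm_num) (by norm_num))
      (J_mono le_rfl (by norm_num) m4)
    have m6 : ∀ d, S.e 3 0 d * (S.o 2 t * S.e 2 0 w) ∈ J S.XZ 2 7 := fun d =>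
      mul_mem (mem_J (S.mX6 0 d) (by norm_num) (by norm_num)) (J_mono le_rfl (by norm_num) m5)
    have key : ∀ q, q * σ a + a * σ q = 0 ∧ t * q = 0 := by
      intro q
      have h5 := h8 _ (S.mX8 q 0)
      have h6 := conj_eight S q a c d t w
      rw [← h5, mul_inv_cancel_right] at h6
      obtain ⟨e8, h7⟩ := uniq_top S (k := 8) (a := 2) (by norm_num) (S.mX8 _ _) (S.mX8 _ _) (m6 _) (m6 _) h6
      obtain ⟨e6, -⟩ := uniq_top S (k := 6) (a := 2) (by norm_num) (S.mX6 _ _) (S.mX6 _ _) m5 m5 h7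
      exact ⟨left_eq_add.1 (S.injE 4 _ _ _ _ e8).2, left_eq_add.1 (S.injE 3 _ _ _ _ e6).2⟩
    obtain ⟨k1, k2⟩ := key 1
    rw [mul_one] at k2
    rw [map_one, one_mul, mul_one] at k1
    have hσa : σ a = a := by rw [← sub_eq_zero, sub_eq_add_neg, neg_eq S]; exact k1
    obtain ⟨q, hq⟩ := hσ
    obtain ⟨k3, -⟩ := key q
    have ha : a = 0 := by
      rw [hσa] at k3
      have h1 : a * (σ q - q) = 0 := by
        have := S.add_self (q * a)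
        linear_combination k3 - this
      rcases mul_eq_zero.1 h1 with h2 | h2
      · exact h2
      · exact absurd (sub_eq_zero.1 h2) hq
    rw [ha, k2, S.o_zero, one_mul]
    exact mul_mem (Subgroup.mem_sup_right ⟨c, rfl⟩) (mul_mem (Subgroup.mem_sup_left (Subgroup.mem_sup_right ⟨d, rfl⟩))
      (Subgroup.mem_sup_left (Subgroup.mem_sup_left ⟨w, rfl⟩)))
  · exfalso
    have h1 := h8 _ (S.mX8 0 1)
    have h2 : x * S.e 4 0 1 = S.e 4 0 1 * x := by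
      obtain ⟨a, c, rfl⟩ := S.X8 hx
      rw [S.e_mul, S.e_mul, map_zero, mul_zero, zero_mul, add_zero, add_zero, add_zero, zero_add, add_comm]
    have h3 : t * (S.n2 * S.e 4 0 1 * S.n2⁻¹) * t⁻¹ = b⁻¹ * S.e 4 0 1 * b := by
      calc t * (S.n2 * S.e 4 0 1 * S.n2⁻¹) * t⁻¹ = b⁻¹ * (b * (t * S.n2) * (S.e 4 0 1 * x)) * x⁻¹ * (t * S.n2)⁻¹ := by group
        _ = b⁻¹ * ((b * (t * S.n2) * x) * S.e 4 0 1) * x⁻¹ * (t * S.n2)⁻¹ := by rw [← h2]; group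
        _ = _ := by rw [h1]; group
    have h5 : t * (S.n2 * S.e 4 0 1 * S.n2⁻¹) * t⁻¹ ∈ S.XZ 0 := S.T_conj ht 0 (S.n2_refl.mem' (S.mX8 0 1) (by norm_num))
    have h6 : b⁻¹ * S.e 4 0 1 * b ∈ J S.XZ 1 8 := mul_mem (mul_mem (inv_mem hb) (mem_J (S.mX8 0 1) (by norm_num) le_rfl)) hb
    have h7 := (S.J07_inf_UT h5 h6 S.T.one_mem (by rw [mul_one]; exact h3)).2.1
    have h9 : S.e 4 0 1 = 1 := by
      have e : S.e 4 0 1 = b * (b⁻¹ * S.e 4 0 1 * b) * b⁻¹ := by group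
      rw [e, h7]; group
    exact one_ne_zero (S.e_eq_one h9).2

/-! ### `k5`, `k8` -/

theorem t_one {b t w : G} (hb : b ∈ J S.XZ 1 8) (ht : t ∈ S.Tk 4) (hw : w ∈ S.W46)
    (h : (b * t) * S.o 2 1 * (b * t)⁻¹ = w * S.o 2 1) : t = 1 := by
  by_contra ht1
  have hbi : b⁻¹ ∈ J S.XZ 1 9 := inv_mem (J_mono le_rfl (by norm_num) hb)
  have h1 : t * S.o 2 1 * t⁻¹ * (S.o 2 1)⁻¹ = (b⁻¹ * w * b⁻¹⁻¹) * (b⁻¹ * S.o 2 1 * b⁻¹⁻¹ * (S.o 2 1)⁻¹) := by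
    calc t * S.o 2 1 * t⁻¹ * (S.o 2 1)⁻¹ = b⁻¹ * ((b * t) * S.o 2 1 * (b * t)⁻¹) * b * (S.o 2 1)⁻¹ := by group
      _ = _ := by rw [h]; group
  have h2 : t * S.o 2 1 * t⁻¹ * (S.o 2 1)⁻¹ ∈ S.W46 := by
    rw [h1]; exact mul_mem (S.W46_conj hbi hw) (S.comm_five hbi (S.mX5 1))
  have h3 := S.W46_inf h2 (mul_mem (S.T_conj ht.1 5 (S.mX5 1)) (inv_mem (S.mX5 1)))
  exact one_ne_zero (S.o_eq_one (S.fpf (k := 4) (j := 5) (by norm_num) ht ht1 (S.mX5 1) (mul_inv_eq_one.1 h3)))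

/-- `J 3 5` commutes with `X_3` -/
theorem J35_comm {r : G} (hr : r ∈ J S.XZ 3 5) (s : F) : r * S.o 1 s = S.o 1 s * r := by
  have : J S.XZ 3 5 ≤ Subgroup.centralizer {S.o 1 s} := J_le fun k h1 h2 x hx => by
    rw [Subgroup.mem_centralizer_singleton_iff]
    interval_cases k
    · obtain ⟨t, rfl⟩ := S.X3 hx
      rw [S.o_add, S.o_add, add_comm]
    · obtain ⟨q, v, rfl⟩ := S.X4 hx
      exact (S.o_e1 1 s q v).symm
    · obtain ⟨t, rfl⟩ := S.X5 hx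
      exact (S.o_o1 1 s t).symm
  exact Subgroup.mem_centralizer_singleton_iff.1 (this hr)

theorem k5 {y : G} (hP : y ∈ S.PL) (h3 : ∀ x ∈ S.XZ 3, y * x = x * y) (h5 : ∀ x ∈ S.XZ 5, y * x = x * y) :
    y ∈ S.Q1 ⊔ S.XZ 7 ⊔ S.XZ 1 := by
  have Z8 := S.zsys8
  rcases S.form_PL hP with ⟨b, hb, t, ht, rfl⟩ | ⟨b, hb, t, ht, x, hx, rfl⟩
  · have ht1 : t = 1 := t_one S hb (tor_of S hb ht hP) (one_mem _) (by
      rw [one_mul, h5 _ (S.mX5 1), mul_inv_cancel_right])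
    subst ht1
    rw [mul_one] at h3 h5 ⊢
    obtain ⟨x1, hx1, q, hq, rfl⟩ := Z8.split_ll (a := 1) (b := 8) (by norm_num) (by norm_num) hb
    obtain ⟨s1, rfl⟩ := S.X1 hx1
    have c5 : S.o 0 s1 * S.o 2 1 = S.o 2 1 * S.o 0 s1 := S.o_o2 0 s1 1
    have c3 : S.o 0 s1 * S.o 1 1 = S.o 1 1 * S.o 0 s1 := S.o_o1 0 s1 1
    have q5 : q * S.o 2 1 = S.o 2 1 * q := by
      have h1 := h5 _ (S.mX5 1)
      rw [← mul_assoc (S.o 2 1), ← c5, mul_assoc, mul_assoc] at h1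
      exact mul_left_cancel h1
    have q3 : q * S.o 1 1 = S.o 1 1 * q := by
      have h1 := h3 _ (S.mX3 1)
      rw [← mul_assoc (S.o 1 1), ← c3, mul_assoc, mul_assoc] at h1
      exact mul_left_cancel h1
    obtain ⟨u, v, r, hr, rfl⟩ := S.mem_NO_iff.1 (S.mem_NO_of_comm (J_mono (by norm_num) le_rfl hq) one_ne_zero q5)
    obtain ⟨x7, hx7, r6, hr6, rfl⟩ := split_at S (a := 3) (b := 7) (c := 6) (by norm_num) (by norm_num) (by norm_num) hr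
    obtain ⟨x6, hx6, r, hr', rfl⟩ := split_at S (a := 3) (b := 6) (c := 5) (by norm_num) (by norm_num) (by norm_num) hr6
    obtain ⟨s, rfl⟩ := S.X7 hx7
    obtain ⟨c, d, rfl⟩ := S.X6 hx6
    have r28 : ∀ k : ℤ, 2 ≤ k → k ≤ 8 → ∀ x ∈ S.XZ k, ∀ w ∈ S.W46, x * w * x⁻¹ = w := fun k h1 h2 x hx w hw => by
      rw [S.W46_comm (mem_J hx h1 h2) hw, mul_inv_cancel_right]
    -- conjugation of `o 1 1`
    have hE : S.e 4 0 v * S.o 1 1 * (S.e 4 0 v)⁻¹ = S.o 1 1 * S.e 3 0 v := by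
      have h1 : S.o 1 1 * S.e 4 0 v = S.e 4 0 v * S.o 1 1 * S.e 2 0 (σ 1 * 0) * S.o 2 (1 * σ 0) *
          S.e 3 0 (1 * 0 * σ 0 + 1 * v) := S.o_e3 1 1 0 v
      rw [map_zero, mul_zero, mul_zero, mul_zero, zero_add, one_mul, S.o_zero, S.e_zero, mul_one, mul_one] at h1
      have h2 := S.comm_Z6 (k := 8) (by norm_num) (by norm_num) (S.mX8 0 v) v
      have h4 : S.e 3 0 v * S.e 3 0 v = 1 := by rw [S.e_mul_Zc, S.add_self, S.e_zero]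
      rw [mul_inv_eq_iff_eq_mul]
      calc S.e 4 0 v * S.o 1 1 = S.e 4 0 v * S.o 1 1 * S.e 3 0 v * S.e 3 0 v := by
            rw [mul_assoc (S.e 4 0 v * S.o 1 1), h4, mul_one]
        _ = S.o 1 1 * (S.e 4 0 v * S.e 3 0 v) := by rw [← h1]; group
        _ = _ := by rw [h2]; group
    have hD : r * (S.o 1 1 * S.e 3 0 v) * r⁻¹ = S.o 1 1 * S.e 3 0 v := by
      have h1 := J35_comm S hr' 1
      have h2 := S.W46_comm (J_mono (by norm_num) (by norm_num) hr') (S.Z6_W46 v)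
      calc r * (S.o 1 1 * S.e 3 0 v) * r⁻¹ = (r * S.o 1 1) * S.e 3 0 v * r⁻¹ := by group
        _ = S.o 1 1 * (r * S.e 3 0 v) * r⁻¹ := by rw [h1]; group
        _ = _ := by rw [h2]; group
    have hC : S.e 3 c d * (S.o 1 1 * S.e 3 0 v) * (S.e 3 c d)⁻¹ = S.o 1 1 * S.e 2 0 c * S.e 3 0 v := by
      have h1 : S.o 1 1 * S.e 3 c d = S.e 3 c d * S.o 1 1 * S.e 2 0 (1 * c) := S.o_e2 1 1 c d
      rw [one_mul] at h1
      have h2 := r28 6 (by norm_num) (by norm_num) _ (S.mX6 c d) _ (S.Z6_W46 v)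
      have h3 := S.W46_comm (mem_J (S.mX6 c d) (by norm_num) (by norm_num)) (S.Z4_W46 c)
      have h4 : S.e 2 0 c * S.e 2 0 c = 1 := by rw [S.e_mul_Zc, S.add_self, S.e_zero]
      have h6 : S.e 3 c d * S.o 1 1 = S.o 1 1 * S.e 2 0 c * S.e 3 c d := by
        calc S.e 3 c d * S.o 1 1 = S.e 3 c d * S.o 1 1 * S.e 2 0 c * S.e 2 0 c := by
              rw [mul_assoc (S.e 3 c d * S.o 1 1), h4, mul_one]
          _ = S.o 1 1 * (S.e 3 c d * S.e 2 0 c) := by rw [← h1]; group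
          _ = _ := by rw [h3]; group
      calc S.e 3 c d * (S.o 1 1 * S.e 3 0 v) * (S.e 3 c d)⁻¹ = (S.e 3 c d * S.o 1 1) * S.e 3 0 v * (S.e 3 c d)⁻¹ := by group
        _ = S.o 1 1 * S.e 2 0 c * (S.e 3 c d * S.e 3 0 v * (S.e 3 c d)⁻¹) := by rw [h6]; group
        _ = _ := by rw [h2]
    have hW : ∀ k : ℤ, 2 ≤ k → k ≤ 8 → ∀ x ∈ S.XZ k, x * S.o 1 1 = S.o 1 1 * x →
        x * (S.o 1 1 * S.e 2 0 c * S.e 3 0 v) * x⁻¹ = S.o 1 1 * S.e 2 0 c * S.e 3 0 v := by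
      intro k h1 h2 x hx hxo
      have h3 := S.W46_comm (mem_J hx h1 h2) (mul_mem (S.Z4_W46 c) (S.Z6_W46 v))
      calc x * (S.o 1 1 * S.e 2 0 c * S.e 3 0 v) * x⁻¹ = (x * S.o 1 1) * (S.e 2 0 c * S.e 3 0 v) * x⁻¹ := by group
        _ = S.o 1 1 * (x * (S.e 2 0 c * S.e 3 0 v)) * x⁻¹ := by rw [hxo]; group
        _ = _ := by rw [h3]; group
    have hB := hW 7 (by norm_num) (by norm_num) _ (S.mX7 s) (S.o_o2 1 1 s).symm
    have hA := hW 2 (by norm_num) (by norm_num) _ (S.mX2 0 u) (S.e_o0 1 0 u 1)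
    have hq1 : S.o 1 1 = S.o 1 1 * S.e 2 0 c * S.e 3 0 v := by
      calc S.o 1 1 = (S.e 1 0 u * (S.o 3 s * (S.e 3 c d * r)) * S.e 4 0 v * S.o 1 1) *
            (S.e 1 0 u * (S.o 3 s * (S.e 3 c d * r)) * S.e 4 0 v)⁻¹ := by rw [q3, mul_inv_cancel_right]
        _ = S.e 1 0 u * (S.o 3 s * (S.e 3 c d * (r * (S.e 4 0 v * S.o 1 1 * (S.e 4 0 v)⁻¹) * r⁻¹) * (S.e 3 c d)⁻¹) *
            (S.o 3 s)⁻¹) * (S.e 1 0 u)⁻¹ := by group
        _ = _ := by rw [hE, hD, hC, hB, hA]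
    rw [mul_assoc] at hq1
    have hq2 := left_eq_mul.1 hq1
    have hc4 : S.e 2 0 c = 1 := S.X_inf_near (i := 4) (j := 6) (by norm_num) (by norm_num) (S.mX4 0 c) (by
      rw [mul_eq_one_iff_eq_inv.1 hq2]; exact inv_mem (S.mX6 0 v))
    have hc := (S.e_eq_one hc4).2
    rw [hc4, one_mul] at hq2
    have hv := (S.e_eq_one hq2).2
    rw [hc, hv, S.e_zero, mul_one]
    have hr35 : r ∈ S.Q1 := by
      have : J S.XZ 3 5 ≤ S.Q1 := J_le fun k h1 h2 x hx => by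
        interval_cases k
        · obtain ⟨t, rfl⟩ := S.X3 hx
          exact Subgroup.mem_sup_right (S.q2_2 t)
        · exact Subgroup.mem_sup_left hx
        · obtain ⟨t, rfl⟩ := S.X5 hx
          exact Subgroup.mem_sup_right (S.q2_4 t)
      exact this hr'
    refine mul_mem (Subgroup.mem_sup_right (S.mX1 s1)) (Subgroup.mem_sup_left (mul_mem ?_ (mul_mem
      (Subgroup.mem_sup_right (S.mX7 s)) (mul_mem ?_ (Subgroup.mem_sup_left hr35)))))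
    · exact Subgroup.mem_sup_left (Subgroup.mem_sup_right (S.q2_1 u))
    · exact Subgroup.mem_sup_left (Subgroup.mem_sup_right (S.q2_5 d))
  · exfalso
    have hbi : b⁻¹ ∈ J S.XZ 1 9 := inv_mem (J_mono le_rfl (by norm_num) hb)
    have h1 : x * S.o 2 1 * x⁻¹ ∈ J S.XZ 5 7 := by
      have e : x * S.o 2 1 * x⁻¹ = ⁅x, S.o 2 1⁆ * S.o 2 1 := by
        rw [commutatorElement_def]; group
      rw [e]
      exact mul_mem (J_mono (by norm_num) (by norm_num)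
        (Z8.comm' (k := 8) (l := 5) (by norm_num) (by norm_num) hx (S.mX5 1)))
        (mem_J (S.mX5 1) (by norm_num) (by norm_num))
    have h2 : t * (S.n2 * (x * S.o 2 1 * x⁻¹) * S.n2⁻¹) * t⁻¹ ∈ J S.XZ 1 3 :=
      S.T_conj_J ht (S.n2_refl.mem_J h1 (by norm_num) (by norm_num))
    have h4 : t * (S.n2 * (x * S.o 2 1 * x⁻¹) * S.n2⁻¹) * t⁻¹ = b⁻¹ * S.o 2 1 * b⁻¹⁻¹ := by
      have h6 := h5 _ (S.mX5 1)
      calc t * (S.n2 * (x * S.o 2 1 * x⁻¹) * S.n2⁻¹) * t⁻¹ =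
          b⁻¹ * ((b * (t * S.n2) * x) * S.o 2 1) * (b * (t * S.n2) * x)⁻¹ * b⁻¹⁻¹ := by group
        _ = _ := by rw [h6]; group
    have h6 : b⁻¹ * S.o 2 1 * b⁻¹⁻¹ ∈ J S.XZ 4 6 := by
      have e : b⁻¹ * S.o 2 1 * b⁻¹⁻¹ = (b⁻¹ * S.o 2 1 * b⁻¹⁻¹ * (S.o 2 1)⁻¹) * S.o 2 1 := by group
      rw [e]
      exact mul_mem (S.W46_le (S.comm_five hbi (S.mX5 1))) (mem_J (S.mX5 1) (by norm_num) (by norm_num))
    rw [h4] at h2
    have h7 := Z8.inter_one 1 h2 h6 (by norm_num) (by norm_num) (by norm_num) (by norm_num) (Or.inl (by norm_num))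
    have h8 : S.o 2 1 = 1 := by
      have e : S.o 2 1 = b * (b⁻¹ * S.o 2 1 * b⁻¹⁻¹) * b⁻¹ := by group
      rw [e, h7]; group
    exact one_ne_zero (S.o_eq_one h8)

/-- `[J 1 7, X_3] ≤ Z_4` -/
theorem J17_three {b : G} (hb : b ∈ J S.XZ 1 7) : ∀ s, b * S.o 1 s * b⁻¹ * (S.o 1 s)⁻¹ ∈ S.Zc 2 := by
  let D : Subgroup G :=
    { carrier := {g | g ∈ S.PL ∧ ∀ s, g * S.o 1 s * g⁻¹ * (S.o 1 s)⁻¹ ∈ S.Zc 2}
      one_mem' := ⟨one_mem _, fun s => by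
        have e : (1 : G) * S.o 1 s * 1⁻¹ * (S.o 1 s)⁻¹ = 1 := by group
        rw [e]; exact one_mem _⟩
      mul_mem' := by
        rintro a b ⟨ha, ha'⟩ ⟨hb, hb'⟩
        refine ⟨mul_mem ha hb, fun s => ?_⟩
        have e : a * b * S.o 1 s * (a * b)⁻¹ * (S.o 1 s)⁻¹ =
            (a * (b * S.o 1 s * b⁻¹ * (S.o 1 s)⁻¹)) * a⁻¹ * (a * S.o 1 s * a⁻¹ * (S.o 1 s)⁻¹) := by group
        rw [e, S.comm_PL ha (hb' s), mul_inv_cancel_right]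
        exact mul_mem (hb' s) (ha' s)
      inv_mem' := by
        rintro a ⟨ha, ha'⟩
        refine ⟨inv_mem ha, fun s => ?_⟩
        have e : a⁻¹ * S.o 1 s * a⁻¹⁻¹ * (S.o 1 s)⁻¹ = (a⁻¹ * (a * S.o 1 s * a⁻¹ * (S.o 1 s)⁻¹)⁻¹) * a := by group
        rw [e, S.comm_PL (inv_mem ha) (inv_mem (ha' s)), inv_mul_cancel_right]
        exact inv_mem (ha' s) }
  have hle : J S.XZ 1 7 ≤ D := by
    refine J_le fun k h1 h2 x hx => ⟨mem_J hx (by omega) (by omega), fun s => ?_⟩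
    have hc : x * S.o 1 s = S.o 1 s * x → x * S.o 1 s * x⁻¹ * (S.o 1 s)⁻¹ ∈ S.Zc 2 := fun h => by
      rw [h, mul_inv_cancel_right, mul_inv_cancel]; exact one_mem _
    interval_cases k
    · obtain ⟨t, rfl⟩ := S.X1 hx
      exact hc (S.o_o1 0 t s)
    · obtain ⟨q, v, rfl⟩ := S.X2 hx
      exact hc (S.e_o0 1 q v s)
    · obtain ⟨t, rfl⟩ := S.X3 hx
      exact hc (by rw [S.o_add, S.o_add, add_comm])
    · obtain ⟨q, v, rfl⟩ := S.X4 hx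
      exact hc (S.o_e1 1 s q v).symm
    · obtain ⟨t, rfl⟩ := S.X5 hx
      exact hc (S.o_o1 1 s t).symm
    · obtain ⟨q, v, rfl⟩ := S.X6 hx
      have h1 : S.o 1 s * S.e 3 q v = S.e 3 q v * S.o 1 s * S.e 2 0 (s * q) := S.o_e2 1 s q v
      have h2 := S.comm_Z4 (k := 6) (by norm_num) (by norm_num) (S.mX6 q v) (s * q)
      have h3 := S.comm_Z4 (k := 3) (by norm_num) (by norm_num) (S.mX3 s) (s * q)
      have h4 : S.e 3 q v * S.o 1 s * (S.e 3 q v)⁻¹ * (S.o 1 s)⁻¹ = (S.e 2 0 (s * q))⁻¹ := by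
        have h5 : S.e 3 q v * (S.e 2 0 (s * q))⁻¹ = (S.e 2 0 (s * q))⁻¹ * S.e 3 q v :=
          (show Commute _ _ from h2).inv_right.eq
        have h6 : S.o 1 s * (S.e 2 0 (s * q))⁻¹ = (S.e 2 0 (s * q))⁻¹ * S.o 1 s :=
          (show Commute _ _ from h3).inv_right.eq
        calc S.e 3 q v * S.o 1 s * (S.e 3 q v)⁻¹ * (S.o 1 s)⁻¹ =
            (S.e 3 q v * S.o 1 s * S.e 2 0 (s * q)) * (S.e 2 0 (s * q))⁻¹ * (S.e 3 q v)⁻¹ * (S.o 1 s)⁻¹ := by group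
          _ = S.o 1 s * (S.e 3 q v * (S.e 2 0 (s * q))⁻¹) * (S.e 3 q v)⁻¹ * (S.o 1 s)⁻¹ := by rw [← h1]; group
          _ = (S.o 1 s * (S.e 2 0 (s * q))⁻¹) * (S.o 1 s)⁻¹ := by rw [h5]; group
          _ = _ := by rw [h6, mul_inv_cancel_right]
      rw [h4]
      exact inv_mem ⟨_, rfl⟩
    · obtain ⟨t, rfl⟩ := S.X7 hx
      exact hc (S.o_o2 1 s t).symm
  exact (hle hb).2

theorem k8 {y : G} (hP : y ∈ S.PL) (h : ∀ x ∈ S.Q2, y * x * y⁻¹ * x⁻¹ ∈ S.Zc 2) : y ∈ J S.XZ 1 7 := by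
  have Z8 := S.zsys8
  rcases S.form_PL hP with ⟨b, hb, t, ht, rfl⟩ | ⟨b, hb, t, ht, x, hx, rfl⟩
  · have ht1 : t = 1 := by
      obtain ⟨u, hu⟩ := h _ (S.q2_4 1)
      refine t_one S hb (tor_of S hb ht hP) (S.Z4_W46 u) ?_
      rw [hu]; group
    subst ht1
    rw [mul_one] at h ⊢
    obtain ⟨b7, hb7, x, hx, rfl⟩ := Z8.split_rr (a := 1) (b := 8) (by norm_num) (by norm_num) hb
    have hb7' : b7 ∈ J S.XZ 1 7 := J_mono le_rfl (by norm_num) hb7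
    obtain ⟨q, v, rfl⟩ := S.X8 hx
    have hPL : ∀ b ∈ J S.XZ 1 8, ∀ z ∈ S.Zc 2, b * z * b⁻¹ = z := fun b hb z hz => by
      rw [S.comm_PL (J_mono (by norm_num) le_rfl hb) hz, mul_inv_cancel_right]
    -- `x⁻¹ o₁ x o₁⁻¹ ∈ Z_4`
    have h1 : (S.e 4 q v)⁻¹ * S.o 1 1 * S.e 4 q v * (S.o 1 1)⁻¹ ∈ S.Zc 2 := by
      have h2 := inv_mem (h _ (S.q2_2 1))
      have h3 := J17_three S (inv_mem hb7') 1
      have e : (S.e 4 q v)⁻¹ * S.o 1 1 * S.e 4 q v * (S.o 1 1)⁻¹ =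
          ((S.e 4 q v)⁻¹ * (b7⁻¹ * S.o 1 1 * b7⁻¹⁻¹ * (S.o 1 1)⁻¹)⁻¹ * (S.e 4 q v)⁻¹⁻¹) *
          ((b7 * S.e 4 q v)⁻¹ * (b7 * S.e 4 q v * S.o 1 1 * (b7 * S.e 4 q v)⁻¹ * (S.o 1 1)⁻¹)⁻¹ *
            (b7 * S.e 4 q v)⁻¹⁻¹) := by group
      rw [e, hPL _ (inv_mem (mem_J (S.mX8 q v) (by norm_num) le_rfl)) _ (inv_mem h3), hPL _ (inv_mem hb) _ h2]
      exact mul_mem (inv_mem h3) h2
    have h2 : S.o 1 1 * S.e 4 q v = S.e 4 q v * S.o 1 1 * S.e 2 0 (σ 1 * q) * S.o 2 (1 * σ q) *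
        S.e 3 0 (1 * q * σ q + 1 * v) := S.o_e3 1 1 q v
    rw [map_one, one_mul, one_mul, one_mul] at h2
    have c1 : S.o 1 1 * (S.e 2 0 q * S.o 2 (σ q) * S.e 3 0 (q * σ q + v)) * (S.o 1 1)⁻¹ =
        S.e 2 0 q * S.o 2 (σ q) * S.e 3 0 (q * σ q + v) := by
      have a1 := S.comm_Z4 (k := 3) (by norm_num) (by norm_num) (S.mX3 1) q
      have a2 : S.o 1 1 * S.o 2 (σ q) = S.o 2 (σ q) * S.o 1 1 := S.o_o1 1 1 _
      have a3 := S.comm_Z6 (k := 3) (by norm_num) (by norm_num) (S.mX3 1) (q * σ q + v)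
      calc S.o 1 1 * (S.e 2 0 q * S.o 2 (σ q) * S.e 3 0 (q * σ q + v)) * (S.o 1 1)⁻¹ =
          (S.o 1 1 * S.e 2 0 q) * S.o 2 (σ q) * S.e 3 0 (q * σ q + v) * (S.o 1 1)⁻¹ := by group
        _ = S.e 2 0 q * (S.o 1 1 * S.o 2 (σ q)) * S.e 3 0 (q * σ q + v) * (S.o 1 1)⁻¹ := by rw [a1]; group
        _ = S.e 2 0 q * S.o 2 (σ q) * (S.o 1 1 * S.e 3 0 (q * σ q + v)) * (S.o 1 1)⁻¹ := by rw [a2]; group
        _ = _ := by rw [a3]; group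
    have h3 : (S.e 4 q v)⁻¹ * S.o 1 1 * S.e 4 q v * (S.o 1 1)⁻¹ = S.e 2 0 q * S.o 2 (σ q) * S.e 3 0 (q * σ q + v) := by
      rw [← c1]
      calc (S.e 4 q v)⁻¹ * S.o 1 1 * S.e 4 q v * (S.o 1 1)⁻¹ = (S.e 4 q v)⁻¹ * (S.o 1 1 * S.e 4 q v) * (S.o 1 1)⁻¹ := by
            group
        _ = _ := by rw [h2]; group
    rw [h3] at h1
    obtain ⟨u, hu⟩ := h1
    have m4 : ∀ u, S.e 2 0 u ∈ J S.XZ 4 4 := fun u => mem_J (S.mX4 0 u) (by norm_num) (by norm_num)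
    have e0 : S.o 2 (σ q) * S.e 3 0 (q * σ q + v) = S.e 3 0 (q * σ q + v) * S.o 2 (σ q) :=
      S.comm_Z6 (k := 5) (by norm_num) (by norm_num) (S.mX5 _) _
    have e1 : S.e 3 0 (q * σ q + v) * (S.o 2 (σ q) * S.e 2 0 q) = 1 * S.e 2 0 u := by
      rw [hu, one_mul]
      have a1 := S.comm_Z6 (k := 4) (by norm_num) (by norm_num) (S.mX4 0 q) (q * σ q + v)
      have a2 := S.comm_Z4 (k := 5) (by norm_num) (by norm_num) (S.mX5 (σ q)) q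
      calc S.e 3 0 (q * σ q + v) * (S.o 2 (σ q) * S.e 2 0 q) = (S.e 3 0 (q * σ q + v) * S.e 2 0 q) * S.o 2 (σ q) := by
            rw [a2]; group
        _ = S.e 2 0 q * (S.e 3 0 (q * σ q + v) * S.o 2 (σ q)) := by rw [← a1]; group
        _ = _ := by rw [← e0]; group
    obtain ⟨e6, e2⟩ := uniq_top S (k := 6) (a := 4) (by norm_num) (S.mX6 _ _) (one_mem _)
      (mul_mem (mem_J (S.mX5 _) (by norm_num) (by norm_num)) (J_mono le_rfl (by norm_num) (m4 q)))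
      (J_mono le_rfl (by norm_num) (m4 u)) e1
    have e2' : S.o 2 (σ q) * S.e 2 0 q = 1 * S.e 2 0 u := by rw [one_mul]; exact e2
    obtain ⟨e5, -⟩ := uniq_top S (k := 5) (a := 4) (by norm_num) (S.mX5 _) (one_mem _)
      (J_mono le_rfl (by norm_num) (m4 q)) (J_mono le_rfl (by norm_num) (m4 u)) e2'
    have hq : q = 0 := by
      have := S.o_eq_one e5
      exact (map_eq_zero σ).1 this
    have hv : v = 0 := by
      have := (S.e_eq_one e6).2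
      rw [hq, zero_mul, zero_add] at this
      exact this
    rw [hq, hv, S.e_zero, mul_one]
    exact hb7'
  · exfalso
    obtain ⟨u, hu⟩ := h _ (S.q2_5 1)
    have hbi : b⁻¹ ∈ J S.XZ 1 9 := inv_mem (J_mono le_rfl (by norm_num) hb)
    have h1 := S.comm_Z6 (k := 8) (by norm_num) (by norm_num) hx 1
    have h2 : t * (S.n2 * S.e 3 0 1 * S.n2⁻¹) * t⁻¹ = b⁻¹ * (S.e 2 0 u * S.e 3 0 1) * b⁻¹⁻¹ := by
      rw [hu]
      calc t * (S.n2 * S.e 3 0 1 * S.n2⁻¹) * t⁻¹ = t * S.n2 * (S.e 3 0 1 * x) * x⁻¹ * S.n2⁻¹ * t⁻¹ := by group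
        _ = t * S.n2 * (x * S.e 3 0 1) * x⁻¹ * S.n2⁻¹ * t⁻¹ := by rw [← h1]
        _ = _ := by group
    have h3 : t * (S.n2 * S.e 3 0 1 * S.n2⁻¹) * t⁻¹ ∈ S.XZ 2 := S.T_conj ht 2 (S.n2_refl.mem' (S.mX6 0 1) (by norm_num))
    have h4 : b⁻¹ * (S.e 2 0 u * S.e 3 0 1) * b⁻¹⁻¹ ∈ J S.XZ 4 6 :=
      S.W46_le (S.W46_conj hbi (mul_mem (S.Z4_W46 u) (S.Z6_W46 1)))
    rw [← h2] at h4
    have h5 := Z8.inter 2 _ h3 (J_mono (by norm_num) (by norm_num) h4)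
    have h6 : S.e 3 0 1 = 1 := by
      have e : S.e 3 0 1 = S.n2⁻¹ * (t⁻¹ * (t * (S.n2 * S.e 3 0 1 * S.n2⁻¹) * t⁻¹) * t) * S.n2 := by group
      rw [e, h5]; group
    exact one_ne_zero (S.e_eq_one h6).2

end Cfsg.Agent.OddHalf.D7TwF4.KCent
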