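import Cfsg.Agent.OddHalf.D7TwF4.Norm
import Cfsg.Agent.OddHalf.D7TwF4.WMk
import Cfsg.Agent.OddHalf.D7TwF4.FrontFin
import Cfsg.Agent.OddHalf.D7TwF4.Growth.Glue
import Cfsg.Agent.OddHalf.D7TwF4.Growth.KAll
import Cfsg.Agent.OddHalf.D7TwF4.Growth.LevelFive

/-!
# ODD D7, `K = ²F₄(q)`, `q ≥ 8`: the row (helper570; head helper544)

`false_of_pos : Pos S i t → False`; `node : Node @Fam2F4`.
-/

set_option autoImplicit false

namespace Cfsg.Agent.OddHalf.D7TwF4.Node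

open Cfsg.Agent.KFacts.TwF4 Cfsg.Agent.SplitTwo.ZS
open Cfsg.Agent.OddHalf.Iface Cfsg.Agent.OddHalf.D7.Cases
open Cfsg.Agent.OddHalf.D7TwF4.Defs Cfsg.Agent.OddHalf.D7TwF4.Growth

universe u v w

variable {F : Type w} [Field F] {σ : F →+* F} {Y : Type u} [Group Y] {G : Type v} [Group G]
variable {S : Full σ Y} {i : Y →* G} {t : G}

/-- **The position is impossible.** -/
theorem false_of_pos (P : Pos S i t) : False := by
  obtain ⟨W, D⟩ := WMk.exists_WData_of_NEl P (Norm.exists_NEl P)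
  have C : Fab2.Cx S i t W := ⟨P, D, Fab.comm_two P D⟩
  have := P.finG
  have hq : 4 < Nat.card F := lt_of_lt_of_le (by norm_num) P.big
  have e : ∀ k : ℤ, 2 * 2 + 1 * k = 4 + k := fun k => by ring
  have K := KInst.kbase S hq P.inj 2 1 (Or.inl rfl)
  simp only [e] at K
  have hI := Frame.inp (Glue.inp C K) 2 (Or.inl rfl)
  obtain ⟨R, hR⟩ := LevelFive.of_inp hI
  exact End.false_of_U P (fun x => KCen.tau_eq P x) (fun k => rfl)
    (fun c => by rw [KInst.YZ_odd]) hR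

/-- **Node D7 for `²F₄(2^(2m+1))`, `m ≥ 1`.** -/
theorem node : Node.{u} @Fam2F4.{u} := by
  intro G _ C K Sd hc hF
  obtain ⟨F, _, σ, Y, _, S, i, t, P⟩ := FrontFin.exists_pos C Sd hc hF
  exact false_of_pos P

end Cfsg.Agent.OddHalf.D7TwF4.Node
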