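import Cfsg.Agent.OddHalf.D7TwF4.NormF

/-!
# D7, `K = ²F₄(q)`: the action on `U / Q`, on the torus and on `n2` (helper467)
-/

set_option autoImplicit false
set_option maxHeartbeats 400000
set_option linter.unusedSectionVars false

namespace Cfsg.Agent.OddHalf.D7TwF4.NormF

open Cfsg.Agent.KFacts.TwF4 Cfsg.Agent.SplitTwo.ZS Cfsg.Agent.OddHalf.D7TwF4.NormE
open Cfsg.Agent.OddHalf.D7TwF4.NormSuz
open Cfsg.Agent.KFacts.TwF4.Inv Cfsg.Agent.KFacts.TwF4.SylU Cfsg.Agent.KFacts.TwF4.Perf Cfsg.Agent.KFacts.TwF4.Arc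

universe u w

variable {F : Type w} [Field F] {σ : F →+* F} {Y : Type u} [Group Y] [Finite F] [Finite Y]

section modQ

variable (S : Full σ Y)

theorem uniq8 {p u p' u' : F} (h : S.e 4 p u * (S.e 4 p' u')⁻¹ ∈ S.Q) : p = p' ∧ u = u' := by
  have h1 : S.e 4 p u * (S.e 4 p' u')⁻¹ = 1 :=
    S.zsys8.inter' (k := 8) (mul_mem (S.mX8 p u) (inv_mem (S.mX8 p' u'))) h
  exact S.injE 4 _ _ _ _ (mul_inv_eq_one.1 h1)

theorem q_mul {x x' y y' : Y} (hx : x ∈ S.PL) (h1 : x * x'⁻¹ ∈ S.Q) (h2 : y * y'⁻¹ ∈ S.Q) :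
    x * y * (x' * y')⁻¹ ∈ S.Q := by
  have e : x * y * (x' * y')⁻¹ = (x * (y * y'⁻¹) * x⁻¹) * (x * x'⁻¹) := by group
  rw [e]; exact mul_mem (Perf.Q_norm S hx h2) h1

theorem q_trans {x y z : Y} (h1 : x * y⁻¹ ∈ S.Q) (h2 : y * z⁻¹ ∈ S.Q) : x * z⁻¹ ∈ S.Q := by
  have e : x * z⁻¹ = (x * y⁻¹) * (y * z⁻¹) := by group
  rw [e]; exact mul_mem h1 h2

theorem q_symm {x y : Y} (h1 : x * y⁻¹ ∈ S.Q) : y * x⁻¹ ∈ S.Q := by
  have e : y * x⁻¹ = (x * y⁻¹)⁻¹ := by group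
  rw [e]; exact inv_mem h1

theorem q_conj {s x y : Y} (hs : s ∈ S.PL) (h : x * y⁻¹ ∈ S.Q) : (s * x * s⁻¹) * (s * y * s⁻¹)⁻¹ ∈ S.Q := by
  have e : (s * x * s⁻¹) * (s * y * s⁻¹)⁻¹ = s * (x * y⁻¹) * s⁻¹ := by group
  rw [e]; exact Perf.Q_norm S hs h

theorem mX8' (q v : F) : S.e 4 q v ∈ J S.XZ 1 8 := mem_J (S.mX8 q v) (by norm_num) (by norm_num)

end modQ

namespace NF

variable {S : Full σ Y} {f : Y → Y} (N : NF S f)

include N

theorem q_f (hF : ∃ c : Fˣ, c ≠ 1) {x y : Y} (hx : x ∈ S.PL) (hy : y ∈ S.PL) (h : x * y⁻¹ ∈ S.Q) :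
    f x * (f y)⁻¹ ∈ S.Q := by
  rw [← N.inv hy, ← N.mul _ hx _ (inv_mem hy)]; exact N.memQ hF h

/-- **Step B** -/
theorem stepB (hF : ∃ c : Fˣ, c ≠ 1) (hne : ∃ x : F, σ x ≠ x) (hS : ∀ s ∈ S.Tk 4, f s ∈ S.Tk 4) :
    (∀ s ∈ S.Tk 4, f s = s) ∧ ∀ q v, f (S.e 4 q v) * (S.e 4 q v)⁻¹ ∈ S.Q := by
  have m8 : ∀ q v, S.e 4 q v ∈ S.PL := fun q v => U_le_PL S (mX8' S q v)
  have hex : ∀ q v, ∃ x : F × F, f (S.e 4 q v) * (S.e 4 x.1 x.2)⁻¹ ∈ S.Q := by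
    intro q v
    obtain ⟨y, hy, x, hx, e⟩ := S.zsys8.split_rr (a := 1) (b := 8) (by norm_num) (by norm_num)
      (N.memU _ (mX8' S q v))
    obtain ⟨p, u, rfl⟩ := S.X8 hx
    refine ⟨(p, u), ?_⟩
    rw [e, mul_inv_cancel_right]; exact hy
  choose φ hφ using hex
  -- the map
  set a : F → F → F := fun q v => (φ q v).1 with ha
  set b : F → F → F := fun q v => (φ q v).2 with hb
  have hab : ∀ q v, f (S.e 4 q v) * (S.e 4 (a q v) (b q v))⁻¹ ∈ S.Q := hφ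
  have hmul : ∀ q v q' v', a (q + q') (v + v' + q * σ q') = a q v + a q' v' ∧
      b (q + q') (v + v' + q * σ q') = b q v + b q' v' + a q v * σ (a q' v') := by
    intro q v q' v'
    have h1 := q_mul S (N.mem _ (m8 q v)) (hab q v) (hab q' v')
    rw [← N.mul _ (m8 q v) _ (m8 q' v'), S.e_mul, S.e_mul] at h1
    exact uniq8 S (q_trans S (q_symm S (hab _ _)) h1)
  have heq : ∀ d d' : Fˣ, f (sT S d) = sT S d' → (∀ q v, a ((σ (d : F))⁻¹ * q) ((σ (d : F))⁻¹ * σ (σ (d : F))⁻¹ * v) =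
      (σ (d' : F))⁻¹ * a q v) ∧ ∀ q v, b ((σ (d : F))⁻¹ * q) ((σ (d : F))⁻¹ * σ (σ (d : F))⁻¹ * v) =
      (σ (d' : F))⁻¹ * σ (σ (d' : F))⁻¹ * b q v := by
    intro d d' hd
    have key : ∀ q v, a ((σ (d : F))⁻¹ * q) ((σ (d : F))⁻¹ * σ (σ (d : F))⁻¹ * v) = (σ (d' : F))⁻¹ * a q v ∧
        b ((σ (d : F))⁻¹ * q) ((σ (d : F))⁻¹ * σ (σ (d : F))⁻¹ * v) =
          (σ (d' : F))⁻¹ * σ (σ (d' : F))⁻¹ * b q v := by
      intro q v
      have h1 := q_conj S (sT_PL S d') (hab q v)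
      rw [← hd, ← N.conj (sT_PL S d) (m8 q v), hd, sT_e4, sT_e4] at h1
      exact uniq8 S (q_trans S (q_symm S (hab _ _)) h1)
    exact ⟨fun q v => (key q v).1, fun q v => (key q v).2⟩
  have hsurj : ∀ x : Fˣ, ∃ d : Fˣ, (σ (d : F))⁻¹ = x := by
    intro x
    obtain ⟨y, hy⟩ := Finite.surjective_of_injective σ.injective ((x⁻¹ : Fˣ) : F)
    have hy0 : y ≠ 0 := by
      rintro rfl
      rw [map_zero] at hy
      exact (Units.ne_zero x⁻¹) hy.symm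
    refine ⟨Units.mk0 y hy0, ?_⟩
    rw [Units.val_mk0, hy, Units.val_inv_eq_inv_val, inv_inv]
  have he : ∀ χ : Fˣ, ∃ χ' : Fˣ, (∀ q v, a (χ * q) (χ * σ χ * v) = χ' * a q v) ∧
      ∀ q v, b (χ * q) (χ * σ χ * v) = χ' * σ χ' * b q v := by
    intro χ
    obtain ⟨d, hd⟩ := hsurj χ
    obtain ⟨d', hd'⟩ := mem_Tk4 S (hS _ (sT_mem S d))
    have h1 := heq d d' hd'
    rw [hd] at h1
    refine ⟨(Units.map (σ : F →* F) d')⁻¹, ?_⟩
    have e : (((Units.map (σ : F →* F) d')⁻¹ : Fˣ) : F) = (σ (d' : F))⁻¹ := Units.val_inv_eq_inv_val _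
    rw [e]
    exact h1
  have hn : ∃ q v, a q v ≠ 0 := by
    obtain ⟨y, hy, hfy⟩ := N.surjU (mX8' S 1 0)
    obtain ⟨y', hy', x, hx, rfl⟩ := S.zsys8.split_rr (a := 1) (b := 8) (by norm_num) (by norm_num) hy
    obtain ⟨q, v, rfl⟩ := S.X8 hx
    have hyQ : y' ∈ S.Q := hy'
    refine ⟨q, v, ?_⟩
    rw [N.mul _ (Q_le_PL S hyQ) _ (m8 q v)] at hfy
    have h1 : f (S.e 4 q v) * (S.e 4 1 0)⁻¹ ∈ S.Q := by
      rw [← hfy, mul_inv_rev, mul_inv_cancel_left]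
      exact inv_mem (N.memQ hF hyQ)
    have h2 := uniq8 S (q_trans S (q_symm S (hab q v)) h1)
    rw [h2.1]; exact one_ne_zero
  obtain ⟨k, hk⟩ := N.ord
  have hit : ∀ n : ℕ, ∀ q v, f^[n] (S.e 4 q v) *
      (S.e 4 ((fun x : F × F => (a x.1 x.2, b x.1 x.2))^[n] (q, v)).1
        ((fun x : F × F => (a x.1 x.2, b x.1 x.2))^[n] (q, v)).2)⁻¹ ∈ S.Q := by
    intro n
    induction n with
    | zero => intro q v; simp
    | succ n ih =>
      intro q v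
      rw [Function.iterate_succ_apply', Function.iterate_succ_apply']
      have h1 := N.q_f hF (N.it_mem (m8 q v) n) (m8 _ _) (ih q v)
      exact q_trans S h1 (hab _ _)
  have hp : ∀ q v, (fun x : F × F => (a x.1 x.2, b x.1 x.2))^[2 ^ k] (q, v) = (q, v) := by
    intro q v
    have h1 := hit (2 ^ k) q v
    rw [hk _ (m8 q v)] at h1
    obtain ⟨h2, h3⟩ := uniq8 S h1
    exact Prod.ext h2.symm h3.symm
  obtain ⟨hA, hB⟩ := suz S.sq S.two hne (fun q v q' v' => (hmul q v q' v').1) (fun q v q' v' => (hmul q v q' v').2)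
    he hn hp
  refine ⟨fun s hs => ?_, fun q v => ?_⟩
  · obtain ⟨d, rfl⟩ := mem_Tk4 S hs
    obtain ⟨d', hd'⟩ := mem_Tk4 S (hS _ hs)
    have h1 := (heq d d' hd').1 1 0
    rw [hA, hA, mul_one, mul_one] at h1
    have h2 : d = d' := Units.ext (σ.injective (inv_injective h1))
    rw [hd', h2]
  · have := hab q v
    rwa [hA, hB] at this

theorem memX4 (hF : ∃ c : Fˣ, c ≠ 1) (hS : ∀ s ∈ S.Tk 4, f s = s) {x : Y} (hx : x ∈ S.XZ 4) : f x ∈ S.XZ 4 := by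
  obtain ⟨c, hc⟩ := hF
  have hs := sT_mem S c
  have hs1 : sT S c ≠ 1 := fun h => hc (sT_inj S (h.trans (sT_one S).symm))
  have hxQ : x ∈ S.Q := mem_J hx (by norm_num) (by norm_num)
  refine S.fix_J (k := 4) hs hs1 (a := 1) (b := 7) (by norm_num) (by norm_num) (by norm_num)
    (N.memQ ⟨c, hc⟩ hxQ) ?_
  have h1 : sT S c * x * (sT S c)⁻¹ = x := by rw [S.Tk_comm hs hx, mul_inv_cancel_right]
  have h2 := N.conj (sT_PL S c) (Q_le_PL S hxQ)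
  rw [h1, hS _ hs] at h2
  exact h2.symm

/-- **Step C** -/
theorem stepC (hF : ∃ c : Fˣ, c ≠ 1) (hS : ∀ s ∈ S.Tk 4, f s = s) : ∃ z, f S.n2 = S.n2 * S.e 2 0 z := by
  obtain ⟨c, hc⟩ := id hF
  have hs := sT_mem S c
  have hs1 : sT S c ≠ 1 := fun h => hc (sT_inj S (h.trans (sT_one S).symm))
  have hsP := sT_PL S c
  have hn := S.n2_mem
  have hy : S.n2⁻¹ * f S.n2 ∈ S.PL := mul_mem (inv_mem hn) (N.mem _ hn)
  have hcomm : (S.n2⁻¹ * f S.n2) * sT S c = sT S c * (S.n2⁻¹ * f S.n2) := by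
    have h1 := S.n2_Tk hs
    have h2 := N.conj hn hsP
    rw [h1, N.inv hsP, hS _ hs] at h2
    -- `s⁻¹ = f n2 s (f n2)⁻¹`
    have h3 : f S.n2 * sT S c = (sT S c)⁻¹ * f S.n2 := by rw [h2]; group
    have h4 : S.n2⁻¹ * (sT S c)⁻¹ = sT S c * S.n2⁻¹ := by rw [← h1]; group
    rw [mul_assoc, h3, ← mul_assoc, h4, mul_assoc]
  obtain ⟨x, hx, t, ht, e⟩ := S.centralizer_Tk hy hs hs1 hcomm
  have e1 : f S.n2 = S.n2 * (x * t) := by rw [← e]; group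
  have hxP : ∀ x ∈ S.XZ 4, x ∈ S.PL := fun x hx => mem_J hx (by norm_num) (by norm_num)
  obtain ⟨d, rfl⟩ := mem_Tk4 S ht
  have htP := sT_PL S d
  have hit : ∀ n : ℕ, ∃ x' ∈ S.XZ 4, f^[n] S.n2 = S.n2 * (x' * sT S d ^ n) := by
    intro n
    induction n with
    | zero => exact ⟨1, one_mem _, by simp⟩
    | succ n ih =>
      obtain ⟨x', hx', h⟩ := ih
      have hfx := N.memX4 hF hS hx'
      refine ⟨x * f x', mul_mem hx hfx, ?_⟩
      rw [Function.iterate_succ_apply', h, N.mul _ hn _ (mul_mem (hxP _ hx') (pow_mem htP n)),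
        N.mul _ (hxP _ hx') _ (pow_mem htP n), N.pow htP, hS _ ht, e1, pow_succ']
      have h5 := S.Tk_comm ht hfx
      calc S.n2 * (x * sT S d) * (f x' * sT S d ^ n) = S.n2 * (x * (sT S d * f x') * sT S d ^ n) := by group
        _ = _ := by rw [h5]; group
  obtain ⟨k, hk⟩ := N.ord
  obtain ⟨x', hx', h⟩ := hit (2 ^ k)
  rw [hk _ hn] at h
  have h1 : x' * sT S d ^ (2 ^ k) = 1 := by
    have : S.n2 * 1 = S.n2 * (x' * sT S d ^ (2 ^ k)) := by rw [mul_one]; exact h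
    exact (mul_left_cancel this).symm
  have h2 : sT S d ^ (2 ^ k) = 1 := by
    apply S.U_inf_T (pow_mem (S.Tk_le 4 ht) _)
    rw [eq_inv_of_mul_eq_one_right h1]
    exact inv_mem (mem_J hx' (by norm_num) (by norm_num))
  have h3 : d = 1 := (torus_two S h2).2
  rw [h3, sT_one, mul_one] at e1
  -- `f n2` is an involution
  obtain ⟨p, u, rfl⟩ := S.X4 hx
  have h4 : S.n2 * S.e 2 p u = S.e 2 p u * S.n2 := by
    have : S.n2 * S.e 2 p u * S.n2⁻¹ = S.e 2 p u := S.n2_e 2 p u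
    rw [mul_inv_eq_iff_eq_mul] at this
    exact this
  have h5 : f S.n2 * f S.n2 = 1 := by rw [← N.mul _ hn _ hn, S.n2_sq, N.one]
  rw [e1] at h5
  have h6 : S.e 2 p u * S.e 2 p u = 1 := by
    calc S.e 2 p u * S.e 2 p u = (S.n2 * S.n2) * (S.e 2 p u * S.e 2 p u) := by rw [S.n2_sq, one_mul]
      _ = S.n2 * (S.n2 * S.e 2 p u) * S.e 2 p u := by group
      _ = S.n2 * (S.e 2 p u * S.n2) * S.e 2 p u := by rw [h4]
      _ = (S.n2 * S.e 2 p u) * (S.n2 * S.e 2 p u) := by group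
      _ = 1 := h5
  rw [e_sq] at h6
  have h7 : p = 0 := by
    rcases mul_eq_zero.1 (S.e_eq_one h6).2 with h | h
    · exact h
    · exact (map_eq_zero σ).1 h
  exact ⟨u, by rw [e1, h7]⟩

end NF

end Cfsg.Agent.OddHalf.D7TwF4.NormF
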