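import Cfsg.Agent.OddHalf.D7TwF4.NormB

/-!
# D7, `K = ²F₄(q)`: the action on `E_4` and modulo `E_4` (helper467)

`N1` : the state after steps A - C. `N2` : `f` is the identity on `S_4`, on `E_4` and modulo `E_4`, and commutes with
the conjugation by `n2`. `N1.toN2`.
-/

set_option autoImplicit false
set_option maxHeartbeats 400000
set_option linter.unusedSectionVars false

namespace Cfsg.Agent.OddHalf.D7TwF4.NormF

open Cfsg.Agent.KFacts.TwF4 Cfsg.Agent.SplitTwo.ZS Cfsg.Agent.OddHalf.D7TwF4.NormE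
open Cfsg.Agent.OddHalf.D7TwF4.NormSuz
open Cfsg.Agent.KFacts.TwF4.Inv Cfsg.Agent.KFacts.TwF4.SylU Cfsg.Agent.KFacts.TwF4.Perf Cfsg.Agent.KFacts.TwF4.Arc

universe u w

variable {F : Type w} [Field F] {σ : F →+* F} {Y : Type u} [Group Y] [Finite F] [Finite Y]

/-- the state after steps A - C -/
structure N1 (S : Full σ Y) (f : Y → Y) : Prop extends NF S f where
  fixS : ∀ s ∈ S.Tk 4, f s = s
  fn2 : ∃ z, f S.n2 = S.n2 * S.e 2 0 z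
  f8 : ∀ q v, f (S.e 4 q v) * (S.e 4 q v)⁻¹ ∈ S.Q

/-- the state after step D -/
structure N2 (S : Full σ Y) (f : Y → Y) : Prop extends NF S f where
  fixS : ∀ s ∈ S.Tk 4, f s = s
  n2c : ∀ y ∈ S.PL, f (S.n2 * y * S.n2⁻¹) = S.n2 * f y * S.n2⁻¹
  fixE : ∀ w ∈ S.Q2, f w = w
  eps : ∀ x ∈ S.PL, ∃ w ∈ S.Q2, f x = x * w

section line

variable {S : Full σ Y} {f : Y → Y} (N : NF S f)

include N

theorem NF.line_one {X : F → Y} (hX : ∀ v, X v ∈ S.PL) (hinj : Function.Injective X) {c : F}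
    (h : ∀ v, f (X v) = X (v * c)) : c = 1 := by
  obtain ⟨k, hk⟩ := N.ord
  have hit : ∀ n : ℕ, ∀ v, f^[n] (X v) = X (v * c ^ n) := by
    intro n
    induction n with
    | zero => intro v; simp
    | succ n ih => intro v; rw [Function.iterate_succ_apply', ih, h, pow_succ, mul_assoc]
  have h1 := hit (2 ^ k) 1
  rw [hk _ (hX 1), one_mul] at h1
  exact pow_two_eq_one S.two k (hinj h1).symm

end line

section gen

variable (S : Full σ Y)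

theorem z_inj (a : ZMod 8) : Function.Injective (S.e a 0) := fun _ _ h => (S.injE a _ _ _ _ h).2

include S in
/-- a torus element moving both weights -/
theorem exists_unit (hF : ∃ c : Fˣ, c ≠ 1) : ∃ s : Fˣ, (s : F)⁻¹ ≠ 1 ∧ ((s : F) * σ s)⁻¹ ≠ 1 := by
  obtain ⟨c, hc⟩ := hF
  refine ⟨c, fun h => hc ?_, fun h => hc ?_⟩
  · rw [inv_eq_one] at h
    exact Units.ext h
  · rw [inv_eq_one] at h
    exact S.unit_eq_one (Units.ext h)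

include S in
theorem exists_s1 (c : Fˣ) : ∃ s : Fˣ, ((s : F) * σ s)⁻¹ = c := by
  obtain ⟨q, hq⟩ := NormSuz.s1_surj S.two S.sq ((c⁻¹ : Fˣ) : F)
  have hq0 : q ≠ 0 := by
    rintro rfl
    rw [zero_mul] at hq
    exact (Units.ne_zero c⁻¹) hq.symm
  refine ⟨Units.mk0 q hq0, ?_⟩
  rw [Units.val_mk0, hq, Units.val_inv_eq_inv_val, inv_inv]

theorem PL1 (t : F) : S.o 0 t ∈ S.PL := mem_J (S.mX1 t) (by norm_num) (by norm_num)
theorem PL2 (p u : F) : S.e 1 p u ∈ S.PL := mem_J (S.mX2 p u) (by norm_num) (by norm_num)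
theorem PL3 (t : F) : S.o 1 t ∈ S.PL := mem_J (S.mX3 t) (by norm_num) (by norm_num)
theorem PL4 (p u : F) : S.e 2 p u ∈ S.PL := mem_J (S.mX4 p u) (by norm_num) (by norm_num)
theorem PL5 (t : F) : S.o 2 t ∈ S.PL := mem_J (S.mX5 t) (by norm_num) (by norm_num)
theorem PL6 (p u : F) : S.e 3 p u ∈ S.PL := mem_J (S.mX6 p u) (by norm_num) (by norm_num)
theorem PL7 (t : F) : S.o 3 t ∈ S.PL := mem_J (S.mX7 t) (by norm_num) (by norm_num)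
theorem PL8 (p u : F) : S.e 4 p u ∈ S.PL := mem_J (S.mX8 p u) (by norm_num) (by norm_num)
theorem mQ7 (t : F) : S.o 3 t ∈ S.Q := mem_J (S.mX7 t) (by norm_num) (by norm_num)

end gen

namespace N1

variable {S : Full σ Y} {f : Y → Y} (N : N1 S f)

include N

theorem fixT (d : Fˣ) : f (sT S d) = sT S d := N.fixS _ (sT_mem S d)

/-- equivariance -/
theorem eqv (d : Fˣ) {y : Y} (hy : y ∈ S.PL) : f (sT S d * y * (sT S d)⁻¹) = sT S d * f y * (sT S d)⁻¹ := by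
  rw [N.conj (sT_PL S d) hy, N.fixT]

theorem n2c {y : Y} (hy : y ∈ S.PL) : f (S.n2 * y * S.n2⁻¹) = S.n2 * f y * S.n2⁻¹ := by
  obtain ⟨z, hz⟩ := N.fn2
  rw [N.conj S.n2_mem hy, hz]
  have h := S.comm_PL (N.mem _ hy) (z := S.e 2 0 z) ⟨z, rfl⟩
  calc S.n2 * S.e 2 0 z * f y * (S.n2 * S.e 2 0 z)⁻¹ = S.n2 * (S.e 2 0 z * f y) * (S.e 2 0 z)⁻¹ * S.n2⁻¹ := by group
    _ = _ := by rw [← h]; group

/-- `Z_4` -/
theorem exists_z (hF : ∃ c : Fˣ, c ≠ 1) (u : F) : ∃ v, f (S.e 2 0 u) = S.e 2 0 v := by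
  obtain ⟨p, rfl⟩ := NormSuz.s1_surj S.two S.sq u
  obtain ⟨p', u', h⟩ := S.X4 (N.memX4 hF N.fixS (S.mX4 p 0))
  refine ⟨p' * σ p', ?_⟩
  rw [← e_sq S 2 p 0, N.mul _ (PL4 S p 0) _ (PL4 S p 0), ← h, e_sq]

/-- `X_6'` -/
theorem fix6 (hF : ∃ c : Fˣ, c ≠ 1) (v : F) : f (S.e 3 0 v) = S.e 3 0 v := by
  have hmem : ∀ v, f (S.e 3 0 v) ∈ S.Q2 := by
    intro v
    have r : S.e 2 1 0 * S.o 3 v = S.o 3 v * S.e 2 1 0 * S.e 3 0 (1 * v) := S.e_o1 2 1 0 v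
    have e1 : S.e 3 0 v = ((S.e 2 1 0)⁻¹ * (S.o 3 v)⁻¹ * S.e 2 1 0) * S.o 3 v := by
      rw [one_mul] at r
      calc S.e 3 0 v = (S.e 2 1 0)⁻¹ * (S.o 3 v)⁻¹ * (S.o 3 v * S.e 2 1 0 * S.e 3 0 v) := by group
        _ = _ := by rw [← r]; group
    have hx := N.memX4 hF N.fixS (S.mX4 1 0)
    have hg := N.mem _ (PL7 S v)
    rw [e1, N.mul _ (mul_mem (mul_mem (inv_mem (PL4 S 1 0)) (inv_mem (PL7 S v))) (PL4 S 1 0)) _ (PL7 S v),
      N.conj' (PL4 S 1 0) (inv_mem (PL7 S v)), N.inv (PL7 S v)]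
    have h1 := comm_Q1 S (inv_mem hg) (Subgroup.mem_sup_left hx)
    have h2 := Q2_conj' S (g := f (S.e 2 1 0)) (N.mem _ (PL4 S 1 0)) h1
    have e2 : (f (S.e 2 1 0))⁻¹ * ((f (S.o 3 v))⁻¹ * f (S.e 2 1 0) * (f (S.o 3 v))⁻¹⁻¹ * (f (S.e 2 1 0))⁻¹) *
        f (S.e 2 1 0) = (f (S.e 2 1 0))⁻¹ * (f (S.o 3 v))⁻¹ * f (S.e 2 1 0) * f (S.o 3 v) := by group
    rwa [e2] at h2
  have hform : ∀ v, ∃ z d, f (S.e 3 0 v) = EE S 0 0 z 0 d := by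
    intro v
    refine mem_of_comm8 S (hmem v) fun q v' => ?_
    have hc : S.e 3 0 v * S.e 4 q v' = S.e 4 q v' * S.e 3 0 v :=
      (S.comm_Z6 (k := 8) (by norm_num) (by norm_num) (S.mX8 q v') v).symm
    have hfc : f (S.e 3 0 v) * f (S.e 4 q v') = f (S.e 4 q v') * f (S.e 3 0 v) := by
      rw [← N.mul _ (PL6 S 0 v) _ (PL8 S q v'), hc, N.mul _ (PL8 S q v') _ (PL6 S 0 v)]
    have hy := N.f8 q v'
    set y := f (S.e 4 q v') * (S.e 4 q v')⁻¹ with hyd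
    have e1 : f (S.e 4 q v') = y * S.e 4 q v' := by rw [hyd]; group
    obtain ⟨z, hz⟩ := Q_Q2_comm S (inv_mem hy) (hmem v)
    refine ⟨z, ?_⟩
    have hz4 := z4_comm S (k := 8) (by norm_num) (by norm_num) (S.mX8 q v') z
    have hz5 : S.e 2 0 z * f (S.e 4 q v') = f (S.e 4 q v') * S.e 2 0 z :=
      (S.comm_PL (N.mem _ (PL8 S q v')) (z := S.e 2 0 z) ⟨z, rfl⟩).symm
    calc f (S.e 3 0 v) * S.e 4 q v' = (f (S.e 3 0 v) * y⁻¹) * f (S.e 4 q v') := by rw [e1]; group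
      _ = y⁻¹ * f (S.e 3 0 v) * (S.e 2 0 z * f (S.e 4 q v')) := by rw [hz]; group
      _ = y⁻¹ * (f (S.e 3 0 v) * f (S.e 4 q v')) * S.e 2 0 z := by rw [hz5]; group
      _ = (y⁻¹ * f (S.e 4 q v')) * f (S.e 3 0 v) * S.e 2 0 z := by rw [hfc]; group
      _ = _ := by rw [e1]; group
  choose ζ δ h using hform
  have hadd : ∀ x y, ζ (x + y) = ζ x + ζ y ∧ δ (x + y) = δ x + δ y := by
    intro x y
    have h1 := N.mul _ (PL6 S 0 x) _ (PL6 S 0 y)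
    rw [ze, h, h, h, EE_mul] at h1
    obtain ⟨-, -, h2, -, h3⟩ := EE_inj S h1
    exact ⟨h2, h3⟩
  have heqv : ∀ (s : Fˣ) x, ζ (((s : F) * σ s)⁻¹ * x) = ζ x ∧ δ (((s : F) * σ s)⁻¹ * x) = ((s : F) * σ s)⁻¹ * δ x := by
    intro s x
    have h1 := N.eqv s (PL6 S 0 x)
    rw [sT_e3, mul_zero, h, h, sT_EE] at h1
    obtain ⟨-, -, h2, -, h3⟩ := EE_inj S h1
    exact ⟨h2, h3⟩
  obtain ⟨s, -, hs⟩ := exists_unit S hF
  have hζ : ∀ x, ζ x = 0 := tt0 S.two (fun x y => (hadd x y).1) hs (fun x => (heqv s x).1)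
  have hδ : ∀ x, δ x = x * δ 1 := scal (fun x y => (hadd x y).2) fun c x => by
    obtain ⟨s, hs⟩ := exists_s1 S c
    have := (heqv s x).2
    rwa [hs] at this
  have h' : ∀ v, f (S.e 3 0 v) = S.e 3 0 (v * δ 1) := by
    intro v
    rw [h, hζ, hδ, ← EE_d]
  have h1 : δ 1 = 1 := N.line_one (fun v => PL6 S 0 v) (z_inj S 3) h'
  rw [h', h1, mul_one]

/-- `X_2'` -/
theorem fix2 (hF : ∃ c : Fˣ, c ≠ 1) (v : F) : f (S.e 1 0 v) = S.e 1 0 v := by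
  have e : S.n2 * S.e 3 0 v * S.n2⁻¹ = S.e 1 0 v := S.n2_e 3 0 v
  rw [← e, N.n2c (PL6 S 0 v), N.fix6 hF]

/-- `X_5` -/
theorem fix5 (hF : ∃ c : Fˣ, c ≠ 1) (v : F) : f (S.o 2 v) = S.o 2 v := by
  have hform : ∀ v, ∃ z, f (S.o 2 v) = EE S 0 0 z v 0 := by
    intro v
    obtain ⟨z', h1⟩ := EE_e4 S 1 0 0 0 0 0 v
    simp only [zero_mul, mul_zero, zero_add, add_zero, one_mul, map_zero] at h1
    have hy := N.f8 0 v
    set y := f (S.e 4 0 v) * (S.e 4 0 v)⁻¹ with hyd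
    have e1 : f (S.e 4 0 v) = y * S.e 4 0 v := by rw [hyd]; group
    obtain ⟨z, hz⟩ := Q_Q2_comm S hy (EE_mem S 1 0 0 0 0)
    have hz4 := z4_comm S (k := 8) (by norm_num) (by norm_num) (S.mX8 0 v) z
    have hfix : f (EE S 1 0 0 0 0) = EE S 1 0 0 0 0 := by rw [← EE_a]; exact N.fix2 hF 1
    have hP : ∀ a b z c d, EE S a b z c d ∈ S.PL := fun a b z c d => Q2_le_PL S (EE_mem S a b z c d)
    have h2 : f (EE S 1 0 0 0 0 * S.e 4 0 v) = f (S.e 4 0 v * EE S 1 0 z' v (σ v)) := by rw [h1]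
    rw [N.mul _ (hP _ _ _ _ _) _ (PL8 S 0 v), N.mul _ (PL8 S 0 v) _ (hP _ _ _ _ _), hfix, e1] at h2
    have h3 : f (EE S 1 0 z' v (σ v)) = EE S 1 0 z' v (σ v) * S.e 2 0 z := by
      have h4 : y * S.e 4 0 v * f (EE S 1 0 z' v (σ v)) = y * S.e 4 0 v * (EE S 1 0 z' v (σ v) * S.e 2 0 z) := by
        rw [← h2]
        calc EE S 1 0 0 0 0 * (y * S.e 4 0 v) = (EE S 1 0 0 0 0 * y) * S.e 4 0 v := by group
          _ = y * EE S 1 0 0 0 0 * (S.e 2 0 z * S.e 4 0 v) := by rw [hz]; group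
          _ = y * (EE S 1 0 0 0 0 * S.e 4 0 v) * S.e 2 0 z := by rw [hz4]; group
          _ = _ := by rw [h1]; group
      exact mul_left_cancel h4
    have h5 : EE S 1 0 z' v (σ v) = EE S 1 0 0 0 0 * (EE S 0 0 z' 0 0 * (S.o 2 v * EE S 0 0 0 0 (σ v))) := by
      rw [EE_c]; simp only [EE_mul, add_zero, zero_add]
    obtain ⟨z2, hz2⟩ := N.exists_z hF z'
    have hf3 : f (EE S 0 0 z' 0 0) = EE S 0 0 z2 0 0 := by rw [← EE_z, hz2, ← EE_z]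
    have hf4 : f (EE S 0 0 0 0 (σ v)) = EE S 0 0 0 0 (σ v) := by rw [← EE_d]; exact N.fix6 hF _
    have h6 : f (EE S 1 0 z' v (σ v)) = EE S 1 0 0 0 0 * (EE S 0 0 z2 0 0 * (f (S.o 2 v) * EE S 0 0 0 0 (σ v))) := by
      rw [h5, N.mul _ (hP _ _ _ _ _) _ (mul_mem (hP _ _ _ _ _) (mul_mem (PL5 S v) (hP _ _ _ _ _))),
        N.mul _ (hP _ _ _ _ _) _ (mul_mem (PL5 S v) (hP _ _ _ _ _)), N.mul _ (PL5 S v) _ (hP _ _ _ _ _), hfix, hf3, hf4]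
    rw [h6, EE_z, EE_mul] at h3
    have h7 : f (S.o 2 v) = (EE S 0 0 z2 0 0)⁻¹ * ((EE S 1 0 0 0 0)⁻¹ *
        EE S (1 + 0) (0 + 0) (z' + z) (v + 0) (σ v + 0)) * (EE S 0 0 0 0 (σ v))⁻¹ := by
      rw [← h3]; group
    refine ⟨z2 + (z' + z), ?_⟩
    rw [h7]
    simp only [EE_inv, EE_mul, add_zero, zero_add, NormE.char2 S]
  choose β h using hform
  have hadd : ∀ x y, β (x + y) = β x + β y := by
    intro x y
    have h1 := N.mul _ (PL5 S x) _ (PL5 S y)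
    rw [S.o_add, h, h, h, EE_mul] at h1
    exact (EE_inj S h1).2.2.1
  have heqv : ∀ (s : Fˣ) x, β ((s : F)⁻¹ * x) = β x := by
    intro s x
    have h1 := N.eqv s (PL5 S x)
    rw [sT_o2, h, h, sT_EE] at h1
    exact (EE_inj S h1).2.2.1
  obtain ⟨s, hs, -⟩ := exists_unit S hF
  rw [h, tt0 S.two hadd hs (heqv s), ← EE_c]

/-- `X_3` -/
theorem fix3 (hF : ∃ c : Fˣ, c ≠ 1) (v : F) : f (S.o 1 v) = S.o 1 v := by
  have e : S.n2 * S.o 2 v * S.n2⁻¹ = S.o 1 v := S.n2_o 2 v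
  rw [← e, N.n2c (PL5 S v), N.fix5 hF]

/-- `Z_4` -/
theorem fix4 (hF : ∃ c : Fˣ, c ≠ 1) (v : F) : f (S.e 2 0 v) = S.e 2 0 v := by
  obtain ⟨t, p, r, s, hact⟩ := exists_act S (N.memQ hF (mQ7 S 1))
  have hP : ∀ a b z c d, EE S a b z c d ∈ S.PL := fun a b z c d => Q2_le_PL S (EE_mem S a b z c d)
  have h1 : ∀ u, f (S.e 2 0 u) = S.e 2 0 (u * s) := by
    intro u
    have h2 := act_o3 S 1 u 0 0 0 0
    have h3 := hact u 0 0 0 0
    have h4 : f (EE S u 0 0 0 0 * S.o 3 1) = f (S.o 3 1 * EE S u 0 (0 + 0 * 0 + 0 * 0 + 0 * 0 + 1 * u) 0 0) := by rw [h2]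
    have hfix : f (EE S u 0 0 0 0) = EE S u 0 0 0 0 := by rw [← EE_a]; exact N.fix2 hF u
    rw [N.mul _ (hP _ _ _ _ _) _ (PL7 S 1), N.mul _ (PL7 S 1) _ (hP _ _ _ _ _), hfix, h3] at h4
    have h5 := mul_left_cancel h4
    have h6 : EE S u 0 (0 + 0 * 0 + 0 * 0 + 0 * 0 + 1 * u) 0 0 = EE S u 0 0 0 0 * S.e 2 0 u := by
      rw [EE_z, EE_mul]; congr 1 <;> ring
    rw [h6, N.mul _ (hP _ _ _ _ _) _ (PL4 S 0 u), hfix] at h5
    have h7 : EE S u 0 (0 + t * 0 + p * 0 + r * 0 + s * u) 0 0 = EE S u 0 0 0 0 * S.e 2 0 (u * s) := by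
      rw [EE_z, EE_mul]; congr 1 <;> ring
    rw [h7] at h5
    exact (mul_left_cancel h5).symm
  have hs : s = 1 := N.line_one (fun v => PL4 S 0 v) (z_inj S 2) h1
  rw [h1, hs, mul_one]

theorem fixE (hF : ∃ c : Fˣ, c ≠ 1) {w : Y} (hw : w ∈ S.Q2) : f w = w := by
  obtain ⟨a, b, z, c, d, rfl⟩ := mem_Q2 S hw
  have m1 := PL2 S 0 a
  have m2 := mul_mem m1 (PL3 S b)
  have m3 := mul_mem m2 (PL4 S 0 z)
  have m4 := mul_mem m3 (PL5 S c)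
  unfold EE
  rw [N.mul _ m4 _ (PL6 S 0 d), N.mul _ m3 _ (PL5 S c), N.mul _ m2 _ (PL4 S 0 z), N.mul _ m1 _ (PL3 S b),
    N.fix2 hF, N.fix3 hF, N.fix4 hF, N.fix5 hF, N.fix6 hF]

/-- modulo `Q1` -/
theorem mod1 (hF : ∃ c : Fˣ, c ≠ 1) {x : Y} (hx : x ∈ S.PL) : x⁻¹ * f x ∈ S.Q1 := by
  rw [← S.centralizer_Q2, Subgroup.mem_centralizer_iff]
  intro w hw
  have h1 := N.fixE hF (Q2_conj S hx hw)
  rw [N.conj hx (Q2_le_PL S hw), N.fixE hF hw] at h1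
  calc w * (x⁻¹ * f x) = x⁻¹ * (x * w * x⁻¹) * f x := by group
    _ = x⁻¹ * (f x * w * (f x)⁻¹) * f x := by rw [h1]
    _ = _ := by group

/-- modulo `E_4` -/
theorem mod2 (hF : ∃ c : Fˣ, c ≠ 1) {x : Y} (hx : x ∈ S.PL) : f x * x⁻¹ ∈ S.Q2 := by
  let K : Subgroup Y :=
    { carrier := {x | x ∈ S.PL ∧ f x * x⁻¹ ∈ S.Q2}
      one_mem' := ⟨one_mem _, by rw [N.one]; simp⟩
      mul_mem' := by
        rintro x y ⟨hx, h⟩ ⟨hy, h'⟩
        refine ⟨mul_mem hx hy, ?_⟩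
        have e : f (x * y) * (x * y)⁻¹ = (f x * (f y * y⁻¹) * (f x)⁻¹) * (f x * x⁻¹) := by
          rw [N.mul _ hx _ hy]; group
        rw [e]
        exact mul_mem (Q2_conj S (N.mem _ hx) h') h
      inv_mem' := by
        rintro x ⟨hx, h⟩
        refine ⟨inv_mem hx, ?_⟩
        have e : f x⁻¹ * x⁻¹⁻¹ = (f x)⁻¹ * (f x * x⁻¹)⁻¹ * f x := by
          rw [N.inv hx]; group
        rw [e]
        exact Q2_conj' S (N.mem _ hx) (inv_mem h) }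
  have hK : S.PL ≤ K := by
    rw [← PL_perfect S hF, Subgroup.commutator_le]
    intro x hx y hy
    have hxy : x * y * x⁻¹ * y⁻¹ ∈ S.PL := mul_mem (mul_mem (mul_mem hx hy) (inv_mem hx)) (inv_mem hy)
    refine ⟨hxy, ?_⟩
    have ha := N.mod1 hF hx
    have hb := N.mod1 hF hy
    set a := x⁻¹ * f x with had
    set b := y⁻¹ * f y with hbd
    have ex : f x = x * a := by rw [had]; group
    have ey : f y = y * b := by rw [hbd]; group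
    have hyb : y * b ∈ S.PL := mul_mem hy (Q1_le_PL S hb)
    have c1 : a * (y * b) * a⁻¹ * (y * b)⁻¹ ∈ S.Q2 := by
      have := inv_mem (comm_Q1 S hyb ha)
      have e : (y * b * a * (y * b)⁻¹ * a⁻¹)⁻¹ = a * (y * b) * a⁻¹ * (y * b)⁻¹ := by group
      rwa [e] at this
    have c2 : b * x⁻¹ * b⁻¹ * x ∈ S.Q2 := by
      have := inv_mem (comm_Q1 S (inv_mem hx) hb)
      have e : (x⁻¹ * b * x⁻¹⁻¹ * b⁻¹)⁻¹ = b * x⁻¹ * b⁻¹ * x := by group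
      rwa [e] at this
    show f (x * y * x⁻¹ * y⁻¹) * (x * y * x⁻¹ * y⁻¹)⁻¹ ∈ S.Q2
    have e : f (x * y * x⁻¹ * y⁻¹) * (x * y * x⁻¹ * y⁻¹)⁻¹ =
        (x * (a * (y * b) * a⁻¹ * (y * b)⁻¹) * x⁻¹) * ((x * y) * (b * x⁻¹ * b⁻¹ * x) * (x * y)⁻¹) := by
      rw [N.mul _ (mul_mem (mul_mem hx hy) (inv_mem hx)) _ (inv_mem hy), N.conj hx hy, N.inv hy, ex, ey]
      group
    rw [e]
    exact mul_mem (Q2_conj S hx c1) (Q2_conj S (mul_mem hx hy) c2)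
  exact (hK hx).2

/-- **Step D** -/
theorem toN2 (hF : ∃ c : Fˣ, c ≠ 1) : N2 S f where
  toNF := N.toNF
  fixS := N.fixS
  n2c := fun y hy => N.n2c hy
  fixE := fun w hw => N.fixE hF hw
  eps := fun x hx => ⟨x⁻¹ * (f x * x⁻¹) * x, Q2_conj' S hx (N.mod2 hF hx), by group⟩

end N1

end Cfsg.Agent.OddHalf.D7TwF4.NormF
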