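import Cfsg.Agent.KFacts.TwF4.TorFix
import Cfsg.Agent.KFacts.TwF4.Perf

/-!
# D7, `K = ²F₄(q)`: coordinates on `E_4 = Z_2 X_3 Z_4 X_5 Z_6` (helper467)

* `EE a b z c d` : the coordinates; `mem_Q2`;
* `Act x t p r s` : the action of `x ∈ Q` on `E_4`; `exists_act`;
* `EE_e4` : the action of `X_8`;
* `comm_Q1` : `[PL, Q1] ≤ E_4`;
* `sT d` : the torus of the Levi complement.
-/

set_option autoImplicit false
set_option maxHeartbeats 400000

namespace Cfsg.Agent.OddHalf.D7TwF4.NormE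

open Cfsg.Agent.KFacts.TwF4 Cfsg.Agent.SplitTwo.ZS

universe u w

variable {F : Type w} [Field F] {σ : F →+* F} {Y : Type u} [Group Y] (S : Full σ Y)

include S in
theorem char2 (x : F) : x + x = 0 := by
  rw [← two_mul, S.two, zero_mul]

theorem ze (a : ZMod 8) (u v : F) : S.e a 0 u * S.e a 0 v = S.e a 0 (u + v) := by
  rw [S.e_mul, add_zero, zero_mul, add_zero]

theorem zi (a : ZMod 8) (u : F) : (S.e a 0 u)⁻¹ = S.e a 0 u := by
  rw [inv_eq_iff_mul_eq_one, ze, char2 S, S.e_zero]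

theorem oi (a : ZMod 8) (u : F) : (S.o a u)⁻¹ = S.o a u := by
  rw [inv_eq_iff_mul_eq_one, S.o_add, char2 S, S.o_zero]

theorem e_split (a : ZMod 8) (p u : F) : S.e a p u = S.e a p 0 * S.e a 0 u := by
  rw [S.e_mul, add_zero, zero_add, map_zero, mul_zero, add_zero]

/-- coordinates on `E_4` -/
def EE (a b z c d : F) : Y := S.e 1 0 a * S.o 1 b * S.e 2 0 z * S.o 2 c * S.e 3 0 d

theorem Q2_comm {x y : Y} (hx : x ∈ S.Q2) (hy : y ∈ S.Q2) : x * y = y * x :=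
  S.Q1_comm (Subgroup.mem_sup_right hx) hy

theorem EE_mem (a b z c d : F) : EE S a b z c d ∈ S.Q2 :=
  mul_mem (mul_mem (mul_mem (mul_mem (S.q2_1 a) (S.q2_2 b)) (S.q2_3 z)) (S.q2_4 c)) (S.q2_5 d)

theorem EE_mul (a b z c d a' b' z' c' d' : F) :
    EE S a b z c d * EE S a' b' z' c' d' = EE S (a + a') (b + b') (z + z') (c + c') (d + d') := by
  unfold EE
  have C : ∀ x y, x ∈ S.Q2 → y ∈ S.Q2 → Commute x y := fun x y hx hy => Q2_comm S hx hy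
  have m2 := mul_mem (S.q2_1 a') (S.q2_2 b')
  have m3 := mul_mem m2 (S.q2_3 z')
  have m4 := mul_mem m3 (S.q2_4 c')
  rw [(C _ _ (S.q2_5 d) m4).mul_mul_mul_comm, (C _ _ (S.q2_4 c) m3).mul_mul_mul_comm,
    (C _ _ (S.q2_3 z) m2).mul_mul_mul_comm, (C _ _ (S.q2_2 b) (S.q2_1 a')).mul_mul_mul_comm, ze, ze, ze, S.o_add,
    S.o_add]

theorem EE_a (a : F) : S.e 1 0 a = EE S a 0 0 0 0 := by
  unfold EE; simp only [S.o_zero, S.e_zero, mul_one]
theorem EE_b (b : F) : S.o 1 b = EE S 0 b 0 0 0 := by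
  unfold EE; simp only [S.o_zero, S.e_zero, mul_one, one_mul]
theorem EE_z (z : F) : S.e 2 0 z = EE S 0 0 z 0 0 := by
  unfold EE; simp only [S.o_zero, S.e_zero, mul_one, one_mul]
theorem EE_c (c : F) : S.o 2 c = EE S 0 0 0 c 0 := by
  unfold EE; simp only [S.o_zero, S.e_zero, mul_one, one_mul]
theorem EE_d (d : F) : S.e 3 0 d = EE S 0 0 0 0 d := by
  unfold EE; simp only [S.o_zero, S.e_zero, one_mul]

theorem EE_zero : EE S 0 0 0 0 0 = 1 := by rw [← EE_a, S.e_zero]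

theorem EE_inv (a b z c d : F) : (EE S a b z c d)⁻¹ = EE S a b z c d := by
  rw [inv_eq_iff_mul_eq_one, EE_mul]
  simp only [char2 S]
  exact EE_zero S

theorem EE_split (a b z c d : F) : EE S a b z c d =
    EE S a 0 0 0 0 * (EE S 0 b 0 0 0 * (EE S 0 0 z 0 0 * (EE S 0 0 0 c 0 * EE S 0 0 0 0 d))) := by
  simp only [EE_mul, add_zero, zero_add]

theorem EE_one {a b z c d : F} (h : EE S a b z c d = 1) : a = 0 ∧ b = 0 ∧ z = 0 ∧ c = 0 ∧ d = 0 := by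
  have Z8 := S.zsys8
  unfold EE at h
  have m3 : ∀ a' b', (3 : ℤ) ≥ a' → 3 ≤ b' → S.o 1 b ∈ J S.XZ a' b' := fun a' b' h1 h2 => mem_J (S.mX3 b) h1 h2
  have m4 : ∀ a' b', (4 : ℤ) ≥ a' → 4 ≤ b' → S.e 2 0 z ∈ J S.XZ a' b' := fun a' b' h1 h2 => mem_J (S.mX4 0 z) h1 h2
  have m5 : ∀ a' b', (5 : ℤ) ≥ a' → 5 ≤ b' → S.o 2 c ∈ J S.XZ a' b' := fun a' b' h1 h2 => mem_J (S.mX5 c) h1 h2
  have m6 : ∀ a' b', (6 : ℤ) ≥ a' → 6 ≤ b' → S.e 3 0 d ∈ J S.XZ a' b' := fun a' b' h1 h2 => mem_J (S.mX6 0 d) h1 h2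
  have h2 : S.e 1 0 a = 1 := by
    refine Z8.inter 2 _ (S.mX2 0 a) ?_
    have e : S.e 1 0 a = (S.o 1 b * S.e 2 0 z * S.o 2 c * S.e 3 0 d)⁻¹ := by
      rw [eq_inv_iff_mul_eq_one, ← h]; group
    rw [e]
    exact inv_mem (mul_mem (mul_mem (mul_mem (m3 _ _ (by norm_num) (by norm_num)) (m4 _ _ (by norm_num) (by norm_num)))
      (m5 _ _ (by norm_num) (by norm_num))) (m6 _ _ (by norm_num) (by norm_num)))
  rw [h2, one_mul] at h
  have h3 : S.o 1 b = 1 := by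
    refine Z8.inter 3 _ (S.mX3 b) ?_
    have e : S.o 1 b = (S.e 2 0 z * S.o 2 c * S.e 3 0 d)⁻¹ := by
      rw [eq_inv_iff_mul_eq_one, ← h]; group
    rw [e]
    exact inv_mem (mul_mem (mul_mem (m4 _ _ (by norm_num) (by norm_num))
      (m5 _ _ (by norm_num) (by norm_num))) (m6 _ _ (by norm_num) (by norm_num)))
  rw [h3, one_mul] at h
  have h4 : S.e 2 0 z = 1 := by
    refine Z8.inter 4 _ (S.mX4 0 z) ?_
    have e : S.e 2 0 z = (S.o 2 c * S.e 3 0 d)⁻¹ := by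
      rw [eq_inv_iff_mul_eq_one, ← h]; group
    rw [e]
    exact inv_mem (mul_mem (m5 _ _ (by norm_num) (by norm_num)) (m6 _ _ (by norm_num) (by norm_num)))
  rw [h4, one_mul] at h
  have h5 : S.o 2 c = 1 := by
    refine Z8.inter 5 _ (S.mX5 c) ?_
    rw [mul_eq_one_iff_eq_inv.1 h]
    exact inv_mem (m6 _ _ (by norm_num) (by norm_num))
  rw [h5, one_mul] at h
  exact ⟨(S.e_eq_one h2).2, S.o_eq_one h3, (S.e_eq_one h4).2, S.o_eq_one h5, (S.e_eq_one h).2⟩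

theorem EE_inj {a b z c d a' b' z' c' d' : F} (h : EE S a b z c d = EE S a' b' z' c' d') :
    a = a' ∧ b = b' ∧ z = z' ∧ c = c' ∧ d = d' := by
  have h1 : EE S (a + a') (b + b') (z + z') (c + c') (d + d') = 1 := by
    rw [← EE_mul, h, EE_mul]
    simp only [char2 S]
    exact EE_zero S
  have key : ∀ x y : F, x + y = 0 → x = y := by
    intro x y hxy
    calc x = x + (y + y) := by rw [char2 S, add_zero]
      _ = y := by rw [← add_assoc, hxy, zero_add]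
  obtain ⟨h2, h3, h4, h5, h6⟩ := EE_one S h1
  exact ⟨key _ _ h2, key _ _ h3, key _ _ h4, key _ _ h5, key _ _ h6⟩

theorem mem_Q2 {x : Y} (hx : x ∈ S.Q2) : ∃ a b z c d, x = EE S a b z c d := by
  let K : Subgroup Y :=
    { carrier := {x | ∃ a b z c d, x = EE S a b z c d}
      one_mem' := ⟨0, 0, 0, 0, 0, (EE_zero S).symm⟩
      mul_mem' := by
        rintro _ _ ⟨a, b, z, c, d, rfl⟩ ⟨a', b', z', c', d', rfl⟩
        exact ⟨_, _, _, _, _, EE_mul S _ _ _ _ _ _ _ _ _ _⟩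
      inv_mem' := by
        rintro _ ⟨a, b, z, c, d, rfl⟩
        exact ⟨_, _, _, _, _, EE_inv S _ _ _ _ _⟩ }
  have : S.Q2 ≤ K := S.Q2_le (fun u => ⟨_, _, _, _, _, EE_a S u⟩) (fun u => ⟨_, _, _, _, _, EE_b S u⟩)
    (fun u => ⟨_, _, _, _, _, EE_z S u⟩) (fun u => ⟨_, _, _, _, _, EE_c S u⟩) (fun u => ⟨_, _, _, _, _, EE_d S u⟩)
  exact this hx

/-! ### the action of `Q` -/

/-- the action of `x` on `E_4` -/
def Act (x : Y) (t p r s : F) : Prop :=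
  ∀ a b z c d, EE S a b z c d * x = x * EE S a b (z + t * d + p * c + r * b + s * a) c d

variable {S} in
theorem Act.mul {x y : Y} {t p r s t' p' r' s' : F} (hx : Act S x t p r s) (hy : Act S y t' p' r' s') :
    Act S (x * y) (t + t') (p + p') (r + r') (s + s') := by
  intro a b z c d
  rw [← mul_assoc, hx, mul_assoc, hy, ← mul_assoc]
  congr 2
  ring

theorem act_one : Act S 1 0 0 0 0 := by
  intro a b z c d
  rw [mul_one, one_mul]
  congr 1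
  ring

variable {S} in
theorem Act.congr {x : Y} {t p r s t' p' r' s' : F} (hx : Act S x t p r s) (h1 : t = t') (h2 : p = p') (h3 : r = r')
    (h4 : s = s') : Act S x t' p' r' s' := by
  rw [← h1, ← h2, ← h3, ← h4]; exact hx

variable {S} in
theorem Act.inv {x : Y} {t p r s : F} (hx : Act S x t p r s) : Act S x⁻¹ t p r s := by
  intro a b z c d
  have h := hx a b (z + t * d + p * c + r * b + s * a) c d
  have e : z + t * d + p * c + r * b + s * a + t * d + p * c + r * b + s * a = z := by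
    have h1 := char2 S (t * d)
    have h2 := char2 S (p * c)
    have h3 := char2 S (r * b)
    have h4 := char2 S (s * a)
    linear_combination h1 + h2 + h3 + h4
  rw [e] at h
  rw [mul_inv_eq_iff_eq_mul, mul_assoc, h, inv_mul_cancel_left]

theorem act_of {x : Y} {t p r s : F} (h1 : ∀ a, EE S a 0 0 0 0 * x = x * EE S a 0 (s * a) 0 0)
    (h2 : ∀ b, EE S 0 b 0 0 0 * x = x * EE S 0 b (r * b) 0 0)
    (h3 : ∀ z, EE S 0 0 z 0 0 * x = x * EE S 0 0 z 0 0)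
    (h4 : ∀ c, EE S 0 0 0 c 0 * x = x * EE S 0 0 (p * c) c 0)
    (h5 : ∀ d, EE S 0 0 0 0 d * x = x * EE S 0 0 (t * d) 0 d) : Act S x t p r s := by
  intro a b z c d
  rw [EE_split, mul_assoc, mul_assoc, mul_assoc, mul_assoc, h5, ← mul_assoc (EE S 0 0 0 c 0), h4,
    ← mul_assoc (EE S 0 0 z 0 0), ← mul_assoc (EE S 0 0 z 0 0), h3, ← mul_assoc (EE S 0 b 0 0 0),
    ← mul_assoc (EE S 0 b 0 0 0), ← mul_assoc (EE S 0 b 0 0 0), h2, ← mul_assoc (EE S a 0 0 0 0),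
    ← mul_assoc (EE S a 0 0 0 0), ← mul_assoc (EE S a 0 0 0 0), ← mul_assoc (EE S a 0 0 0 0), h1]
  simp only [mul_assoc, EE_mul, add_zero, zero_add]
  congr 2
  ring

theorem act_of_comm {x : Y} (h1 : ∀ a, S.e 1 0 a * x = x * S.e 1 0 a)
    (h2 : ∀ b, S.o 1 b * x = x * S.o 1 b) (h3 : ∀ z, S.e 2 0 z * x = x * S.e 2 0 z)
    (h4 : ∀ c, S.o 2 c * x = x * S.o 2 c) (h5 : ∀ d, S.e 3 0 d * x = x * S.e 3 0 d) : Act S x 0 0 0 0 := by
  refine act_of S (fun a => ?_) (fun b => ?_) (fun z => ?_) (fun c => ?_) (fun d => ?_)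
  · rw [zero_mul, ← EE_a, h1]
  · rw [zero_mul, ← EE_b, h2]
  · rw [← EE_z, h3]
  · rw [zero_mul, ← EE_c, h4]
  · rw [zero_mul, ← EE_d, h5]

theorem act_Q1 {x : Y} (hx : x ∈ S.Q1) : Act S x 0 0 0 0 :=
  act_of_comm S (fun a => (S.Q1_comm hx (S.q2_1 a)).symm) (fun a => (S.Q1_comm hx (S.q2_2 a)).symm)
    (fun a => (S.Q1_comm hx (S.q2_3 a)).symm) (fun a => (S.Q1_comm hx (S.q2_4 a)).symm)
    (fun a => (S.Q1_comm hx (S.q2_5 a)).symm)

theorem act_EE (a b z c d : F) : Act S (EE S a b z c d) 0 0 0 0 := act_Q1 S (Subgroup.mem_sup_right (EE_mem S a b z c d))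

theorem act_o1 (t : F) : Act S (S.o 1 t) 0 0 0 0 := by rw [EE_b]; exact act_EE S _ _ _ _ _
theorem act_o2 (t : F) : Act S (S.o 2 t) 0 0 0 0 := by rw [EE_c]; exact act_EE S _ _ _ _ _
theorem act_e2 (p u : F) : Act S (S.e 2 p u) 0 0 0 0 := act_Q1 S (Subgroup.mem_sup_left (S.mX4 p u))

theorem z4_comm {k : ℤ} (h1 : 0 ≤ k) (h2 : k ≤ 8) {x : Y} (hx : x ∈ S.XZ k) (v : F) :
    S.e 2 0 v * x = x * S.e 2 0 v := (S.comm_Z4 h1 h2 hx v).symm

/-- `X_1` -/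
theorem act_o0 (t : F) : Act S (S.o 0 t) t 0 0 0 := by
  refine act_of S (fun a => ?_) (fun b => ?_) (fun z => ?_) (fun c => ?_) (fun d => ?_)
  · rw [zero_mul, ← EE_a]; exact (S.o_e1 0 t 0 a).symm
  · rw [zero_mul, ← EE_b]; exact (S.o_o1 0 t b).symm
  · rw [← EE_z]; exact z4_comm S (k := 1) (by norm_num) (by norm_num) (S.mX1 t) z
  · rw [zero_mul, ← EE_c]; exact (S.o_o2 0 t c).symm
  · have r1 : S.o 0 t * S.e 3 0 d = S.e 3 0 d * S.o 0 t * S.e 1 0 (σ t * 0) * S.o 1 (t * σ 0) *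
      S.e 2 0 (t * 0 * σ 0 + t * d) := S.o_e3 0 t 0 d
    rw [map_zero, mul_zero, mul_zero, mul_zero, zero_add, S.o_zero, S.e_zero, mul_one, mul_one] at r1
    have e : S.e 3 0 d * S.o 0 t = S.o 0 t * S.e 3 0 d * S.e 2 0 (t * d) := by
      rw [r1, mul_assoc, ze, char2 S, S.e_zero, mul_one]
    rw [← EE_d, e, mul_assoc]
    congr 1
    rw [EE_d, EE_z, EE_mul]
    simp only [add_zero, zero_add]

/-- `X_2` -/
theorem act_e1 (p u : F) : Act S (S.e 1 p u) 0 p 0 0 := by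
  refine act_of S (fun a => ?_) (fun b => ?_) (fun z => ?_) (fun c => ?_) (fun d => ?_)
  · rw [zero_mul, ← EE_a, S.e_mul, S.e_mul, map_zero]
    congr 1 <;> ring
  · rw [zero_mul, ← EE_b]; exact (S.e_o0 1 p u b).symm
  · rw [← EE_z]; exact z4_comm S (k := 2) (by norm_num) (by norm_num) (S.mX2 p u) z
  · have r1 : S.e 1 p u * S.o 2 c = S.o 2 c * S.e 1 p u * S.e 2 0 (p * c) := S.e_o1 1 p u c
    have e : S.o 2 c * S.e 1 p u = S.e 1 p u * S.o 2 c * S.e 2 0 (p * c) := by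
      rw [r1, mul_assoc, ze, char2 S, S.e_zero, mul_one]
    rw [← EE_c, e, mul_assoc]
    congr 1
    rw [EE_c, EE_z, EE_mul]
    simp only [add_zero, zero_add]
  · rw [zero_mul, ← EE_d]; exact (S.e_e2 1 p u 0 d).symm

/-- `X_6` -/
theorem act_e3 (p u : F) : Act S (S.e 3 p u) 0 0 p 0 := by
  refine act_of S (fun a => ?_) (fun b => ?_) (fun z => ?_) (fun c => ?_) (fun d => ?_)
  · rw [zero_mul, ← EE_a]; exact S.e_e2 1 0 a p u
  · have r1 : S.o 1 b * S.e 3 p u = S.e 3 p u * S.o 1 b * S.e 2 0 (b * p) := S.o_e2 1 b p u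
    rw [← EE_b, r1, mul_assoc]
    congr 1
    rw [EE_b, EE_z, EE_mul]
    simp only [add_zero, zero_add]
    rw [mul_comm]
  · rw [← EE_z]; exact z4_comm S (k := 6) (by norm_num) (by norm_num) (S.mX6 p u) z
  · rw [zero_mul, ← EE_c]; exact S.o_e1 2 c p u
  · rw [zero_mul, ← EE_d, S.e_mul, S.e_mul, map_zero]
    congr 1 <;> ring

/-- `X_7` -/
theorem act_o3 (s : F) : Act S (S.o 3 s) 0 0 0 s := by
  refine act_of S (fun a => ?_) (fun b => ?_) (fun z => ?_) (fun c => ?_) (fun d => ?_)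
  · have : S.e 1 0 a * S.o 3 s = S.o 3 s * S.e 1 0 a * S.e 2 0 (0 * σ 0 * s + a * s) * S.o 2 (σ 0 * s) * S.e 3 0 (0 * σ s) :=
        S.e_o2 1 0 a s
    rw [map_zero, zero_mul, zero_mul, zero_mul, zero_add, S.o_zero, S.e_zero, mul_one, mul_one] at this
    rw [← EE_a, this, mul_assoc]
    congr 1
    rw [EE_a, EE_z, EE_mul]
    simp only [add_zero, zero_add]
    rw [mul_comm]
  · rw [zero_mul, ← EE_b]; exact S.o_o2 1 b s
  · rw [← EE_z]; exact z4_comm S (k := 7) (by norm_num) (by norm_num) (S.mX7 s) z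
  · rw [zero_mul, ← EE_c]; exact S.o_o1 2 c s
  · rw [zero_mul, ← EE_d]; exact (S.comm_Z6 (k := 7) (by norm_num) (by norm_num) (S.mX7 s) d).symm

/-- every element of `Q` acts -/
theorem exists_act {x : Y} (hx : x ∈ S.Q) : ∃ t p r s, Act S x t p r s := by
  let K : Subgroup Y :=
    { carrier := {x | ∃ t p r s, Act S x t p r s}
      one_mem' := ⟨0, 0, 0, 0, act_one S⟩
      mul_mem' := by
        rintro _ _ ⟨a, b, z, c, h⟩ ⟨a', b', z', c', h'⟩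
        exact ⟨_, _, _, _, h.mul h'⟩
      inv_mem' := by
        rintro _ ⟨a, b, z, c, h⟩
        exact ⟨_, _, _, _, h.inv⟩ }
  have : S.Q ≤ K := by
    refine J_le fun k h1 h2 x hx => ?_
    interval_cases k
    · obtain ⟨t, rfl⟩ := S.X1 hx; exact ⟨_, _, _, _, act_o0 S t⟩
    · obtain ⟨p, t, rfl⟩ := S.X2 hx; exact ⟨_, _, _, _, act_e1 S p t⟩
    · obtain ⟨t, rfl⟩ := S.X3 hx; exact ⟨_, _, _, _, act_o1 S t⟩
    · obtain ⟨p, t, rfl⟩ := S.X4 hx; exact ⟨_, _, _, _, act_e2 S p t⟩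
    · obtain ⟨t, rfl⟩ := S.X5 hx; exact ⟨_, _, _, _, act_o2 S t⟩
    · obtain ⟨p, t, rfl⟩ := S.X6 hx; exact ⟨_, _, _, _, act_e3 S p t⟩
    · obtain ⟨t, rfl⟩ := S.X7 hx; exact ⟨_, _, _, _, act_o3 S t⟩
  exact this hx

/-- `[Q, E_4] ≤ Z_4` -/
theorem Q_Q2_comm {x w : Y} (hx : x ∈ S.Q) (hw : w ∈ S.Q2) : ∃ z, w * x = x * w * S.e 2 0 z := by
  obtain ⟨t, p, r, s, h⟩ := exists_act S hx
  obtain ⟨a, b, z, c, d, rfl⟩ := mem_Q2 S hw
  refine ⟨t * d + p * c + r * b + s * a, ?_⟩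
  rw [h, mul_assoc, EE_z, EE_mul]
  simp only [add_zero]
  congr 2
  ring

/-- the action of `X_8` on `E_4` -/
theorem EE_e4 (a b z c d q v : F) : ∃ z', EE S a b z c d * S.e 4 q v =
    S.e 4 q v * EE S a (b + a * q) z' (c + a * v + b * σ q)
      (d + (a * q * v + a * q * q * σ q + a * σ v) + (b * q * σ q + b * v) + c * q) := by
  have h1 : EE S a 0 0 0 0 * S.e 4 q v = S.e 4 q v * EE S a (a * q) (σ a * q * σ q + σ a * v) (a * v)
      (a * q * v + a * q * q * σ q + a * σ v) := by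
    have := S.e_e3 1 0 a q v
    rw [show ((1 : ZMod 8) + 3) = 4 from rfl, show ((1 : ZMod 8) + 1) = 2 from rfl,
      show ((1 : ZMod 8) + 2) = 3 from rfl] at this
    simp only [map_zero, zero_mul, mul_zero, zero_add, S.o_zero, mul_one] at this
    rw [← EE_a, this, EE]
    simp only [mul_assoc]
  have h2 : EE S 0 b 0 0 0 * S.e 4 q v = S.e 4 q v * EE S 0 b (σ b * q) (b * σ q) (b * q * σ q + b * v) := by
    have := S.o_e3 1 b q v
    rw [show ((1 : ZMod 8) + 3) = 4 from rfl, show ((1 : ZMod 8) + 1) = 2 from rfl,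
      show ((1 : ZMod 8) + 2) = 3 from rfl] at this
    rw [← EE_b, this, EE, S.e_zero, one_mul]
    simp only [mul_assoc]
  have h3 : EE S 0 0 z 0 0 * S.e 4 q v = S.e 4 q v * EE S 0 0 z 0 0 := by
    rw [← EE_z]; exact z4_comm S (k := 8) (by norm_num) (by norm_num) (S.mX8 q v) z
  have h4 : EE S 0 0 0 c 0 * S.e 4 q v = S.e 4 q v * EE S 0 0 0 c (c * q) := by
    have : S.o 2 c * S.e 4 q v = S.e 4 q v * S.o 2 c * S.e 3 0 (c * q) := S.o_e2 2 c q v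
    rw [← EE_c, this, mul_assoc]
    congr 1
    rw [EE_c, EE_d, EE_mul]
    simp only [add_zero, zero_add]
  have h5 : EE S 0 0 0 0 d * S.e 4 q v = S.e 4 q v * EE S 0 0 0 0 d := by
    rw [← EE_d]; exact (S.comm_Z6 (k := 8) (by norm_num) (by norm_num) (S.mX8 q v) d).symm
  refine ⟨(σ a * q * σ q + σ a * v) + (σ b * q) + z, ?_⟩
  rw [EE_split, mul_assoc, mul_assoc, mul_assoc, mul_assoc, h5, ← mul_assoc (EE S 0 0 0 c 0), h4,
    ← mul_assoc (EE S 0 0 z 0 0), ← mul_assoc (EE S 0 0 z 0 0), h3, ← mul_assoc (EE S 0 b 0 0 0),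
    ← mul_assoc (EE S 0 b 0 0 0), ← mul_assoc (EE S 0 b 0 0 0), h2, ← mul_assoc (EE S a 0 0 0 0),
    ← mul_assoc (EE S a 0 0 0 0), ← mul_assoc (EE S a 0 0 0 0), ← mul_assoc (EE S a 0 0 0 0), h1]
  simp only [mul_assoc, EE_mul, add_zero, zero_add]
  congr 2 <;> ring

/-- the action of `X_8` on `Z_4 X_5 Z_6` -/
theorem EE_e4' (z c d q v : F) : EE S 0 0 z c d * S.e 4 q v = S.e 4 q v * EE S 0 0 z c (d + c * q) := by
  have h3 : EE S 0 0 z 0 0 * S.e 4 q v = S.e 4 q v * EE S 0 0 z 0 0 := by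
    rw [← EE_z]; exact z4_comm S (k := 8) (by norm_num) (by norm_num) (S.mX8 q v) z
  have h4 : EE S 0 0 0 c 0 * S.e 4 q v = S.e 4 q v * EE S 0 0 0 c (c * q) := by
    have : S.o 2 c * S.e 4 q v = S.e 4 q v * S.o 2 c * S.e 3 0 (c * q) := S.o_e2 2 c q v
    rw [← EE_c, this, mul_assoc]
    congr 1
    rw [EE_c, EE_d, EE_mul]
    simp only [add_zero, zero_add]
  have h5 : EE S 0 0 0 0 d * S.e 4 q v = S.e 4 q v * EE S 0 0 0 0 d := by
    rw [← EE_d]; exact (S.comm_Z6 (k := 8) (by norm_num) (by norm_num) (S.mX8 q v) d).symm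
  have e : EE S 0 0 z c d = EE S 0 0 z 0 0 * (EE S 0 0 0 c 0 * EE S 0 0 0 0 d) := by
    simp only [EE_mul, add_zero, zero_add]
  rw [e, mul_assoc, mul_assoc, h5, ← mul_assoc (EE S 0 0 0 c 0), h4, ← mul_assoc (EE S 0 0 z 0 0),
    ← mul_assoc (EE S 0 0 z 0 0), h3]
  simp only [mul_assoc, EE_mul, add_zero, zero_add]
  congr 2
  ring

/-- elements of `E_4` commuting with `X_8` modulo `Z_4` -/
theorem mem_of_comm8 {w : Y} (hw : w ∈ S.Q2) (h : ∀ q v, ∃ z, w * S.e 4 q v = S.e 4 q v * w * S.e 2 0 z) :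
    ∃ z d, w = EE S 0 0 z 0 d := by
  obtain ⟨a, b, z, c, d, rfl⟩ := mem_Q2 S hw
  have key : ∀ q v, a * q = 0 ∧ a * v + b * σ q = 0 ∧
      (a * q * v + a * q * q * σ q + a * σ v) + (b * q * σ q + b * v) + c * q = 0 := by
    intro q v
    obtain ⟨z', h1⟩ := EE_e4 S a b z c d q v
    obtain ⟨z'', h2⟩ := h q v
    rw [h1, mul_assoc (S.e 4 q v), EE_z, EE_mul] at h2
    obtain ⟨-, h3, -, h4, h5⟩ := EE_inj S (mul_left_cancel h2)
    refine ⟨?_, ?_, ?_⟩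
    · linear_combination h3
    · linear_combination h4
    · linear_combination h5
  have ha : a = 0 := by simpa using (key 1 0).1
  have hb : b = 0 := by simpa [ha] using (key 1 0).2.1
  have hc : c = 0 := by simpa [ha, hb] using (key 1 0).2.2
  exact ⟨z, d, by rw [ha, hb, hc]⟩

/-! ### commutators with `Q1` -/

theorem Q2_le_PL : S.Q2 ≤ S.PL := S.Q2_le_J.trans (J_mono (by norm_num) (by norm_num))
theorem Q1_le_PL : S.Q1 ≤ S.PL := S.Q1_le_J.trans (J_mono (by norm_num) (by norm_num))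
theorem Q2_le_Q : S.Q2 ≤ S.Q := S.Q2_le_J.trans (J_mono (by norm_num) (by norm_num))
theorem Q1_le_Q : S.Q1 ≤ S.Q := S.Q1_le_J.trans (J_mono (by norm_num) (by norm_num))
theorem Q_le_PL : S.Q ≤ S.PL := J_mono (by norm_num) (by norm_num)
theorem Q_le_U : S.Q ≤ J S.XZ 1 8 := J_mono (by norm_num) (by norm_num)
theorem U_le_PL : J S.XZ 1 8 ≤ S.PL := J_mono (by norm_num) (by norm_num)

theorem Q2_conj {g w : Y} (hg : g ∈ S.PL) (hw : w ∈ S.Q2) : g * w * g⁻¹ ∈ S.Q2 :=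
  (Subgroup.mem_normalizer_iff.1 (S.Q2_norm hg) w).1 hw

theorem Q2_conj' {g w : Y} (hg : g ∈ S.PL) (hw : w ∈ S.Q2) : g⁻¹ * w * g ∈ S.Q2 := by
  have := Q2_conj S (inv_mem hg) hw
  rwa [inv_inv] at this

/-- `[PL, X_4] ≤ E_4` -/
theorem comm_X4 {g : Y} (hg : g ∈ S.PL) (p u : F) : ∃ w ∈ S.Q2, g * S.e 2 p u = S.e 2 p u * g * w := by
  let K : Subgroup Y :=
    { carrier := {g | g ∈ S.PL ∧ ∃ w ∈ S.Q2, g * S.e 2 p u = S.e 2 p u * g * w}
      one_mem' := ⟨one_mem _, 1, one_mem _, by simp⟩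
      mul_mem' := by
        rintro x y ⟨hx, w, hw, h⟩ ⟨hy, w', hw', h'⟩
        refine ⟨mul_mem hx hy, (y⁻¹ * w * y) * w', mul_mem (Q2_conj' S hy hw) hw', ?_⟩
        calc x * y * S.e 2 p u = x * (y * S.e 2 p u) := by group
          _ = (x * S.e 2 p u) * (y * w') := by rw [h']; group
          _ = _ := by rw [h]; group
      inv_mem' := by
        rintro x ⟨hx, w, hw, h⟩
        refine ⟨inv_mem hx, x * w⁻¹ * x⁻¹, Q2_conj S hx (inv_mem hw), ?_⟩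
        calc x⁻¹ * S.e 2 p u = x⁻¹ * (S.e 2 p u * x * w) * w⁻¹ * x⁻¹ := by group
          _ = x⁻¹ * (x * S.e 2 p u) * w⁻¹ * x⁻¹ := by rw [← h]
          _ = _ := by group }
  have key : ∀ x w : Y, x ∈ S.PL → w ∈ S.Q2 → x * S.e 2 p u = S.e 2 p u * x * w → x ∈ K :=
    fun x w hx hw h => ⟨hx, w, hw, h⟩
  have key1 : ∀ x : Y, x ∈ S.PL → x * S.e 2 p u = S.e 2 p u * x → x ∈ K :=
    fun x hx h => key x 1 hx (one_mem _) (by rw [mul_one]; exact h)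
  have : S.PL ≤ K := by
    refine J_le fun k h1 h2 x hx => ?_
    have hxP : x ∈ S.PL := mem_J hx h1 h2
    interval_cases k
    · obtain ⟨q, v, rfl⟩ : ∃ q v, S.e 0 q v = x := (S.mem_XZ_even 0 x).1 hx
      exact key1 _ hxP (S.e_e2 0 q v p u)
    · obtain ⟨t, rfl⟩ := S.X1 hx
      exact key _ _ hxP (S.q2_1 (t * p)) (S.o_e2 0 t p u)
    · obtain ⟨q, v, rfl⟩ := S.X2 hx
      exact key _ _ hxP (S.q2_2 (q * p)) (S.e_e1 1 q v p u)
    · obtain ⟨t, rfl⟩ := S.X3 hx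
      exact key1 _ hxP (S.o_e1 1 t p u)
    · obtain ⟨q, v, rfl⟩ := S.X4 hx
      refine key _ _ hxP (S.q2_3 (q * σ p + p * σ q)) ?_
      rw [S.e_mul, S.e_mul, S.e_mul, map_zero, mul_zero, add_zero, add_zero, add_comm q p]
      congr 1
      linear_combination -char2 S (p * σ q)
    · obtain ⟨t, rfl⟩ := S.X5 hx
      exact key1 _ hxP (S.e_o0 2 p u t).symm
    · obtain ⟨q, v, rfl⟩ := S.X6 hx
      refine key _ _ hxP (S.q2_4 (p * q)) ?_
      have h : S.e 2 p u * S.e 3 q v = S.e 3 q v * S.e 2 p u * S.o 2 (p * q) := S.e_e1 2 p u q v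
      rw [h, mul_assoc, S.o_add, char2 S, S.o_zero, mul_one]
    · obtain ⟨t, rfl⟩ := S.X7 hx
      refine key _ _ hxP (S.q2_5 (p * t)) ?_
      have h : S.e 2 p u * S.o 3 t = S.o 3 t * S.e 2 p u * S.e 3 0 (p * t) := S.e_o1 2 p u t
      rw [h, mul_assoc, ze, char2 S, S.e_zero, mul_one]
    · obtain ⟨q, v, rfl⟩ := S.X8 hx
      exact key1 _ hxP (S.e_e2 2 p u q v).symm
  exact (this hg).2

theorem mem_Q1 {x : Y} (hx : x ∈ S.Q1) : ∃ p u, ∃ w ∈ S.Q2, x = S.e 2 p u * w := by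
  obtain ⟨a, ha, w, hw, rfl⟩ := mem_sup_of_norm (A := S.XZ 4) (B := S.Q2) (fun a ha b hb => by
    rw [S.Q1_comm (Subgroup.mem_sup_left ha) hb, mul_inv_cancel_right]; exact hb) hx
  obtain ⟨p, u, rfl⟩ := S.X4 ha
  exact ⟨p, u, w, hw, rfl⟩

/-- `[PL, Q1] ≤ E_4` -/
theorem comm_Q1 {g a : Y} (hg : g ∈ S.PL) (ha : a ∈ S.Q1) : g * a * g⁻¹ * a⁻¹ ∈ S.Q2 := by
  obtain ⟨p, u, w, hw, rfl⟩ := mem_Q1 S ha
  obtain ⟨w', hw', h⟩ := comm_X4 S hg p u
  have e : g * (S.e 2 p u * w) * g⁻¹ * (S.e 2 p u * w)⁻¹ =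
      S.e 2 p u * ((g * w' * g⁻¹) * (g * w * g⁻¹) * w⁻¹) * (S.e 2 p u)⁻¹ := by
    calc g * (S.e 2 p u * w) * g⁻¹ * (S.e 2 p u * w)⁻¹ = (g * S.e 2 p u) * w * g⁻¹ * w⁻¹ * (S.e 2 p u)⁻¹ := by group
      _ = _ := by rw [h]; group
  rw [e]
  exact Q2_conj S (Q1_le_PL S (Subgroup.mem_sup_left (S.mX4 p u)))
    (mul_mem (mul_mem (Q2_conj S hg hw') (Q2_conj S hg hw)) (inv_mem hw))

/-! ### the torus -/

/-- the torus of the Levi complement -/
def sT (d : Fˣ) : Y := S.h (Units.map (σ : F →* F) d) d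

theorem c0 (d : Fˣ) : (chE σ 0 (Units.map (σ : F →* F) d) d : F) = σ d := rfl
theorem c1 (d : Fˣ) : (chE σ 1 (Units.map (σ : F →* F) d) d : F) = d := rfl
theorem c2 (d : Fˣ) : chE σ 2 (Units.map (σ : F →* F) d) d = 1 := by rw [chE_two, div_self']
include S in
theorem c3 (d : Fˣ) : chE σ 3 (Units.map (σ : F →* F) d) d = d⁻¹ := by
  rw [chE_three, map_map σ S.sq, pow_two, div_mul_cancel_left]
theorem c4 (d : Fˣ) : chE σ 4 (Units.map (σ : F →* F) d) d = (Units.map (σ : F →* F) d)⁻¹ := rfl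

theorem k0 (d : Fˣ) : (chO σ 0 (Units.map (σ : F →* F) d) d : F) = d * σ d := by
  rw [chO, Units.val_mul, zero_add, c0, c1, mul_comm]
theorem k1 (d : Fˣ) : (chO σ 1 (Units.map (σ : F →* F) d) d : F) = d := by
  rw [chO, show (1 : ZMod 8) + 1 = 2 from rfl, c2, mul_one]; rfl
include S in
theorem k2 (d : Fˣ) : (chO σ 2 (Units.map (σ : F →* F) d) d : F) = (d : F)⁻¹ := by
  rw [chO, show (2 : ZMod 8) + 1 = 3 from rfl, c2, one_mul, c3 S, Units.val_inv_eq_inv_val]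
include S in
theorem k3 (d : Fˣ) : (chO σ 3 (Units.map (σ : F →* F) d) d : F) = ((d : F) * σ d)⁻¹ := by
  rw [chO, show (3 : ZMod 8) + 1 = 4 from rfl, c3 S, c4, ← mul_inv, Units.val_inv_eq_inv_val, Units.val_mul]; rfl

theorem sT_mem (d : Fˣ) : sT S d ∈ S.Tk 4 := by
  refine ⟨S.mem_T.2 ⟨_, _, rfl⟩, Subgroup.mem_centralizer_iff.2 fun x hx => ?_⟩
  obtain ⟨p, u, rfl⟩ := S.X4 hx
  have h := S.h_e (Units.map (σ : F →* F) d) d 2 p u
  rw [c2, Units.val_one, map_one, one_mul, one_mul, one_mul, mul_inv_eq_iff_eq_mul] at h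
  exact h.symm

theorem mem_Tk4 {s : Y} (hs : s ∈ S.Tk 4) : ∃ d, s = sT S d := by
  obtain ⟨c, d, rfl⟩ := S.mem_T.1 hs.1
  have h1 := S.Tk_comm hs (S.mX4 1 0)
  have h2 := S.h_e c d 2 1 0
  rw [h1, mul_inv_cancel_right, mul_one] at h2
  have h3 : chE σ 2 c d = 1 := Units.ext (S.injE 2 _ _ _ _ h2).1.symm
  rw [chE_two, div_eq_one] at h3
  exact ⟨d, by rw [sT, h3]⟩

theorem sT_inj {d d' : Fˣ} (h : sT S d = sT S d') : d = d' := (S.h_inj _ _ _ _ h).2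

theorem sT_one : sT S 1 = 1 := by rw [sT, map_one, S.h_one]

theorem sT_PL [Finite F] (d : Fˣ) : sT S d ∈ S.PL := S.h_mem_PL d

theorem sT_o0 (d : Fˣ) (x : F) : sT S d * S.o 0 x * (sT S d)⁻¹ = S.o 0 (d * σ d * x) := by
  rw [sT, S.h_o, k0]
theorem sT_e1 (d : Fˣ) (p u : F) : sT S d * S.e 1 p u * (sT S d)⁻¹ = S.e 1 (d * p) (d * σ d * u) := by
  rw [sT, S.h_e, c1]
theorem sT_o1 (d : Fˣ) (x : F) : sT S d * S.o 1 x * (sT S d)⁻¹ = S.o 1 (d * x) := by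
  rw [sT, S.h_o, k1]
theorem sT_e2 (d : Fˣ) (p u : F) : sT S d * S.e 2 p u * (sT S d)⁻¹ = S.e 2 p u := by
  rw [sT, S.h_e, c2, Units.val_one, map_one, one_mul, one_mul, one_mul]
theorem sT_o2 (d : Fˣ) (x : F) : sT S d * S.o 2 x * (sT S d)⁻¹ = S.o 2 ((d : F)⁻¹ * x) := by
  rw [sT, S.h_o, k2 S]
theorem sT_e3 (d : Fˣ) (p u : F) : sT S d * S.e 3 p u * (sT S d)⁻¹ = S.e 3 ((d : F)⁻¹ * p) (((d : F) * σ d)⁻¹ * u) := by
  rw [sT, S.h_e, c3 S, Units.val_inv_eq_inv_val, map_inv₀, ← mul_inv]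
theorem sT_o3 (d : Fˣ) (x : F) : sT S d * S.o 3 x * (sT S d)⁻¹ = S.o 3 (((d : F) * σ d)⁻¹ * x) := by
  rw [sT, S.h_o, k3 S]
theorem sT_e4 (d : Fˣ) (p u : F) : sT S d * S.e 4 p u * (sT S d)⁻¹ =
    S.e 4 ((σ (d : F))⁻¹ * p) ((σ (d : F))⁻¹ * σ (σ (d : F))⁻¹ * u) := by
  rw [sT, S.h_e, c4, Units.val_inv_eq_inv_val]; rfl

theorem sT_EE (s : Fˣ) (a b z c d : F) : sT S s * EE S a b z c d * (sT S s)⁻¹ =
    EE S (s * σ s * a) (s * b) z ((s : F)⁻¹ * c) (((s : F) * σ s)⁻¹ * d) := by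
  unfold EE
  calc sT S s * (S.e 1 0 a * S.o 1 b * S.e 2 0 z * S.o 2 c * S.e 3 0 d) * (sT S s)⁻¹ =
      (sT S s * S.e 1 0 a * (sT S s)⁻¹) * (sT S s * S.o 1 b * (sT S s)⁻¹) * (sT S s * S.e 2 0 z * (sT S s)⁻¹) *
      (sT S s * S.o 2 c * (sT S s)⁻¹) * (sT S s * S.e 3 0 d * (sT S s)⁻¹) := by group
    _ = _ := by rw [sT_e1, sT_o1, sT_e2, sT_o2, sT_e3, mul_zero, mul_zero]

/-- `n2` on `E_4` -/
theorem n2_EE (a b z c d : F) : S.n2 * EE S a b z c d * S.n2⁻¹ = EE S d c z b a := by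
  unfold EE
  have h : S.n2 * (S.e 1 0 a * S.o 1 b * S.e 2 0 z * S.o 2 c * S.e 3 0 d) * S.n2⁻¹ =
      (S.n2 * S.e 1 0 a * S.n2⁻¹) * (S.n2 * S.o 1 b * S.n2⁻¹) * (S.n2 * S.e 2 0 z * S.n2⁻¹) *
      (S.n2 * S.o 2 c * S.n2⁻¹) * (S.n2 * S.e 3 0 d * S.n2⁻¹) := by group
  rw [h, S.n2_e, S.n2_o, S.n2_e, S.n2_o, S.n2_e]
  show S.e 3 0 a * S.o 2 b * S.e 2 0 z * S.o 1 c * S.e 1 0 d = _
  rw [EE_d, EE_c, EE_z, EE_b, EE_a]
  simp only [EE_mul, add_zero, zero_add]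

end Cfsg.Agent.OddHalf.D7TwF4.NormE
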