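import Cfsg.Agent.ThreePrime.SzAut
import Cfsg.Agent.Octagon.FieldAut171

/-!
# D7, `K = ²F₄(q)`: lemmas on the field (helper467)

* `tt0` : an additive map with a non-trivial multiplicative period is zero;
* `scal` : an additive map commuting with all multiplications is a multiplication;
* `suz` : an endomorphism of 2-power order of the Suzuki 2-group, equivariant up to a permutation of the torus, is the
  identity.
-/

set_option autoImplicit false
set_option maxHeartbeats 400000

namespace Cfsg.Agent.OddHalf.D7TwF4.NormSuz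

universe w

variable {F : Type w} [Field F] {σ : F →+* F}

theorem add_self (two : (2 : F) = 0) (x : F) : x + x = 0 := by
  rw [← two_mul, two, zero_mul]

theorem add_zero_of {g : F → F} (hg : ∀ x y, g (x + y) = g x + g y) : g 0 = 0 := by
  have := hg 0 0
  rw [add_zero] at this
  exact left_eq_add.1 this

/-- an additive map with `g (c x) = g x`, `c ≠ 1`, is zero -/
theorem tt0 (two : (2 : F) = 0) {g : F → F} (hg : ∀ x y, g (x + y) = g x + g y) {c : F} (hc : c ≠ 1)
    (h : ∀ x, g (c * x) = g x) (x : F) : g x = 0 := by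
  have h1 : c + 1 ≠ 0 := by
    intro h0
    apply hc
    have : c + 1 + 1 = 1 := by rw [h0, zero_add]
    rwa [add_assoc, add_self two, add_zero] at this
  have h2 := hg (c * ((c + 1)⁻¹ * x)) ((c + 1)⁻¹ * x)
  have h3 : c * ((c + 1)⁻¹ * x) + (c + 1)⁻¹ * x = x := by
    field_simp
  rw [h3, h, add_self two] at h2
  exact h2

/-- an additive map commuting with the multiplications -/
theorem scal {g : F → F} (hg : ∀ x y, g (x + y) = g x + g y) (h : ∀ (c : Fˣ) x, g (c * x) = c * g x) (x : F) :
    g x = x * g 1 := by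
  by_cases hx : x = 0
  · rw [hx, add_zero_of hg, zero_mul]
  · have := h (Units.mk0 x hx) 1
    rwa [mul_one] at this

theorem pow_two_eq_one (two : (2 : F) = 0) : ∀ (k : ℕ) {x : F}, x ^ (2 ^ k) = 1 → x = 1 := by
  intro k
  induction k with
  | zero => intro x h; simpa using h
  | succ k ih =>
    intro x h
    rw [pow_succ, pow_mul] at h
    apply ih
    have h1 : (x ^ 2 ^ k - 1) ^ 2 = 0 := by
      have : (x ^ 2 ^ k - 1) ^ 2 = (x ^ 2 ^ k) ^ 2 - 2 * x ^ 2 ^ k + 1 := by ring
      rw [this, h, two]
      linear_combination two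
    exact sub_eq_zero.1 (pow_eq_zero_iff two_ne_zero |>.1 h1)

/-- a multiplication of 2-power order is trivial -/
theorem scal_one (two : (2 : F) = 0) {g : F → F} {c : F} (h : ∀ x, g x = x * c) {k : ℕ}
    (hk : ∀ x, g^[2 ^ k] x = x) : c = 1 := by
  have h1 : ∀ n : ℕ, ∀ x, g^[n] x = x * c ^ n := by
    intro n
    induction n with
    | zero => intro x; simp
    | succ n ih =>
      intro x
      rw [Function.iterate_succ_apply', ih, h, pow_succ, mul_assoc]
  have h2 := h1 (2 ^ k) 1
  rw [hk, one_mul] at h2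
  exact pow_two_eq_one two k h2.symm

section suz

variable [Finite F]

theorem s1_surj (two : (2 : F) = 0) (hσ : ∀ x : F, σ (σ x) = x ^ 2) (v : F) : ∃ q : F, q * σ q = v := by
  by_cases hv : v = 0
  · exact ⟨0, by rw [hv, zero_mul]⟩
  let f : Fˣ →* Fˣ := MonoidHom.id Fˣ * Units.map (σ : F →* F)
  have hf : Function.Injective f := (injective_iff_map_eq_one f).2 fun χ h => by
    have h0 : χ * Units.map (σ : F →* F) χ = 1 := h
    have h1 : (χ : F) * σ χ = 1 := congrArg Units.val h0
    have h2 := congrArg σ h1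
    rw [map_mul, hσ, map_one] at h2
    have h3 : (χ : F) = 1 := by
      have : (χ : F) * (σ χ * χ ^ 2) = χ ^ 2 := by
        calc (χ : F) * (σ χ * χ ^ 2) = (χ * σ χ) * χ ^ 2 := by ring
          _ = _ := by rw [h1, one_mul]
      rw [h2, mul_one, pow_two] at this
      exact (mul_right_cancel₀ χ.ne_zero ((one_mul (χ : F)).trans this)).symm
    exact Units.ext h3
  obtain ⟨χ, hχ⟩ := Finite.surjective_of_injective hf (Units.mk0 v hv)
  exact ⟨χ, congrArg Units.val hχ⟩

/-- **The Suzuki 2-group.** -/
theorem suz (hσ : ∀ x : F, σ (σ x) = x ^ 2) (two : (2 : F) = 0) (hne : ∃ x, σ x ≠ x) {a b : F → F → F}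
    (ha : ∀ q v q' v', a (q + q') (v + v' + q * σ q') = a q v + a q' v')
    (hb : ∀ q v q' v', b (q + q') (v + v' + q * σ q') = b q v + b q' v' + a q v * σ (a q' v'))
    (he : ∀ χ : Fˣ, ∃ χ' : Fˣ, (∀ q v, a (χ * q) (χ * σ χ * v) = χ' * a q v) ∧
      ∀ q v, b (χ * q) (χ * σ χ * v) = χ' * σ χ' * b q v)
    (hn : ∃ q v, a q v ≠ 0) {k : ℕ}
    (hp : ∀ q v, (fun x : F × F => (a x.1 x.2, b x.1 x.2))^[2 ^ k] (q, v) = (q, v)) :
    (∀ q v, a q v = q) ∧ ∀ q v, b q v = v := by
  have c2 := add_self two
  -- `a` does not depend on `v`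
  have a0 : ∀ v, a 0 v = 0 := by
    intro v
    obtain ⟨q, rfl⟩ := s1_surj two hσ v
    have := ha q 0 q 0
    rwa [c2, add_zero, zero_add, c2] at this
  have a1 : ∀ q v, a q v = a q 0 := by
    intro q v
    have := ha q 0 0 v
    rwa [add_zero, zero_add, map_zero, mul_zero, add_zero, a0, add_zero] at this
  have hA : ∀ q q', a (q + q') 0 = a q 0 + a q' 0 := by
    intro q q'
    have := ha q 0 q' 0
    rwa [a1 (q + q')] at this
  have hAe : ∀ χ : Fˣ, ∃ χ' : Fˣ, ∀ q, a (χ * q) 0 = χ' * a q 0 := by
    intro χ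
    obtain ⟨χ', h1, -⟩ := he χ
    refine ⟨χ', fun q => ?_⟩
    have := h1 q 0
    rwa [mul_zero] at this
  have hA1 : a 1 0 ≠ 0 := by
    intro h0
    obtain ⟨q, v, hq⟩ := hn
    apply hq
    rw [a1]
    by_cases hq0 : q = 0
    · rw [hq0, a0]
    · obtain ⟨χ', h1⟩ := hAe (Units.mk0 q hq0)
      have := h1 1
      rwa [mul_one, h0, mul_zero] at this
  set A1 := a 1 0 with hA1d
  have hmul : ∀ x y, a (x * y) 0 * A1 = a x 0 * a y 0 := by
    intro x y
    by_cases hx : x = 0
    · rw [hx, zero_mul, a0, zero_mul, zero_mul]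
    · obtain ⟨χ', h1⟩ := hAe (Units.mk0 x hx)
      have e1 := h1 y
      have e2 := h1 1
      rw [mul_one] at e2
      change a (x * y) 0 = _ at e1
      change a x 0 = _ at e2
      rw [e1, e2]; ring
  -- the field automorphism
  let τ : F →+* F :=
    { toFun := fun x => a x 0 / A1
      map_one' := div_self hA1
      map_zero' := by rw [a0, zero_div]
      map_add' := fun x y => by rw [hA, add_div]
      map_mul' := fun x y => by
        have := hmul x y
        field_simp
        linear_combination this }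
  have hτ : ∀ x, a x 0 = τ x * A1 := by
    intro x
    show a x 0 = a x 0 / A1 * A1
    field_simp
  let te : F ≃+* F := RingEquiv.ofBijective τ ⟨τ.injective, Finite.surjective_of_injective τ.injective⟩
  have hte : ∀ x, te x = τ x := fun x => rfl
  -- iterates
  have hAn : ∀ n : ℕ, ∀ q v, ((fun x : F × F => (a x.1 x.2, b x.1 x.2))^[n] (q, v)).1 = (fun x => a x 0)^[n] q := by
    intro n
    induction n with
    | zero => intro q v; rfl
    | succ n ih =>
      intro q v
      rw [Function.iterate_succ_apply', Function.iterate_succ_apply']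
      show a _ _ = a _ 0
      rw [a1, ih]
  have hAk : ∀ q, (fun x => a x 0)^[2 ^ k] q = q := by
    intro q
    rw [← hAn _ q 0, hp]
  have hit : ∀ n : ℕ, ∀ x, (fun x => a x 0)^[n] x = (fun x => te x)^[n] x * (fun x => a x 0)^[n] 1 := by
    intro n
    induction n with
    | zero => intro x; simp
    | succ n ih =>
      intro x
      rw [Function.iterate_succ_apply', Function.iterate_succ_apply', Function.iterate_succ_apply', ih]
      show a _ 0 = te _ * a _ 0
      rw [hτ, hτ ((fun x => a x 0)^[n] 1), map_mul, hte, mul_assoc]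
  have h1k : (fun x => a x 0)^[2 ^ k] 1 = 1 := hAk 1
  have htk : ∀ x, te^[2 ^ k] x = x := by
    intro x
    have := hit (2 ^ k) x
    rw [h1k, mul_one, hAk] at this
    exact this.symm
  haveI : Fintype F := Fintype.ofFinite F
  obtain ⟨m, hm, -⟩ := Cfsg.Agent.Octagon.FieldAut171.exists_rln σ hσ
  have hid : ∀ x, te x = x := Cfsg.Agent.ThreePrime.SzRel.fieldAut_eq (by rw [← Nat.card_eq_fintype_card, hm]) te k htk
  have hA' : ∀ x, a x 0 = x * A1 := by
    intro x
    rw [hτ, ← hte, hid]
  have hA1' : A1 = 1 := scal_one two hA' hAk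
  have hAA : ∀ q v, a q v = q := by
    intro q v
    rw [a1, hA', hA1', mul_one]
  refine ⟨hAA, ?_⟩
  -- `b`
  have b0 : ∀ v, b 0 v = v := by
    intro v
    obtain ⟨q, rfl⟩ := s1_surj two hσ v
    have := hb q 0 q 0
    rwa [c2, add_zero, zero_add, hAA, c2, zero_add] at this
  have b1 : ∀ q v, b q v = b q 0 + v := by
    intro q v
    have := hb q 0 0 v
    rwa [add_zero, zero_add, map_zero, mul_zero, add_zero, b0, hAA, hAA, map_zero, mul_zero, add_zero] at this
  have hC : ∀ q q', b (q + q') 0 = b q 0 + b q' 0 := by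
    intro q q'
    have := hb q 0 q' 0
    rw [b1 (q + q'), hAA, hAA, add_zero, zero_add] at this
    exact add_right_cancel this
  have hCe : ∀ q, b q 0 = q * σ q * b 1 0 := by
    intro q
    by_cases hq : q = 0
    · rw [hq, b0, zero_mul, zero_mul]
    · obtain ⟨χ', h1, h2⟩ := he (Units.mk0 q hq)
      have e1 := h1 1 0
      have e2 := h2 1 0
      rw [mul_one, mul_zero, hAA, hAA, mul_one] at e1
      rw [mul_one, mul_zero, ← e1] at e2
      exact e2
  have hc : b 1 0 = 0 := by
    obtain ⟨x, hx⟩ := hne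
    have h1 := hC x 1
    rw [hCe (x + 1), hCe x, map_add, map_one] at h1
    have h2 : (x + σ x) * b 1 0 = 0 := by
      linear_combination h1
    rcases mul_eq_zero.1 h2 with h3 | h3
    · exfalso
      apply hx
      have : x + σ x + x = x := by rw [h3, zero_add]
      rw [add_right_comm, c2, zero_add] at this
      exact this
    · exact h3
  intro q v
  rw [b1, hCe, hc, mul_zero, zero_add]

end suz

end Cfsg.Agent.OddHalf.D7TwF4.NormSuz
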