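import Cfsg.Agent.OddHalf.D7TwF4.NormE
import Cfsg.Agent.OddHalf.D7TwF4.NormSuz
import Cfsg.Agent.KFacts.TwF4.InvConj

/-!
# D7, `K = ²F₄(q)`: the action of a 2-element on `C_Y(Z_4)` (helper467)

`NF S f` : `f` acts on `PL = C_Y(Z_4)` as an automorphism of 2-power order preserving `U`.
Steps A - C: after a conjugation by an element of `U`, `f` is the identity on `S_4`, trivial on `U / Q`, and
`f n2 ∈ n2 Z_4`.
-/

set_option autoImplicit false
set_option maxHeartbeats 400000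
set_option linter.unusedSectionVars false

namespace Cfsg.Agent.OddHalf.D7TwF4.NormF

open Cfsg.Agent.KFacts.TwF4 Cfsg.Agent.SplitTwo.ZS Cfsg.Agent.OddHalf.D7TwF4.NormE
open Cfsg.Agent.OddHalf.D7TwF4.NormSuz
open Cfsg.Agent.KFacts.TwF4.Inv Cfsg.Agent.KFacts.TwF4.SylU Cfsg.Agent.KFacts.TwF4.Perf Cfsg.Agent.KFacts.TwF4.Arc

universe u w

variable {F : Type w} [Field F] {σ : F →+* F} {Y : Type u} [Group Y]

/-- `f` acts on `PL` as an automorphism of 2-power order preserving `U` -/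
structure NF (S : Full σ Y) (f : Y → Y) : Prop where
  mul : ∀ x ∈ S.PL, ∀ y ∈ S.PL, f (x * y) = f x * f y
  mem : ∀ x ∈ S.PL, f x ∈ S.PL
  memU : ∀ x ∈ J S.XZ 1 8, f x ∈ J S.XZ 1 8
  ord : ∃ k : ℕ, ∀ x ∈ S.PL, f^[2 ^ k] x = x

theorem R_p (S : Full σ Y) : S.R.p = 2 := by
  have h1 : S.o 0 1 ∈ S.R.X (od 0) := (S.mem_odd 0 _).2 ⟨1, rfl⟩
  obtain ⟨k, hk⟩ := S.R.isPGroup (od 0) ⟨_, h1⟩
  have hk' : S.o 0 1 ^ (S.R.p ^ k) = 1 := by simpa using congrArg Subtype.val hk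
  have : Fact (Nat.Prime 2) := ⟨Nat.prime_two⟩
  have h2 : orderOf (S.o 0 1) = 2 := orderOf_eq_prime (by rw [pow_two, S.o_add, NormE.char2 S, S.o_zero])
    (fun h => one_ne_zero (S.o_eq_one h))
  have h3 := orderOf_dvd_of_pow_eq_one hk'
  rw [h2] at h3
  exact ((Nat.prime_dvd_prime_iff_eq Nat.prime_two S.R.prime).1 (Nat.prime_two.dvd_of_dvd_pow h3)).symm

variable [Finite F] [Finite Y]

theorem two_U (S : Full σ Y) : IsPGroup 2 (J S.XZ 1 8) :=
  isPGroup_J S.zsys8 (two_X S (R_p S)) 8 1 8 (by norm_num) (by norm_num)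

namespace NF

variable {S : Full σ Y} {f : Y → Y} (N : NF S f)

include N

theorem one : f 1 = 1 := by
  have h := N.mul 1 (one_mem _) 1 (one_mem _)
  rw [mul_one] at h
  exact mul_eq_left.1 h.symm

theorem inv {x : Y} (hx : x ∈ S.PL) : f x⁻¹ = (f x)⁻¹ := by
  have h := N.mul x hx x⁻¹ (inv_mem hx)
  rw [mul_inv_cancel, N.one] at h
  exact (inv_eq_of_mul_eq_one_right h.symm).symm

theorem conj {x y : Y} (hx : x ∈ S.PL) (hy : y ∈ S.PL) : f (x * y * x⁻¹) = f x * f y * (f x)⁻¹ := by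
  rw [N.mul _ (mul_mem hx hy) _ (inv_mem hx), N.mul _ hx _ hy, N.inv hx]

theorem conj' {x y : Y} (hx : x ∈ S.PL) (hy : y ∈ S.PL) : f (x⁻¹ * y * x) = (f x)⁻¹ * f y * f x := by
  rw [N.mul _ (mul_mem (inv_mem hx) hy) _ hx, N.mul _ (inv_mem hx) _ hy, N.inv hx]

theorem pow {x : Y} (hx : x ∈ S.PL) (n : ℕ) : f (x ^ n) = f x ^ n := by
  induction n with
  | zero => rw [pow_zero, pow_zero, N.one]
  | succ n ih => rw [pow_succ, pow_succ, N.mul _ (pow_mem hx n) _ hx, ih]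

theorem it_mem {x : Y} (hx : x ∈ S.PL) (n : ℕ) : f^[n] x ∈ S.PL := by
  induction n with
  | zero => exact hx
  | succ n ih => rw [Function.iterate_succ_apply']; exact N.mem _ ih

theorem it_memU {x : Y} (hx : x ∈ J S.XZ 1 8) (n : ℕ) : f^[n] x ∈ J S.XZ 1 8 := by
  induction n with
  | zero => exact hx
  | succ n ih => rw [Function.iterate_succ_apply']; exact N.memU _ ih

theorem it_mul {x y : Y} (hx : x ∈ S.PL) (hy : y ∈ S.PL) (n : ℕ) : f^[n] (x * y) = f^[n] x * f^[n] y := by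
  induction n with
  | zero => rfl
  | succ n ih =>
    rw [Function.iterate_succ_apply', Function.iterate_succ_apply', Function.iterate_succ_apply', ih,
      N.mul _ (N.it_mem hx n) _ (N.it_mem hy n)]

theorem surj {x : Y} (hx : x ∈ S.PL) : ∃ y ∈ S.PL, f y = x := by
  obtain ⟨k, hk⟩ := N.ord
  obtain ⟨m, hm⟩ : ∃ m, 2 ^ k = m + 1 := ⟨2 ^ k - 1, by have := Nat.one_le_two_pow (n := k); omega⟩
  refine ⟨f^[m] x, N.it_mem hx m, ?_⟩
  have h := hk x hx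
  rwa [hm, Function.iterate_succ_apply'] at h

theorem surjU {x : Y} (hx : x ∈ J S.XZ 1 8) : ∃ y ∈ J S.XZ 1 8, f y = x := by
  obtain ⟨k, hk⟩ := N.ord
  obtain ⟨m, hm⟩ : ∃ m, 2 ^ k = m + 1 := ⟨2 ^ k - 1, by have := Nat.one_le_two_pow (n := k); omega⟩
  refine ⟨f^[m] x, N.it_memU hx m, ?_⟩
  have h := hk x (U_le_PL S hx)
  rwa [hm, Function.iterate_succ_apply'] at h

theorem inj {x y : Y} (hx : x ∈ S.PL) (hy : y ∈ S.PL) (h : f x = f y) : x = y := by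
  obtain ⟨k, hk⟩ := N.ord
  obtain ⟨m, hm⟩ : ∃ m, 2 ^ k = m + 1 := ⟨2 ^ k - 1, by have := Nat.one_le_two_pow (n := k); omega⟩
  have h1 := hk x hx
  have h2 := hk y hy
  rw [hm, Function.iterate_succ_apply] at h1 h2
  rw [← h1, ← h2, h]

theorem eq_one {x : Y} (hx : x ∈ S.PL) (h : f x = 1) : x = 1 :=
  N.inj hx (one_mem _) (h.trans N.one.symm)

/-- conjugation by an element of `U` -/
theorem conjU {w : Y} (hw : w ∈ J S.XZ 1 8) : NF S (fun x => w * f x * w⁻¹) where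
  mul x hx y hy := by
    show w * f (x * y) * w⁻¹ = _
    rw [N.mul x hx y hy]; group
  mem x hx := mul_mem (mul_mem (U_le_PL S hw) (N.mem x hx)) (inv_mem (U_le_PL S hw))
  memU x hx := mul_mem (mul_mem hw (N.memU x hx)) (inv_mem hw)
  ord := by
    obtain ⟨k, hk⟩ := N.ord
    have key : ∀ m : ℕ, ∃ v ∈ J S.XZ 1 8, ∀ x ∈ S.PL, (fun x => w * f x * w⁻¹)^[m] x = v * f^[m] x * v⁻¹ := by
      intro m
      induction m with
      | zero => exact ⟨1, one_mem _, fun x _ => by simp⟩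
      | succ m ih =>
        obtain ⟨v, hv, h⟩ := ih
        refine ⟨w * f v, mul_mem hw (N.memU v hv), fun x hx => ?_⟩
        rw [Function.iterate_succ_apply', h x hx, Function.iterate_succ_apply' f]
        show w * f (v * f^[m] x * v⁻¹) * w⁻¹ = _
        rw [N.conj (U_le_PL S hv) (N.it_mem hx m)]
        group
    obtain ⟨v, hv, h⟩ := key (2 ^ k)
    obtain ⟨l, hl⟩ := two_U S ⟨v, hv⟩
    have hl' : v ^ (2 ^ l) = 1 := by simpa using congrArg Subtype.val hl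
    refine ⟨k + l, fun x hx => ?_⟩
    rw [pow_add, Function.iterate_mul]
    have h2 : ∀ n : ℕ, ((fun x => w * f x * w⁻¹)^[2 ^ k])^[n] x = v ^ n * x * (v ^ n)⁻¹ := by
      intro n
      induction n with
      | zero => simp
      | succ n ih =>
        have hm : v ^ n * x * (v ^ n)⁻¹ ∈ S.PL :=
          mul_mem (mul_mem (pow_mem (U_le_PL S hv) n) hx) (inv_mem (pow_mem (U_le_PL S hv) n))
        rw [Function.iterate_succ_apply', ih, h _ hm, hk _ hm, pow_succ']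
        group
    rw [h2, hl', one_mul, inv_one, mul_one]

/-- `f` preserves `Q` -/
theorem memQ (hF : ∃ c : Fˣ, c ≠ 1) {x : Y} (hx : x ∈ S.Q) : f x ∈ S.Q := by
  let K : Subgroup Y :=
    { carrier := {y | ∃ x ∈ S.Q, f x = y}
      one_mem' := ⟨1, one_mem _, N.one⟩
      mul_mem' := by
        rintro _ _ ⟨x, hx, rfl⟩ ⟨y, hy, rfl⟩
        exact ⟨x * y, mul_mem hx hy, N.mul _ (Q_le_PL S hx) _ (Q_le_PL S hy)⟩
      inv_mem' := by
        rintro _ ⟨x, hx, rfl⟩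
        exact ⟨x⁻¹, inv_mem hx, N.inv (Q_le_PL S hx)⟩ }
  have hK : K ≤ S.Q := by
    refine O2_PL S hF (R_p S) ?_ ?_ ?_
    · rintro _ ⟨x, hx, rfl⟩
      exact N.mem _ (Q_le_PL S hx)
    · rintro ⟨_, x, hx, rfl⟩
      obtain ⟨l, hl⟩ := two_U S ⟨x, Q_le_U S hx⟩
      have hl' : x ^ (2 ^ l) = 1 := by simpa using congrArg Subtype.val hl
      refine ⟨l, Subtype.ext ?_⟩
      show f x ^ (2 ^ l) = 1
      rw [← N.pow (Q_le_PL S hx), hl', N.one]
    · rintro g hg _ ⟨x, hx, rfl⟩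
      obtain ⟨g', hg', rfl⟩ := N.surj hg
      exact ⟨g' * x * g'⁻¹, Perf.Q_norm S hg' hx, N.conj hg' (Q_le_PL S hx)⟩
  exact hK ⟨x, hx, rfl⟩

/-- the image of the torus element -/
theorem T_PL {t : Y} (ht : t ∈ S.T) (htP : t ∈ S.PL) : t ∈ S.Tk 4 := by
  obtain ⟨c, d, rfl⟩ := S.mem_T.1 ht
  have h1 := S.comm_PL htP (z := S.e 2 0 1) ⟨1, rfl⟩
  have h2 := S.h_e c d 2 0 1
  rw [h1, mul_inv_cancel_right, mul_zero, mul_one] at h2
  have h3 : chE σ 2 c d = 1 := S.unit_eq_one (Units.ext (S.injE 2 _ _ _ _ h2).2.symm)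
  rw [chE_two, div_eq_one] at h3
  have := sT_mem S d
  rwa [sT, h3] at this

/-- **Step A**: a torus element of prime order goes into the torus -/
theorem stepA (hF : ∃ c : Fˣ, c ≠ 1) :
    ∃ w ∈ J S.XZ 1 8, ∃ s ∈ S.Tk 4, s ≠ 1 ∧ w * f s * w⁻¹ ∈ S.Tk 4 := by
  obtain ⟨r, c, hr, hcr, hc1⟩ := exists_prime_unit hF
  have hr2 : r ≠ 2 := ne_two S hcr hc1
  have hsr : sT S c ^ r = 1 := by rw [sT, h_pow, ← map_pow, hcr, map_one, S.h_one]
  have hsP : sT S c ∈ S.PL := sT_PL S c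
  have hnc : ∀ x ∈ J S.XZ 1 8, sT S c * x * (sT S c)⁻¹ ∈ J S.XZ 1 8 := fun x hx => h_J S _ _ hx
  have hnc' : ∀ x ∈ J S.XZ 1 8, (sT S c)⁻¹ * x * sT S c ∈ J S.XZ 1 8 := fun x hx => h_J_inv S _ _ hx
  have hn : ∀ x, x ∈ J S.XZ 1 8 ↔ f (sT S c) * x * (f (sT S c))⁻¹ ∈ J S.XZ 1 8 := by
    intro x
    constructor
    · intro hx
      obtain ⟨y, hy, rfl⟩ := N.surjU hx
      rw [← N.conj hsP (U_le_PL S hy)]
      exact N.memU _ (hnc y hy)
    · intro hx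
      obtain ⟨y, hy, e⟩ := N.surjU hx
      have e1 : x = f ((sT S c)⁻¹ * y * sT S c) := by
        rw [N.conj' hsP (U_le_PL S hy), e]; group
      rw [e1]
      exact N.memU _ (hnc' y hy)
  obtain ⟨b, hb, t, ht, e⟩ := norm_U S hF (R_p S) hn
  have htP : t ∈ S.PL := by
    have : t = b⁻¹ * f (sT S c) := by rw [e]; group
    rw [this]
    exact mul_mem (inv_mem (U_le_PL S hb)) (N.mem _ hsP)
  have ht4 : t ∈ S.Tk 4 := T_PL N ht htP
  have htU : ∀ x ∈ J S.XZ 1 8, t * x * t⁻¹ ∈ J S.XZ 1 8 := fun x hx => S.T_conj_J ht hx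
  have hfr : f (sT S c) ^ r = 1 := by rw [← N.pow hsP, hsr, N.one]
  have htr : t ^ r = 1 := by
    have key : ∀ n : ℕ, ∃ b' ∈ J S.XZ 1 8, (b * t) ^ n = b' * t ^ n := by
      intro n
      induction n with
      | zero => exact ⟨1, one_mem _, by simp⟩
      | succ n ih =>
        obtain ⟨b', hb', h⟩ := ih
        refine ⟨b * (t * b' * t⁻¹), mul_mem hb (htU b' hb'), ?_⟩
        rw [pow_succ', h, pow_succ']; group
    obtain ⟨b', hb', h⟩ := key r
    rw [← e, hfr] at h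
    apply S.U_inf_T (pow_mem ht r)
    have : t ^ r = b'⁻¹ := eq_inv_of_mul_eq_one_right h.symm
    rw [this]; exact inv_mem hb'
  obtain ⟨x, hx, hxw⟩ := InvConj.conj_prime (two_U S) hr hr2 hfr htr htU (by rw [e, mul_inv_cancel_right]; exact hb)
  refine ⟨x⁻¹, inv_mem hx, sT S c, sT_mem S c, ?_, ?_⟩
  · intro h
    exact hc1 (sT_inj S (h.trans (sT_one S).symm))
  · rw [inv_inv, hxw]; exact ht4

/-- the group of units has odd order -/
theorem odd_units : Nat.Coprime (Nat.card Fˣ) 4 := by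
  have h2 : ¬ 2 ∣ Nat.card Fˣ := by
    intro h
    have : Fact (Nat.Prime 2) := ⟨Nat.prime_two⟩
    obtain ⟨x, hx⟩ := exists_prime_orderOf_dvd_card' 2 h
    have h1 : x * x = 1 := by rw [← pow_two, ← hx]; exact pow_orderOf_eq_one x
    rw [unit_sq S h1, orderOf_one] at hx
    exact absurd hx (by norm_num)
  have h3 : Nat.Coprime (Nat.card Fˣ) 2 := by
    rw [Nat.coprime_comm, Nat.prime_two.coprime_iff_not_dvd]; exact h2
  exact Nat.Coprime.pow_right 2 h3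

theorem sT_pow (d : Fˣ) (n : ℕ) : sT S d ^ n = sT S (d ^ n) := by
  rw [sT, h_pow, ← map_pow]; rfl

/-- **Step A, 2**: the torus goes into the torus -/
theorem stepA2 {s : Y} (hs : s ∈ S.Tk 4) (hs1 : s ≠ 1) (hfs : f s ∈ S.Tk 4) {s' : Y} (hs' : s' ∈ S.Tk 4) :
    f s' ∈ S.Tk 4 := by
  obtain ⟨d, rfl⟩ := mem_Tk4 S hs'
  obtain ⟨d0, rfl⟩ := mem_Tk4 S hs
  have hfs1 : f (sT S d0) ≠ 1 := fun h => hs1 (N.eq_one (sT_PL S d0) h)
  have hc : f (sT S d) * f (sT S d0) = f (sT S d0) * f (sT S d) := by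
    rw [← N.mul _ (sT_PL S d) _ (sT_PL S d0), ← N.mul _ (sT_PL S d0) _ (sT_PL S d),
      S.T_comm (S.Tk_le 4 hs') (S.Tk_le 4 hs)]
  obtain ⟨x, hx, t, ht, e⟩ := S.centralizer_Tk (N.mem _ (sT_PL S d)) hfs hfs1 hc
  have htx : Commute x t := (S.Tk_comm ht hx).symm
  obtain ⟨d', rfl⟩ := mem_Tk4 S ht
  set n := Nat.card Fˣ with hn
  have hd : ∀ d : Fˣ, d ^ n = 1 := fun d => pow_card_eq_one'
  have h1 : (x * sT S d') ^ n = 1 := by
    rw [← e, ← N.pow (sT_PL S d), sT_pow N, hd, sT_one, N.one]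
  rw [htx.mul_pow, sT_pow N, hd, sT_one, mul_one] at h1
  have h4 : x ^ 4 = 1 := by
    obtain ⟨p, u, rfl⟩ := S.X4 hx
    have : S.e 2 p u ^ 4 = (S.e 2 p u * S.e 2 p u) * (S.e 2 p u * S.e 2 p u) := by
      rw [show (4 : ℕ) = 1 + 1 + 1 + 1 by norm_num, pow_succ, pow_succ, pow_succ, pow_one]; group
    rw [this, e_sq, ze, NormE.char2 S, S.e_zero]
  have hx1 : x = 1 := by
    have h5 := Nat.dvd_gcd (orderOf_dvd_of_pow_eq_one h1) (orderOf_dvd_of_pow_eq_one h4)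
    have h6 : Nat.gcd n 4 = 1 := odd_units N
    rw [h6, Nat.dvd_one, orderOf_eq_one_iff] at h5
    exact h5
  rw [e, hx1, one_mul]
  exact ht

end NF

end Cfsg.Agent.OddHalf.D7TwF4.NormF
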