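import Mathlib

/-!
# ODD D7, `K = ²F₄(q)`: the commutator of two doubles at 135 degrees, abstract part

`W2, W8` : the doubles of the long root groups `Z2 = X_2', Z8 = X_8'`, `I = W_4 W_5 W_6`.
-/

set_option autoImplicit false

namespace Cfsg.Agent.OddHalf.D7TwF4.PairAbs

variable {G : Type*} [Group G]

/-- The situation of `abs`. -/
structure Hyp (t : G) (W2 W8 Z2 Z8 I : Subgroup G) (X : Set G) : Prop where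
  tt : t * t = 1
  I_comm : ∀ x ∈ I, ∀ y ∈ I, x * y = y * x
  W2I : ∀ a ∈ W2, ∀ i ∈ I, a * i = i * a
  W8I : ∀ b ∈ W8, ∀ i ∈ I, b * i = i * b
  Z2_le : Z2 ≤ W2
  Z8_le : Z8 ≤ W8
  W2c : ∀ a ∈ W2, ∀ b ∈ W2, a * b = b * a
  W8c : ∀ a ∈ W8, ∀ b ∈ W8, a * b = b * a
  W2t : ∀ a ∈ W2, ∃ z ∈ Z2, t * a * t⁻¹ = a * z
  W8t : ∀ b ∈ W8, ∃ z ∈ Z8, t * b * t⁻¹ = b * z
  It : ∀ i ∈ I, t * i * t⁻¹ ∈ I
  Isq : ∀ i ∈ I, i * i = 1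
  Ifix : ∀ i ∈ I, t * i * t⁻¹ = i → ∃ m ∈ I, t * m * t⁻¹ = m * i
  hZ2 : ∀ z ∈ Z2, ∀ b ∈ W8, z * b * z⁻¹ * b⁻¹ ∈ I
  hZ8 : ∀ a ∈ W2, ∀ z ∈ Z8, a * z * a⁻¹ * z⁻¹ ∈ I
  XW2 : ∀ x ∈ X, ∀ a ∈ W2, x * a = a * x
  XW8 : ∀ x ∈ X, ∀ a ∈ W8, x * a = a * x
  XI : ∀ x ∈ X, ∀ a ∈ I, x * a = a * x
  hk : ∀ k, k * t = t * k → (∀ i ∈ I, k * i = i * k) → (∀ x ∈ X, x * k = k * x) →
    ∃ z2 ∈ Z2, ∃ z8 ∈ Z8, ∃ i ∈ I, k = z2 * z8 * i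
  uniq : ∀ z2 ∈ Z2, ∀ z8 ∈ Z8, z2 * z8 ∈ I → z2 ∈ I

section
variable {t : G} {W2 W8 Z2 Z8 I : Subgroup G} {X : Set G} (H : Hyp t W2 W8 Z2 Z8 I X)
include H

/-- the commutator commutes with `I` -/
theorem c_comm {a b : G} (ha : a ∈ W2) (hb : b ∈ W8) {i : G} (hi : i ∈ I) :
    (a * b * a⁻¹ * b⁻¹) * i = i * (a * b * a⁻¹ * b⁻¹) := by
  have h1 := H.W2I a ha i hi
  have h2 := H.W8I b hb i hi
  have h3 := H.W2I a⁻¹ (inv_mem ha) i hi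
  have h4 := H.W8I b⁻¹ (inv_mem hb) i hi
  calc (a * b * a⁻¹ * b⁻¹) * i = a * b * a⁻¹ * (b⁻¹ * i) := by group
    _ = a * b * (a⁻¹ * i) * b⁻¹ := by rw [h4]; group
    _ = a * (b * i) * a⁻¹ * b⁻¹ := by rw [h3]; group
    _ = (a * i) * b * a⁻¹ * b⁻¹ := by rw [h2]; group
    _ = i * (a * b * a⁻¹ * b⁻¹) := by rw [h1]; group

/-- `[a, b]` is unchanged when `b` is multiplied by an element of `I` -/
theorem c_mul_right {a : G} (b : G) (ha : a ∈ W2) {i : G} (hi : i ∈ I) :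
    a * (b * i) * a⁻¹ * (b * i)⁻¹ = a * b * a⁻¹ * b⁻¹ := by
  have h3 := H.W2I a⁻¹ (inv_mem ha) i hi
  calc a * (b * i) * a⁻¹ * (b * i)⁻¹ = a * b * (i * a⁻¹) * i⁻¹ * b⁻¹ := by group
    _ = a * b * a⁻¹ * b⁻¹ := by rw [← h3]; group

theorem c_mul_left (a : G) {b : G} (hb : b ∈ W8) {i : G} (hi : i ∈ I) :
    (a * i) * b * (a * i)⁻¹ * b⁻¹ = a * b * a⁻¹ * b⁻¹ := by
  have h3 := H.W8I b hb i hi
  calc (a * i) * b * (a * i)⁻¹ * b⁻¹ = a * (i * b) * i⁻¹ * a⁻¹ * b⁻¹ := by group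
    _ = a * b * a⁻¹ * b⁻¹ := by rw [← h3]; group

/-- conjugation by elements of `Z2` -/
theorem c_conj_Z2 {a b z : G} (ha : a ∈ W2) (hb : b ∈ W8) (hz : z ∈ Z2) :
    z * (a * b * a⁻¹ * b⁻¹) * z⁻¹ = a * b * a⁻¹ * b⁻¹ := by
  have h1 : z * a = a * z := H.W2c z (H.Z2_le hz) a ha
  have h2 := H.hZ2 z hz b hb
  set i := z * b * z⁻¹ * b⁻¹ with hi
  have h3 : z * b * z⁻¹ = b * i := by
    have e : z * b * z⁻¹ = i * b := by rw [hi]; group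
    rw [e]; exact (H.W8I b hb i h2).symm
  calc z * (a * b * a⁻¹ * b⁻¹) * z⁻¹ = (z * a * z⁻¹) * (z * b * z⁻¹) * (z * a * z⁻¹)⁻¹ * (z * b * z⁻¹)⁻¹ := by group
    _ = a * (b * i) * a⁻¹ * (b * i)⁻¹ := by rw [h3, h1]; group
    _ = _ := c_mul_right H b ha h2

theorem c_conj_Z8 {a b z : G} (ha : a ∈ W2) (hb : b ∈ W8) (hz : z ∈ Z8) :
    z * (a * b * a⁻¹ * b⁻¹) * z⁻¹ = a * b * a⁻¹ * b⁻¹ := by
  have h1 : z * b = b * z := H.W8c z (H.Z8_le hz) b hb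
  have h2 := H.hZ8 a ha z hz
  have h3 : z * a * z⁻¹ = a * (a * z * a⁻¹ * z⁻¹)⁻¹ := by
    have e : z * a * z⁻¹ = (a * z * a⁻¹ * z⁻¹)⁻¹ * a := by group
    rw [e]; exact (H.W2I a ha _ (inv_mem h2)).symm
  calc z * (a * b * a⁻¹ * b⁻¹) * z⁻¹ = (z * a * z⁻¹) * (z * b * z⁻¹) * (z * a * z⁻¹)⁻¹ * (z * b * z⁻¹)⁻¹ := by group
    _ = (a * (a * z * a⁻¹ * z⁻¹)⁻¹) * b * (a * (a * z * a⁻¹ * z⁻¹)⁻¹)⁻¹ * b⁻¹ := by rw [h3, h1]; group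
    _ = _ := c_mul_left H a hb (inv_mem h2)

/-- the commutator of `Z2` and `Z8` lies in `I` -/
theorem z_comm {z w : G} (hz : z ∈ Z2) (hw : w ∈ Z8) : z * w * z⁻¹ * w⁻¹ ∈ I := H.hZ2 z hz w (H.Z8_le hw)

/-- `t` moves the commutator by an element of `I` -/
theorem c_t {a b : G} (ha : a ∈ W2) (hb : b ∈ W8) :
    ∃ i ∈ I, t * (a * b * a⁻¹ * b⁻¹) * t⁻¹ = (a * b * a⁻¹ * b⁻¹) * i := by
  obtain ⟨z, hz, ez⟩ := H.W2t a ha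
  obtain ⟨w, hw, ew⟩ := H.W8t b hb
  have e1 : t * (a * b * a⁻¹ * b⁻¹) * t⁻¹ = (a * z) * (b * w) * (a * z)⁻¹ * (b * w)⁻¹ := by
    rw [← ez, ← ew]; group
  -- `z w = w z i1`
  have i1 := z_comm H hz hw
  have i2 := H.hZ2 z hz b hb
  have i3 := H.hZ8 a ha w hw
  have hza : z * a = a * z := H.W2c z (H.Z2_le hz) a ha
  have hwb : w * b = b * w := H.W8c w (H.Z8_le hw) b hb
  -- expand
  have e2 : (a * z) * (b * w) * (a * z)⁻¹ * (b * w)⁻¹ =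
      (a * (z * b * z⁻¹ * b⁻¹) * a⁻¹) * (a * b * a⁻¹ * b⁻¹) *
        (b * (a * (z * w * z⁻¹ * w⁻¹) * a⁻¹) * (a * w * a⁻¹ * w⁻¹) * b⁻¹) := by
    group
  have e4 : a * (z * b * z⁻¹ * b⁻¹) * a⁻¹ = z * b * z⁻¹ * b⁻¹ := by
    rw [H.W2I a ha _ i2]; group
  have e5 : a * (z * w * z⁻¹ * w⁻¹) * a⁻¹ = z * w * z⁻¹ * w⁻¹ := by
    rw [H.W2I a ha _ i1]; group
  have e6 : b * ((z * w * z⁻¹ * w⁻¹) * (a * w * a⁻¹ * w⁻¹)) * b⁻¹ =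
      (z * w * z⁻¹ * w⁻¹) * (a * w * a⁻¹ * w⁻¹) := by
    rw [H.W8I b hb _ (mul_mem i1 i3)]; group
  refine ⟨(z * b * z⁻¹ * b⁻¹) * ((z * w * z⁻¹ * w⁻¹) * (a * w * a⁻¹ * w⁻¹)), mul_mem i2 (mul_mem i1 i3), ?_⟩
  rw [e1, e2, e4, e5]
  have e7 : b * (z * w * z⁻¹ * w⁻¹) * (a * w * a⁻¹ * w⁻¹) * b⁻¹ =
      (z * w * z⁻¹ * w⁻¹) * (a * w * a⁻¹ * w⁻¹) := by rw [← e6]; group
  rw [e7, ← c_comm H ha hb i2, mul_assoc]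

/-- `[a, b] ∈ Z2 Z8 I` -/
theorem c_form {a b : G} (ha : a ∈ W2) (hb : b ∈ W8) :
    ∃ z2 ∈ Z2, ∃ z8 ∈ Z8, ∃ i ∈ I, a * b * a⁻¹ * b⁻¹ = z2 * z8 * i := by
  obtain ⟨i, hi, e⟩ := c_t H ha hb
  set c := a * b * a⁻¹ * b⁻¹ with hc
  have tinv : t⁻¹ = t := inv_eq_of_mul_eq_one_left H.tt
  have e1 : t * i * t⁻¹ = i := by
    have e2 : t * (t * c * t⁻¹) * t⁻¹ = c := by
      calc t * (t * c * t⁻¹) * t⁻¹ = (t * t) * c * (t * t)⁻¹ := by group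
        _ = c := by rw [H.tt]; group
    have e3 : t * (c * i) * t⁻¹ = (c * i) * (t * i * t⁻¹) := by
      calc t * (c * i) * t⁻¹ = (t * c * t⁻¹) * (t * i * t⁻¹) := by group
        _ = _ := by rw [e]
    rw [e, e3, mul_assoc] at e2
    have e4 : i * (t * i * t⁻¹) = 1 := mul_eq_left.1 e2
    have e5 := H.Isq i hi
    exact mul_left_cancel (e4.trans e5.symm)
  obtain ⟨m, hm, em⟩ := H.Ifix i hi e1
  have k1 : (c * m) * t = t * (c * m) := by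
    have : t * (c * m) * t⁻¹ = c * m := by
      calc t * (c * m) * t⁻¹ = (t * c * t⁻¹) * (t * m * t⁻¹) := by group
        _ = (c * i) * (m * i) := by rw [e, em]
        _ = c * (i * m) * i := by group
        _ = c * (m * i) * i := by rw [H.I_comm i hi m hm]
        _ = c * m * (i * i) := by group
        _ = c * m := by rw [H.Isq i hi, mul_one]
    exact (mul_inv_eq_iff_eq_mul.1 this).symm
  have k2 : ∀ j ∈ I, (c * m) * j = j * (c * m) := fun j hj => by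
    calc (c * m) * j = c * (m * j) := by group
      _ = (c * j) * m := by rw [H.I_comm m hm j hj]; group
      _ = j * (c * m) := by rw [hc, c_comm H ha hb hj]; group
  have k3 : ∀ x ∈ X, x * (c * m) = (c * m) * x := fun x hx => by
    have x1 := H.XW2 x hx a ha
    have x2 := H.XW8 x hx b hb
    have x3 := H.XW2 x hx a⁻¹ (inv_mem ha)
    have x4 := H.XW8 x hx b⁻¹ (inv_mem hb)
    have x5 := H.XI x hx m hm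
    calc x * (c * m) = (x * a) * b * a⁻¹ * b⁻¹ * m := by rw [hc]; group
      _ = a * (x * b) * a⁻¹ * b⁻¹ * m := by rw [x1]; group
      _ = a * b * (x * a⁻¹) * b⁻¹ * m := by rw [x2]; group
      _ = a * b * a⁻¹ * (x * b⁻¹) * m := by rw [x3]; group
      _ = a * b * a⁻¹ * b⁻¹ * (x * m) := by rw [x4]; group
      _ = (c * m) * x := by rw [x5, hc]; group
  obtain ⟨z2, h2, z8, h8, j, hj, ek⟩ := H.hk _ k1 k2 k3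
  refine ⟨z2, h2, z8, h8, j * m⁻¹, mul_mem hj (inv_mem hm), ?_⟩
  calc c = (c * m) * m⁻¹ := by group
    _ = _ := by rw [ek]; group

/-- **(g4), abstract**: if an element `h2` commuting with `W2` acts on `W8` without fixed points and an element `h8`
commuting with `W8` acts on `W2` without fixed points then `[W2, W8] ≤ I`. -/
theorem comm_mem {h2 h8 : G} (h2W : ∀ a ∈ W2, h2 * a = a * h2)
    (h2s : ∀ b ∈ W8, ∃ b0 ∈ W8, h2 * b0 * h2⁻¹ ∈ W8 ∧ b = b0⁻¹ * (h2 * b0 * h2⁻¹))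
    (h2Z : ∀ z ∈ Z8, h2 * z * h2⁻¹ ∈ Z8) (h2I : ∀ i ∈ I, h2 * i * h2⁻¹ ∈ I)
    (h8W : ∀ a ∈ W8, h8 * a = a * h8)
    (h8s : ∀ b ∈ W2, ∃ b0 ∈ W2, h8 * b0 * h8⁻¹ ∈ W2 ∧ b = b0⁻¹ * (h8 * b0 * h8⁻¹))
    (h8Z : ∀ z ∈ Z2, h8 * z * h8⁻¹ ∈ Z2) (h8I : ∀ i ∈ I, h8 * i * h8⁻¹ ∈ I)
    {a b : G} (ha : a ∈ W2) (hb : b ∈ W8) : a * b * a⁻¹ * b⁻¹ ∈ I := by
  -- `[a, b] ∈ Z8 I`
  have A : ∃ z ∈ Z8, ∃ i ∈ I, a * b * a⁻¹ * b⁻¹ = z * i := by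
    obtain ⟨b0, hb0, hb1, eb⟩ := h2s b hb
    obtain ⟨z2, m2, z8, m8, i, mi, e⟩ := c_form H ha hb0
    set b1 := h2 * b0 * h2⁻¹ with hb1'
    have e1 : a * b1 * a⁻¹ * b1⁻¹ = z2 * (h2 * z8 * h2⁻¹) * (h2 * i * h2⁻¹) := by
      have f1 : a * b1 * a⁻¹ * b1⁻¹ = h2 * (a * b0 * a⁻¹ * b0⁻¹) * h2⁻¹ := by
        have g1 : h2 * a * h2⁻¹ = a := by rw [h2W a ha]; group
        calc a * b1 * a⁻¹ * b1⁻¹ = (h2 * a * h2⁻¹) * b1 * (h2 * a * h2⁻¹)⁻¹ * b1⁻¹ := by rw [g1]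
          _ = _ := by rw [hb1']; group
      rw [f1, e]
      have g2 : h2 * z2 * h2⁻¹ = z2 := by rw [h2W z2 (H.Z2_le m2)]; group
      calc h2 * (z2 * z8 * i) * h2⁻¹ = (h2 * z2 * h2⁻¹) * (h2 * z8 * h2⁻¹) * (h2 * i * h2⁻¹) := by group
        _ = _ := by rw [g2]
    have e2 : a * b * a⁻¹ * b⁻¹ = b0⁻¹ * ((a * b0 * a⁻¹ * b0⁻¹)⁻¹ * (a * b1 * a⁻¹ * b1⁻¹)) * b0 := by
      rw [eb]; group
    set z8' := h2 * z8 * h2⁻¹ with hz8'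
    set i' := h2 * i * h2⁻¹ with hi'
    have mz : z8' ∈ Z8 := h2Z z8 m8
    have mi' : i' ∈ I := h2I i mi
    have e4 : (a * b0 * a⁻¹ * b0⁻¹)⁻¹ * (a * b1 * a⁻¹ * b1⁻¹) = (z8⁻¹ * z8') * (i⁻¹ * i') := by
      rw [e, e1]
      have c1 : i⁻¹ * (z8⁻¹ * z8') = (z8⁻¹ * z8') * i⁻¹ :=
        (H.W8I _ (mul_mem (inv_mem (H.Z8_le m8)) (H.Z8_le mz)) _ (inv_mem mi)).symm
      calc (z2 * z8 * i)⁻¹ * (z2 * z8' * i') = i⁻¹ * (z8⁻¹ * z8') * i' := by group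
        _ = _ := by rw [c1]; group
    refine ⟨z8⁻¹ * z8', mul_mem (inv_mem m8) mz, i⁻¹ * i', mul_mem (inv_mem mi) mi', ?_⟩
    rw [e2, e4]
    have c2 : b0⁻¹ * (z8⁻¹ * z8') = (z8⁻¹ * z8') * b0⁻¹ :=
      H.W8c _ (inv_mem hb0) _ (mul_mem (inv_mem (H.Z8_le m8)) (H.Z8_le mz))
    have c3 : b0⁻¹ * (i⁻¹ * i') = (i⁻¹ * i') * b0⁻¹ := H.W8I _ (inv_mem hb0) _ (mul_mem (inv_mem mi) mi')
    calc b0⁻¹ * ((z8⁻¹ * z8') * (i⁻¹ * i')) * b0 = (b0⁻¹ * (z8⁻¹ * z8')) * (i⁻¹ * i') * b0 := by group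
      _ = (z8⁻¹ * z8') * (b0⁻¹ * (i⁻¹ * i')) * b0 := by rw [c2]; group
      _ = _ := by rw [c3]; group
  have B : ∃ z ∈ Z2, ∃ i ∈ I, a * b * a⁻¹ * b⁻¹ = z * i := by
    obtain ⟨b0, hb0, hb1, eb⟩ := h8s a ha
    obtain ⟨z2, m2, z8, m8, i, mi, e⟩ := c_form H hb0 hb
    set b1 := h8 * b0 * h8⁻¹ with hb1'
    -- `[b1, b] = h8 [b0, b] h8⁻¹`
    have e1 : b1 * b * b1⁻¹ * b⁻¹ = (h8 * z2 * h8⁻¹) * z8 * (h8 * i * h8⁻¹) := by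
      have f1 : b1 * b * b1⁻¹ * b⁻¹ = h8 * (b0 * b * b0⁻¹ * b⁻¹) * h8⁻¹ := by
        have g1 : h8 * b * h8⁻¹ = b := by rw [h8W b hb]; group
        calc b1 * b * b1⁻¹ * b⁻¹ = b1 * (h8 * b * h8⁻¹) * b1⁻¹ * (h8 * b * h8⁻¹)⁻¹ := by rw [g1]
          _ = _ := by rw [hb1']; group
      rw [f1, e]
      have g2 : h8 * z8 * h8⁻¹ = z8 := by rw [h8W z8 (H.Z8_le m8)]; group
      calc h8 * (z2 * z8 * i) * h8⁻¹ = (h8 * z2 * h8⁻¹) * (h8 * z8 * h8⁻¹) * (h8 * i * h8⁻¹) := by group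
        _ = _ := by rw [g2]
    have hcm : b1 * b0⁻¹ = b0⁻¹ * b1 := (H.W2c _ (inv_mem hb0) _ hb1).symm
    -- `a = b1 b0⁻¹`
    have e2 : a * b * a⁻¹ * b⁻¹ = b1 * (b0⁻¹ * (b0 * b * b0⁻¹ * b⁻¹)⁻¹ * b0) * b1⁻¹ * (b1 * b * b1⁻¹ * b⁻¹) := by
      rw [eb, ← hcm]; group
    set z2' := h8 * z2 * h8⁻¹ with hz2'
    set i' := h8 * i * h8⁻¹ with hi'
    have mz : z2' ∈ Z2 := h8Z z2 m2
    have mi' : i' ∈ I := h8I i mi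
    -- conjugation of `(z2 z8 i)⁻¹` by `g := b1 b0⁻¹ ∈ W2`
    have hg : b1 * b0⁻¹ ∈ W2 := mul_mem hb1 (inv_mem hb0)
    set g := b1 * b0⁻¹ with hg'
    have e3 : b1 * (b0⁻¹ * (b0 * b * b0⁻¹ * b⁻¹)⁻¹ * b0) * b1⁻¹ = g * (z2 * z8 * i)⁻¹ * g⁻¹ := by
      rw [hg', e]; group
    have i3 := H.hZ8 g hg z8⁻¹ (inv_mem m8)
    set j := g * z8⁻¹ * g⁻¹ * (z8⁻¹)⁻¹ with hj
    have e4 : g * (z2 * z8 * i)⁻¹ * g⁻¹ = i⁻¹ * (j * z8⁻¹) * z2⁻¹ := by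
      have c1 : g * i⁻¹ * g⁻¹ = i⁻¹ := by rw [H.W2I g hg _ (inv_mem mi)]; group
      have c2 : g * z2⁻¹ * g⁻¹ = z2⁻¹ := by rw [H.W2c g hg _ (inv_mem (H.Z2_le m2))]; group
      calc g * (z2 * z8 * i)⁻¹ * g⁻¹ = (g * i⁻¹ * g⁻¹) * (g * z8⁻¹ * g⁻¹) * (g * z2⁻¹ * g⁻¹) := by group
        _ = i⁻¹ * (g * z8⁻¹ * g⁻¹) * z2⁻¹ := by rw [c1, c2]
        _ = _ := by rw [hj]; group
    -- total
    have tot : a * b * a⁻¹ * b⁻¹ = i⁻¹ * (j * z8⁻¹) * z2⁻¹ * (z2' * z8 * i') := by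
      rw [e2, e3, e4, e1]
    -- move everything
    have hz : z2⁻¹ * z2' ∈ Z2 := mul_mem (inv_mem m2) mz
    have i4 := z_comm H hz (inv_mem m8)
    set y := z2⁻¹ * z2' with hy
    -- `z8⁻¹ y z8 = y * (y⁻¹ z8⁻¹ y z8)`
    have i5 : y⁻¹ * z8⁻¹ * y * z8 ∈ I := by
      have h := z_comm H (inv_mem hz) (inv_mem m8)
      have e : y⁻¹ * z8⁻¹ * y * z8 = y⁻¹ * z8⁻¹ * (y⁻¹)⁻¹ * (z8⁻¹)⁻¹ := by group
      rw [e]; exact h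
    refine ⟨y, hz, (i⁻¹ * j) * ((y⁻¹ * z8⁻¹ * y * z8) * i'),
      mul_mem (mul_mem (inv_mem mi) i3) (mul_mem i5 mi'), ?_⟩
    have c5 : (i⁻¹ * j) * y = y * (i⁻¹ * j) := (H.W2I y (H.Z2_le hz) _ (mul_mem (inv_mem mi) i3)).symm
    calc a * b * a⁻¹ * b⁻¹ = i⁻¹ * (j * z8⁻¹) * z2⁻¹ * (z2' * z8 * i') := tot
      _ = (i⁻¹ * j) * y * (y⁻¹ * z8⁻¹ * y * z8) * i' := by rw [hy]; group
      _ = y * (i⁻¹ * j) * (y⁻¹ * z8⁻¹ * y * z8) * i' := by rw [c5]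
      _ = _ := by group
  obtain ⟨z8, m8, i, mi, e8⟩ := A
  obtain ⟨z2, m2, j, mj, e2⟩ := B
  have h : z2 * z8⁻¹ ∈ I := by
    have e : z2 * j = z8 * i := e2.symm.trans e8
    -- `z2 = z8 i j⁻¹`, so `z2 z8⁻¹ = z8 (i j⁻¹) z8⁻¹ = i j⁻¹`
    have e' : z2 = z8 * (i * j⁻¹) := by
      calc z2 = (z2 * j) * j⁻¹ := by group
        _ = _ := by rw [e]; group
    have c1 := H.W8I z8 (H.Z8_le m8) _ (mul_mem mi (inv_mem mj))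
    rw [e', c1]
    have : i * j⁻¹ * z8 * z8⁻¹ = i * j⁻¹ := by group
    rw [this]
    exact mul_mem mi (inv_mem mj)
  have h' := H.uniq z2 m2 z8⁻¹ (inv_mem m8) h
  rw [e2]
  exact mul_mem h' mj

end

end Cfsg.Agent.OddHalf.D7TwF4.PairAbs
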