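import Cfsg.Agent.OddHalf.D7TwF4.Defs
import Cfsg.Agent.KFacts.TwF4.CentR

/-!
# ODD D7, `K = ²F₄(q)`: the facts on `Y` for the commutator `[W_2, W_8]` (helper625; text: bb ODD 13028)

* `v5_one` : `Z_4 X_5 Z_6` is direct;
* `kill78` : an element of `Z_4 X_5 Z_6 X_7 Z_8` commuting with an element of `Z_2` lies in `Z_4 X_5 Z_6`;
* `form_NO` : the elements commuting with `X_4`, `X_5`, `X_6` inside `X_2 ⋯ X_8` form `Z_2 Z_8 Z_4 X_5 Z_6`.
-/

set_option autoImplicit false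
set_option linter.unusedSectionVars false

namespace Cfsg.Agent.OddHalf.D7TwF4.PairK

open Cfsg.Agent.KFacts.TwF4 Cfsg.Agent.SplitTwo.ZS Cfsg.Agent.OddHalf.D7TwF4.Defs

universe u w

variable {F : Type w} [Field F] {σ : F →+* F} {Y : Type u} [Group Y] (S : Full σ Y)

/-- the centre `Z_{2a}` is centralised by `X_{2a-4}, …, X_{2a+4}` -/
theorem comm_Zc [Finite F] {a : ℤ} {x z : Y} (hx : x ∈ J S.XZ (2 * a - 4) (2 * a + 4)) (hz : z ∈ S.Zc (a : ZMod 8)) :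
    x * z = z * x := by
  by_cases hz1 : z = 1
  · subst hz1; rw [mul_one, one_mul]
  · rw [← S.centralizer_Zc a hz hz1] at hx
    exact Subgroup.mem_centralizer_singleton_iff.1 hx

theorem comm_2 [Finite F] {x : Y} (hx : x ∈ J S.XZ (-2) 6) (u : F) : x * S.e 1 0 u = S.e 1 0 u * x := by
  have := comm_Zc S (a := 1) (x := x) (z := S.e 1 0 u) (by norm_num; exact hx) ⟨u, by norm_num⟩
  exact this

theorem comm_8 [Finite F] {x : Y} (hx : x ∈ J S.XZ 4 12) (u : F) : x * S.e 4 0 u = S.e 4 0 u * x := by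
  have := comm_Zc S (a := 4) (x := x) (z := S.e 4 0 u) (by norm_num; exact hx) ⟨u, by norm_num⟩
  exact this

theorem comm_4 [Finite F] {x : Y} (hx : x ∈ J S.XZ 0 8) (u : F) : x * S.e 2 0 u = S.e 2 0 u * x := by
  have := comm_Zc S (a := 2) (x := x) (z := S.e 2 0 u) (by norm_num; exact hx) ⟨u, by norm_num⟩
  exact this

theorem comm_6 [Finite F] {x : Y} (hx : x ∈ J S.XZ 2 10) (u : F) : x * S.e 3 0 u = S.e 3 0 u * x := by
  have := comm_Zc S (a := 3) (x := x) (z := S.e 3 0 u) (by norm_num; exact hx) ⟨u, by norm_num⟩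
  exact this

/-- `X_5` is centralised by `X_3, …, X_7` -/
theorem comm_5 {x : Y} (hx : x ∈ J S.XZ 3 7) (s : F) : x * S.o 2 s = S.o 2 s * x :=
  S.mem_centralizer_X5.1 ((J_le fun _ h1 h2 => S.X_cent h1 h2 : J S.XZ 3 7 ≤ _) hx) s

theorem V5_le_J : S.V5 ≤ J S.XZ 4 6 := by
  intro y hy
  obtain ⟨u, s, v, rfl⟩ := S.mem_V5.1 hy
  exact mul_mem (mul_mem (mem_J (S.mX4 0 u) (by norm_num) (by norm_num)) (mem_J (S.mX5 s) (by norm_num) (by norm_num)))
    (mem_J (S.mX6 0 v) (by norm_num) (by norm_num))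

/-- `Z_4 X_5 Z_6` is direct -/
theorem v5_one {x y z : F} (h : S.e 2 0 x * S.o 2 y * S.e 3 0 z = 1) : x = 0 ∧ y = 0 ∧ z = 0 := by
  have Z8 := S.zsys8
  have h1 : S.e 2 0 x = 1 := by
    refine Z8.inter_one 4 (a := 4) (b := 4) (c := 5) (d := 6) (mem_J (S.mX4 0 x) (by norm_num) (by norm_num)) ?_
      (by norm_num) (by norm_num) (by norm_num) (by norm_num) (Or.inl (by norm_num))
    have e : S.e 2 0 x = (S.o 2 y * S.e 3 0 z)⁻¹ := eq_inv_of_mul_eq_one_left (by rw [← mul_assoc]; exact h)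
    rw [e]
    exact inv_mem (mul_mem (mem_J (S.mX5 y) (by norm_num) (by norm_num)) (mem_J (S.mX6 0 z) (by norm_num) (by norm_num)))
  rw [h1, one_mul] at h
  have h2 : S.o 2 y = 1 := by
    refine Z8.inter_one 4 (a := 5) (b := 5) (c := 6) (d := 6) (mem_J (S.mX5 y) (by norm_num) (by norm_num)) ?_
      (by norm_num) (by norm_num) (by norm_num) (by norm_num) (Or.inl (by norm_num))
    rw [eq_inv_of_mul_eq_one_left h]
    exact inv_mem (mem_J (S.mX6 0 z) (by norm_num) (by norm_num))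
  rw [h2, one_mul] at h
  exact ⟨(S.e_eq_one h1).2, S.o_eq_one h2, (S.e_eq_one h).2⟩

/-- `x_2'(u) x_7(s) = x_7(s) x_2'(u) x_4'(u s)` -/
theorem r27' (u s : F) : S.e 1 0 u * S.o 3 s = S.o 3 s * S.e 1 0 u * S.e 2 0 (u * s) := by
  have h : S.e 1 0 u * S.o 3 s = S.o 3 s * S.e 1 0 u * S.e 2 0 (0 * σ 0 * s + u * s) * S.o 2 (σ 0 * s) *
    S.e 3 0 (0 * σ s) := S.e_o2 1 0 u s
  simp only [map_zero, zero_mul, mul_zero, zero_add, S.o_zero, S.e_zero, mul_one] at h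
  exact h

theorem r28' (u v : F) : S.e 1 0 u * S.e 4 0 v = S.e 4 0 v * S.e 1 0 u *
    (S.e 2 0 (σ u * v) * S.o 2 (u * v) * S.e 3 0 (u * σ v)) := by
  have h := S.rel.r28 0 u 0 v
  simp only [map_zero, zero_mul, mul_zero, add_zero, zero_add, S.o_zero, mul_one] at h
  rw [h]; group

/-- an element of `Z_4 X_5 Z_6 X_7 Z_8` commuting with an element of `Z_2` -/
theorem kill78 [Finite F] {u : F} (hu : u ≠ 0) {y : Y} (hy : y ∈ S.V5) {s v : F}
    (h : (y * (S.o 3 s * S.e 4 0 v)) * S.e 1 0 u = S.e 1 0 u * (y * (S.o 3 s * S.e 4 0 v))) : s = 0 ∧ v = 0 := by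
  have hyJ := V5_le_J S hy
  have h1 : y * S.e 1 0 u = S.e 1 0 u * y := comm_2 S (J_mono (by norm_num) (by norm_num) hyJ) u
  have h2 : S.o 3 s * S.e 4 0 v * S.e 1 0 u = S.e 1 0 u * (S.o 3 s * S.e 4 0 v) := by
    have : y * (S.o 3 s * S.e 4 0 v * S.e 1 0 u) = y * (S.e 1 0 u * (S.o 3 s * S.e 4 0 v)) := by
      calc y * (S.o 3 s * S.e 4 0 v * S.e 1 0 u) = (y * (S.o 3 s * S.e 4 0 v)) * S.e 1 0 u := by group
        _ = (S.e 1 0 u * y) * (S.o 3 s * S.e 4 0 v) := by rw [h]; group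
        _ = y * (S.e 1 0 u * (S.o 3 s * S.e 4 0 v)) := by rw [← h1]; group
    exact mul_left_cancel this
  have h3 : S.e 1 0 u * (S.o 3 s * S.e 4 0 v) = S.o 3 s * S.e 4 0 v * S.e 1 0 u *
      ((S.e 2 0 (σ u * v) * S.o 2 (u * v) * S.e 3 0 (u * σ v)) * S.e 2 0 (u * s)) := by
    have c4 : S.e 2 0 (u * s) * S.e 4 0 v = S.e 4 0 v * S.e 2 0 (u * s) :=
      (comm_4 S (mem_J (S.mX8 0 v) (by norm_num) (by norm_num)) _).symm
    calc S.e 1 0 u * (S.o 3 s * S.e 4 0 v) = (S.e 1 0 u * S.o 3 s) * S.e 4 0 v := by group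
      _ = S.o 3 s * S.e 1 0 u * (S.e 2 0 (u * s) * S.e 4 0 v) := by rw [r27' S]; group
      _ = S.o 3 s * (S.e 1 0 u * S.e 4 0 v) * S.e 2 0 (u * s) := by rw [c4]; group
      _ = _ := by rw [r28' S]; group
  rw [h3] at h2
  have h4 : (S.e 2 0 (σ u * v) * S.o 2 (u * v) * S.e 3 0 (u * σ v)) * S.e 2 0 (u * s) = 1 := by
    exact (mul_eq_left.1 h2.symm)
  have h5 : S.e 2 0 (σ u * v + u * s) * S.o 2 (u * v) * S.e 3 0 (u * σ v) = 1 := by
    have m : S.o 2 (u * v) * S.e 3 0 (u * σ v) ∈ J S.XZ 0 8 :=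
      mul_mem (mem_J (S.mX5 _) (by norm_num) (by norm_num)) (mem_J (S.mX6 0 _) (by norm_num) (by norm_num))
    have c := comm_4 S m (u * s)
    rw [← S.e_mul_Zc]
    calc S.e 2 0 (σ u * v) * S.e 2 0 (u * s) * S.o 2 (u * v) * S.e 3 0 (u * σ v) =
        S.e 2 0 (σ u * v) * (S.e 2 0 (u * s) * (S.o 2 (u * v) * S.e 3 0 (u * σ v))) := by group
      _ = (S.e 2 0 (σ u * v) * S.o 2 (u * v) * S.e 3 0 (u * σ v)) * S.e 2 0 (u * s) := by rw [← c]; group
      _ = 1 := h4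
  obtain ⟨h6, h7, -⟩ := v5_one S h5
  have hv : v = 0 := (mul_eq_zero.1 h7).resolve_left hu
  subst hv
  rw [mul_zero, zero_add] at h6
  exact ⟨(mul_eq_zero.1 h6).resolve_left hu, rfl⟩

include S in
/-- `σ` is not the identity -/
theorem exists_moved [Finite F] (hF : 8 ≤ Nat.card F) : ∃ x, σ x ≠ x := by
  by_contra hcon
  push Not at hcon
  have h4 : ∀ r : F, r = 0 ∨ r = 1 := by
    intro r
    have h5 := S.sq r
    rw [hcon, hcon, pow_two] at h5
    rcases eq_or_ne r 0 with h6 | h6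
    · exact Or.inl h6
    · exact Or.inr (mul_left_cancel₀ h6 (by rw [mul_one]; exact h5.symm))
  have h5 : Nat.card F ≤ 2 := by
    classical
    have : Fintype F := Fintype.ofFinite F
    rw [Nat.card_eq_fintype_card, ← Finset.card_univ]
    calc (Finset.univ : Finset F).card ≤ ({0, 1} : Finset F).card := Finset.card_le_card fun r _ => by
          rcases h4 r with h | h <;> simp [h]
      _ ≤ 2 := Finset.card_le_two
  omega

theorem step {x y E d d' : Y} (h1 : x * E = E * x * d) (h2 : y * E = E * y * d') (h3 : d * y = y * d) :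
    (x * y) * E = E * (x * y) * (d * d') := by
  calc (x * y) * E = x * (y * E) := by group
    _ = (x * E) * y * d' := by rw [h2]; group
    _ = E * x * (d * y) * d' := by rw [h1]; group
    _ = _ := by rw [h3]; group

/-- `r ∈ X_3 ⋯ X_7` commuting with `X_4` and `X_6` lies in `Z_4 X_5 Z_6` -/
theorem mem_V5_of_comm [Finite F] (hF : 8 ≤ Nat.card F) {r : Y} (hr : r ∈ J S.XZ 3 7)
    (h4 : ∀ p, r * S.e 2 p 0 = S.e 2 p 0 * r) (h6 : ∀ p, r * S.e 3 p 0 = S.e 3 p 0 * r) : r ∈ S.V5 := by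
  have Z8 := S.zsys8
  have c2 : ∀ x : F, x + x = 0 := S.add_self
  obtain ⟨_, hx3, r1, hr1, rfl⟩ := Z8.split_ll (a := 3) (b := 7) (by norm_num) (by norm_num) hr
  obtain ⟨_, hx4, r2, hr2, rfl⟩ := Z8.split_ll (a := 3 + 1) (b := 7) (by norm_num) (by norm_num) hr1
  obtain ⟨_, hx5, r3, hr3, rfl⟩ := Z8.split_ll (a := 3 + 1 + 1) (b := 7) (by norm_num) (by norm_num) hr2
  obtain ⟨_, hx6, r4, hr4, rfl⟩ := Z8.split_ll (a := 3 + 1 + 1 + 1) (b := 7) (by norm_num) (by norm_num) hr3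
  have hx7 := mem_of_J_self hr4 (by norm_num)
  norm_num at hx4 hx5 hx6 hx7
  obtain ⟨a, rfl⟩ := S.X3 hx3
  obtain ⟨p, u, rfl⟩ := S.X4 hx4
  obtain ⟨b, rfl⟩ := S.X5 hx5
  obtain ⟨q, v, rfl⟩ := S.X6 hx6
  obtain ⟨c, rfl⟩ := S.X7 hx7
  -- commuting with `X_6`
  have key6 : ∀ q', a * q' = 0 ∧ p * q' = 0 ∧ q * σ q' + q' * σ q = 0 := by
    intro q'
    have e1 : S.o 3 c * S.e 3 q' 0 = S.e 3 q' 0 * S.o 3 c * 1 := by rw [mul_one]; exact (S.e_o0 3 q' 0 c).symm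
    have e2 : S.e 3 q v * S.e 3 q' 0 = S.e 3 q' 0 * S.e 3 q v * S.e 3 0 (q * σ q' + q' * σ q) := by
      rw [S.e_mul, S.e_mul, S.e_mul, map_zero, mul_zero]
      congr 1
      · ring
      · linear_combination (-1 : F) * c2 (q' * σ q)
    have e3 : S.o 2 b * S.e 3 q' 0 = S.e 3 q' 0 * S.o 2 b * 1 := by rw [mul_one]; exact S.o_e1 2 b q' 0
    have e4 : S.e 2 p u * S.e 3 q' 0 = S.e 3 q' 0 * S.e 2 p u * S.o 2 (p * q') := S.e_e1 2 p u q' 0
    have e5 : S.o 1 a * S.e 3 q' 0 = S.e 3 q' 0 * S.o 1 a * S.e 2 0 (a * q') := S.o_e2 1 a q' 0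
    have m7 : S.o 3 c ∈ S.XZ 7 := S.mX7 c
    have s1 := step e2 e1 (comm_6 S (mem_J m7 (by norm_num) (by norm_num)) _).symm
    have s2 := step e3 s1 (by rw [one_mul, mul_one])
    have s3 := step e4 s2 (comm_5 S (mul_mem (mem_J (S.mX5 b) (by norm_num) (by norm_num))
      (mul_mem (mem_J (S.mX6 q v) (by norm_num) (by norm_num)) (mem_J m7 (by norm_num) (by norm_num)))) _).symm
    have s4 := step e5 s3 (comm_4 S (mul_mem (mem_J (S.mX4 p u) (by norm_num) (by norm_num))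
      (mul_mem (mem_J (S.mX5 b) (by norm_num) (by norm_num))
      (mul_mem (mem_J (S.mX6 q v) (by norm_num) (by norm_num)) (mem_J m7 (by norm_num) (by norm_num))))) _).symm
    rw [h6 q'] at s4
    have s5 := mul_eq_left.1 s4.symm
    rw [one_mul, mul_one] at s5
    exact v5_one S (by rw [mul_assoc]; exact s5)
  obtain ⟨ha, hp, hq⟩ := key6 1
  rw [mul_one] at ha hp
  rw [map_one, mul_one, one_mul] at hq
  have hq0 : q = 0 := by
    by_contra hq0
    obtain ⟨x, hx⟩ := exists_moved S hF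
    apply hx
    obtain ⟨-, -, h⟩ := key6 x
    have h7 : σ q = q := by linear_combination hq - c2 q
    rw [h7] at h
    have h8 : q * σ x = q * x := by linear_combination h - c2 (q * x)
    exact mul_left_cancel₀ hq0 h8
  subst ha hp hq0
  rw [S.o_zero, one_mul] at h4 ⊢
  -- commuting with `X_4`
  have hc : c = 0 := by
    have e1 : S.o 3 c * S.e 2 1 0 = S.e 2 1 0 * S.o 3 c * S.e 3 0 c := by
      have h : S.e 2 1 0 * S.o 3 c = S.o 3 c * S.e 2 1 0 * S.e 3 0 (1 * c) := S.e_o1 2 1 0 c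
      rw [h, one_mul]
      have h1 : S.e 3 0 c * S.e 3 0 c = 1 := by rw [S.e_mul_Zc, c2, S.e_zero]
      calc S.o 3 c * S.e 2 1 0 = S.o 3 c * S.e 2 1 0 * (S.e 3 0 c * S.e 3 0 c) := by rw [h1, mul_one]
        _ = _ := by group
    have e2 : S.e 3 0 v * S.e 2 1 0 = S.e 2 1 0 * S.e 3 0 v * 1 := by
      rw [mul_one]
      exact (comm_6 S (mem_J (S.mX4 1 0) (by norm_num) (by norm_num)) v).symm
    have e3 : S.o 2 b * S.e 2 1 0 = S.e 2 1 0 * S.o 2 b * 1 := by rw [mul_one]; exact (S.e_o0 2 1 0 b).symm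
    have e4 : S.e 2 0 u * S.e 2 1 0 = S.e 2 1 0 * S.e 2 0 u * 1 := by
      rw [mul_one]
      exact (comm_4 S (mem_J (S.mX4 1 0) (by norm_num) (by norm_num)) u).symm
    have s1 := step e2 e1 (by rw [one_mul, mul_one])
    have s2 := step e3 s1 (by rw [one_mul, mul_one])
    have s3 := step e4 s2 (by rw [one_mul, mul_one])
    rw [h4 1] at s3
    have s5 := mul_eq_left.1 s3.symm
    rw [one_mul, one_mul, one_mul] at s5
    exact (S.e_eq_one s5).2
  subst hc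
  rw [S.o_zero, mul_one]
  exact S.mem_V5.2 ⟨u, b, v, by rw [mul_assoc]⟩

/-- an element of `NO` commuting with `X_4` and `X_6` -/
theorem form_NO [Finite F] (hF : 8 ≤ Nat.card F) {y : Y} (hy : y ∈ S.NO)
    (h4 : ∀ x ∈ S.XZ 4, y * x = x * y) (h6 : ∀ x ∈ S.XZ 6, y * x = x * y) :
    ∃ u v, ∃ j ∈ S.V5, y = S.e 1 0 u * S.e 4 0 v * j := by
  obtain ⟨u, v, r, hr, rfl⟩ := S.mem_NO_iff.1 hy
  have key : ∀ x, x ∈ J S.XZ 4 6 → (S.e 1 0 u * r * S.e 4 0 v) * x = x * (S.e 1 0 u * r * S.e 4 0 v) → r * x = x * r := by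
    intro x hx h
    have h1 := comm_2 S (J_mono (by norm_num) (by norm_num) hx) u
    have h2 := comm_8 S (J_mono (by norm_num) (by norm_num) hx) v
    have h3 : S.e 1 0 u * (r * x) * S.e 4 0 v = S.e 1 0 u * (x * r) * S.e 4 0 v := by
      calc S.e 1 0 u * (r * x) * S.e 4 0 v = S.e 1 0 u * r * (x * S.e 4 0 v) := by group
        _ = (S.e 1 0 u * r * S.e 4 0 v) * x := by rw [h2]; group
        _ = (x * S.e 1 0 u) * r * S.e 4 0 v := by rw [h]; group
        _ = _ := by rw [h1]; group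
    exact mul_left_cancel (mul_right_cancel h3)
  have hrV : r ∈ S.V5 := mem_V5_of_comm S hF hr
    (fun p => key _ (mem_J (S.mX4 p 0) (by norm_num) (by norm_num)) (h4 _ (S.mX4 p 0)))
    (fun p => key _ (mem_J (S.mX6 p 0) (by norm_num) (by norm_num)) (h6 _ (S.mX6 p 0)))
  refine ⟨u, v, r, hrV, ?_⟩
  have := comm_8 S (J_mono (by norm_num) (by norm_num) (V5_le_J S hrV)) v
  rw [mul_assoc, this, ← mul_assoc]

/-- `Z_2 Z_8 ∩ Z_4 X_5 Z_6 = 1` -/
theorem uniq {u v : F} (h : S.e 1 0 u * S.e 4 0 v ∈ S.V5) : u = 0 := by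
  have Z8 := S.zsys8
  have h1 := V5_le_J S h
  have h2 : S.e 1 0 u = 1 := by
    refine Z8.inter_one 2 (a := 2) (b := 2) (c := 4) (d := 8) (mem_J (S.mX2 0 u) (by norm_num) (by norm_num)) ?_
      (by norm_num) (by norm_num) (by norm_num) (by norm_num) (Or.inl (by norm_num))
    have e : S.e 1 0 u = (S.e 1 0 u * S.e 4 0 v) * (S.e 4 0 v)⁻¹ := by group
    rw [e]
    exact mul_mem (J_mono (by norm_num) (by norm_num) h1) (inv_mem (mem_J (S.mX8 0 v) (by norm_num) (by norm_num)))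
  exact (S.e_eq_one h2).2

end Cfsg.Agent.OddHalf.D7TwF4.PairK
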