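import Cfsg.Agent.OddHalf.D7TwF4.Fab
import Cfsg.Agent.OddHalf.D7TwF4.Fab2Defs
import Cfsg.Agent.OddHalf.D7TwF4.PairAbs
import Cfsg.Agent.OddHalf.D7TwF4.PairK
import Cfsg.Agent.OddHalf.D7TwF4.Growth.Tools
import Cfsg.Agent.KFacts.TwF4.Inv

/-!
# ODD D7, `K = ²F₄(q)`, `q ≥ 8`: `[W_2, W_8] ≤ W_4 W_5 W_6` and the triangle relation (helper625; text: bb ODD 13028, (g4), (g5))

* `w28`, `w24` : the commutator at 135 degrees (all frames);
* `tri18`, `tri` : for `1 ≠ g ∈ X_1` there is `h ∈ X_9` with `W_8 ^ (g h) = W_2` (all frames).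
-/

set_option autoImplicit false
set_option linter.unusedSectionVars false

namespace Cfsg.Agent.OddHalf.D7TwF4.Pair

open Cfsg.Agent.KFacts.TwF4 Cfsg.Agent.SplitTwo.ZS Cfsg.Agent.OddHalf.D7TwF4.Defs Cfsg.Agent.OddHalf.D7TwF4.Fab2
open Cfsg.Agent.OddHalf.D7TwF4.Growth.Defs (Cm Cl Nz EK)
open Cfsg.Agent.OddHalf.D7TwF4.Growth.Tools (Dbl dbl_W)

universe u v w

/-! ### elementary abelian groups -/

section ea

variable {G : Type v} [Group G]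

/-- elementary abelian of exponent 2 -/
def EA (A : Subgroup G) : Prop := Cm A A ∧ ∀ x ∈ A, x * x = 1

theorem EA.sup {A B : Subgroup G} (hA : EA A) (hB : EA B) (h : Cm A B) : EA (A ⊔ B) := by
  refine ⟨Cm.sup (Cm.sup' hA.1 h) (Cm.sup' h.symm hB.1), ?_⟩
  intro x hx
  obtain ⟨a, ha, b, hb, rfl⟩ := Growth.Defs.mem_sup (h.symm.nz) hx
  have h1 := h a ha b hb
  calc a * b * (a * b) = a * (b * a) * b := by group
    _ = (a * a) * (b * b) := by rw [← h1]; group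
    _ = 1 := by rw [hA.2 a ha, hB.2 b hb, mul_one]

theorem map_eq_of {V : ℤ → Subgroup G} {g : G} {j k : ℤ} (h : ∀ v, v ∈ V j ↔ g * v * g⁻¹ ∈ V k) :
    (V j).map (MulAut.conj g).toMonoidHom = V k := by
  ext x
  constructor
  · rintro ⟨y, hy, rfl⟩
    exact (h y).1 hy
  · intro hx
    refine ⟨g⁻¹ * x * g, ?_, ?_⟩
    · show g⁻¹ * x * g ∈ V j
      rw [h]
      have e : g * (g⁻¹ * x * g) * g⁻¹ = x := by group
      rwa [e]
    · show g * (g⁻¹ * x * g) * g⁻¹ = x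
      group

theorem mem_map_conj {A : Subgroup G} {g x : G} : g * x * g⁻¹ ∈ A.map (MulAut.conj g).toMonoidHom ↔ x ∈ A := by
  constructor
  · rintro ⟨y, hy, h⟩
    have h1 : g * y * g⁻¹ = g * x * g⁻¹ := h
    rwa [← mul_left_cancel (mul_right_cancel h1)]
  · exact fun hx => ⟨x, hx, rfl⟩

end ea

variable {F : Type w} [Field F] {σ : F →+* F} {Y : Type u} [Group Y] {G : Type v} [Group G]
variable {S : Full σ Y} {i : Y →* G} {t : G} {W V : ℤ → Subgroup G}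

/-! ### conjugation by `t` -/

/-- conjugation by `t` -/
def tau (t : G) : G →* G := (MulAut.conj t).toMonoidHom

theorem tau_eq (P : Pos S i t) (x : G) : tau t x = t * x * t := by
  show t * x * t⁻¹ = _
  rw [P.t_inv]

theorem tau_tau (P : Pos S i t) (x : G) : tau t (tau t x) = x := by
  rw [tau_eq P, tau_eq P]
  calc t * (t * x * t) * t = (t * t) * x * (t * t) := by group
    _ = x := by rw [P.tt, one_mul, mul_one]

theorem tau_i (P : Pos S i t) (y : Y) : tau t (i y) = i y := by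
  rw [tau_eq P, P.ti, mul_assoc, P.tt, mul_one]

/-! ### the doubles -/

section dbl

variable (P : Pos S i t) (E : VData S i t W V)
include P E

theorem inv_V {k : ℤ} {v : G} (hv : v ∈ V k) : v⁻¹ = v := inv_eq_of_mul_eq_one_left (E.sq k v hv)

theorem dblV (k : ℤ) : Dbl (tau t) (V k) ((Zk S k).map i) := by
  refine dbl_W (tau_tau P) (E.ab k) (E.sq k) (fun w hw => ?_) ?_ ?_ (fun w hw h => ?_) ?_
  · rw [tau_eq P]; exact E.tinv k w hw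
  · rintro _ ⟨y, -, rfl⟩
    exact tau_i P y
  · rintro _ ⟨y, hy, rfl⟩
    exact E.le k y hy
  · rw [tau_eq P] at h
    obtain ⟨y, hy, rfl⟩ := E.fix k w hw h
    exact ⟨y, hy, rfl⟩
  · rintro _ ⟨y, hy, rfl⟩
    obtain ⟨v, hv, h⟩ := E.sur k y hy
    exact ⟨v, hv, by rw [tau_eq P, h, inv_mul_cancel_left]⟩

theorem dbl_step {R : Subgroup G} {M : Subgroup Y} {k : ℤ} (h : Dbl (tau t) R (M.map i)) (hM : M ≤ J S.XZ 4 (k - 1))
    (h5 : 5 ≤ k) (hk : k ≤ 11) (hn : Cm (V k) R) : Dbl (tau t) (R ⊔ V k) ((M ⊔ Zk S k).map i) := by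
  rw [Subgroup.map_sup]
  refine h.sup_W (tau_tau P) (E.ab k) (E.sq k) (fun w hw => ?_) ?_ ?_ (fun w hw h => ?_) ?_ ?_ hn.nz
  · rw [tau_eq P]; exact E.tinv k w hw
  · rintro _ ⟨y, -, rfl⟩
    exact tau_i P y
  · rintro _ ⟨y, hy, rfl⟩
    exact E.le k y hy
  · rw [tau_eq P] at h
    obtain ⟨y, hy, rfl⟩ := E.fix k w hw h
    exact ⟨y, hy, rfl⟩
  · rintro _ ⟨y, hy, rfl⟩
    obtain ⟨v, hv, h⟩ := E.sur k y hy
    exact ⟨v, hv, by rw [tau_eq P, h, inv_mul_cancel_left]⟩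
  · rw [eq_bot_iff]
    rintro x ⟨⟨a, ha, rfl⟩, b, hb, hab⟩
    have h1 : b = a := P.inj hab
    subst h1
    have h2 : b = 1 := S.zsys8.inter_one 4 (a := 4) (b := k - 1) (c := k) (d := k) (hM ha)
      (mem_J (Zk_le S k hb) le_rfl le_rfl) (by omega) (by omega) (by omega) (by omega) (Or.inl (by omega))
    rw [h2, map_one]
    exact one_mem _

/-- `V 4, …, V 8` commute -/
theorem cm48 {j k : ℤ} (h1 : 4 ≤ j) (h2 : j ≤ 8) (h3 : 4 ≤ k) (h4 : k ≤ 8) : Cm (V j) (V k) := by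
  intro a ha b hb
  have e1 := (E.rot (-1) j a).1 ha
  have e2 := (E.rot (-1) k b).1 hb
  have h := E.cm _ _ (by omega) (by omega) (by omega) (by omega) _ e1 _ e2
  set g := i (S.rot ^ (-1 : ℤ)) with hg
  calc a * b = g⁻¹ * ((g * a * g⁻¹) * (g * b * g⁻¹)) * g := by group
    _ = b * a := by rw [h]; group

theorem ea_V (k : ℤ) : EA (V k) := ⟨E.ab k, E.sq k⟩

theorem ea_45 : EA (V 4 ⊔ V 5) := (ea_V P E 4).sup (ea_V P E 5) (E.cm 4 5 (by norm_num) (by norm_num) (by norm_num) (by norm_num))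

theorem ea_I : EA (V 4 ⊔ V 5 ⊔ V 6) := (ea_45 P E).sup (ea_V P E 6)
  (Cm.sup (cm48 P E (by norm_num) (by norm_num) (by norm_num) (by norm_num))
    (cm48 P E (by norm_num) (by norm_num) (by norm_num) (by norm_num)))

/-- `V 4, …, V 8` commute with `V 4 V 5 V 6` -/
theorem cm_I {k : ℤ} (h1 : 4 ≤ k) (h2 : k ≤ 8) : Cm (V k) (V 4 ⊔ V 5 ⊔ V 6) :=
  Cm.sup' (Cm.sup' (cm48 P E h1 h2 (by norm_num) (by norm_num)) (cm48 P E h1 h2 (by norm_num) (by norm_num)))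
    (cm48 P E h1 h2 (by norm_num) (by norm_num))

/-- `V 2, …, V 6` commute with `V 4 V 5 V 6` -/
theorem cm_I' {k : ℤ} (h1 : 2 ≤ k) (h2 : k ≤ 6) : Cm (V k) (V 4 ⊔ V 5 ⊔ V 6) :=
  Cm.sup' (Cm.sup' (E.cm _ _ h1 h2 (by norm_num) (by norm_num)) (E.cm _ _ h1 h2 (by norm_num) (by norm_num)))
    (E.cm _ _ h1 h2 (by norm_num) (by norm_num))

theorem cm_I7 {k : ℤ} (h1 : 4 ≤ k) (h2 : k ≤ 8) : Cm (V k) (V 4 ⊔ V 5 ⊔ V 6 ⊔ V 7) :=
  Cm.sup' (cm_I P E h1 h2) (cm48 P E h1 h2 (by norm_num) (by norm_num))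

theorem ea_A : EA (V 4 ⊔ V 5 ⊔ V 6 ⊔ V 7 ⊔ V 8) :=
  ((ea_I P E).sup (ea_V P E 7) (cm_I P E (by norm_num) (by norm_num)).symm).sup (ea_V P E 8)
    (cm_I7 P E (by norm_num) (by norm_num)).symm

end dbl

/-! ### the fixed points -/

theorem zk456 (S : Full σ Y) : Zk S 4 ⊔ Zk S 5 ⊔ Zk S 6 = S.V5 := by
  have h4 : Zk S 4 = S.Zc 2 := by have := Zk_even S 2; norm_num at this; exact this
  have h6 : Zk S 6 = S.Zc 3 := by have := Zk_even S 3; norm_num at this; exact this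
  have h5 : Zk S 5 = S.XZ 5 := by have := Zk_odd S 2; norm_num at this; exact this
  rw [h4, h5, h6]
  apply le_antisymm
  · refine sup_le (sup_le ?_ ?_) ?_
    · rintro _ ⟨u, rfl⟩
      exact S.mem_V5.2 ⟨u, 0, 0, by rw [S.o_zero, S.e_zero, mul_one, mul_one]⟩
    · intro y hy
      obtain ⟨s, rfl⟩ := S.X5 hy
      exact S.mem_V5.2 ⟨0, s, 0, by rw [S.e_zero, S.e_zero, mul_one, one_mul]⟩
    · rintro _ ⟨v, rfl⟩
      exact S.mem_V5.2 ⟨0, 0, v, by rw [S.o_zero, S.e_zero, one_mul, one_mul]⟩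
  · intro y hy
    obtain ⟨u, s, v, rfl⟩ := S.mem_V5.1 hy
    exact mul_mem (mul_mem (Subgroup.mem_sup_left (Subgroup.mem_sup_left ⟨u, rfl⟩))
      (Subgroup.mem_sup_left (Subgroup.mem_sup_right (S.mX5 s)))) (Subgroup.mem_sup_right ⟨v, rfl⟩)

theorem mem_48 [Finite F] {y : Y} (hy : y ∈ S.V5 ⊔ Zk S 7 ⊔ Zk S 8) : ∃ j ∈ S.V5, ∃ s v, y = j * (S.o 3 s * S.e 4 0 v) := by
  have h8 : Zk S 8 = S.Zc 4 := by have := Zk_even S 4; norm_num at this; exact this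
  have h7 : Zk S 7 = S.XZ 7 := by have := Zk_odd S 3; norm_num at this; exact this
  rw [h7, h8] at hy
  have c7 : Cm (S.XZ 7) S.V5 := by
    intro x hx j hj
    obtain ⟨u, s, v, rfl⟩ := S.mem_V5.1 hj
    have e1 := PairK.comm_4 S (mem_J hx (by norm_num) (by norm_num)) u
    have e2 := PairK.comm_5 S (mem_J hx (by norm_num) (by norm_num)) s
    have e3 := PairK.comm_6 S (mem_J hx (by norm_num) (by norm_num)) v
    calc x * (S.e 2 0 u * S.o 2 s * S.e 3 0 v) = (x * S.e 2 0 u) * S.o 2 s * S.e 3 0 v := by group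
      _ = S.e 2 0 u * (x * S.o 2 s) * S.e 3 0 v := by rw [e1]; group
      _ = S.e 2 0 u * S.o 2 s * (x * S.e 3 0 v) := by rw [e2]; group
      _ = _ := by rw [e3]; group
  have c8 : Cm (S.Zc 4) (S.V5 ⊔ S.XZ 7) := by
    rintro _ ⟨v, rfl⟩ x hx
    have hx' : x ∈ J S.XZ 4 12 := (sup_le (le_trans (PairK.V5_le_J S) (J_mono (by norm_num) (by norm_num)))
      (X_le_J (by norm_num) (by norm_num))) hx
    exact (PairK.comm_8 S hx' v).symm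
  obtain ⟨a, ha, _, ⟨v, rfl⟩, rfl⟩ := Growth.Defs.mem_sup c8.nz hy
  obtain ⟨j, hj, b, hb, rfl⟩ := Growth.Defs.mem_sup c7.nz ha
  obtain ⟨s, rfl⟩ := S.X7 hb
  exact ⟨j, hj, s, v, by rw [mul_assoc]⟩

section main

variable (P : Pos S i t) (D : WData S i t W) (E : VData S i t W V)
include P D E

theorem dbl_I : Dbl (tau t) (V 4 ⊔ V 5 ⊔ V 6) (S.V5.map i) := by
  rw [← zk456 S]
  refine dbl_step P E (dbl_step P E (dblV P E 4) ?_ (by norm_num) (by norm_num) ?_) ?_ (by norm_num) (by norm_num) ?_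
  · exact le_trans (Zk_le S 4) (X_le_J (by norm_num) (by norm_num))
  · exact cm48 P E (by norm_num) (by norm_num) (by norm_num) (by norm_num)
  · exact sup_le (le_trans (Zk_le S 4) (X_le_J (by norm_num) (by norm_num)))
      (le_trans (Zk_le S 5) (X_le_J (by norm_num) (by norm_num)))
  · exact Cm.sup' (cm48 P E (by norm_num) (by norm_num) (by norm_num) (by norm_num))
      (cm48 P E (by norm_num) (by norm_num) (by norm_num) (by norm_num))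

theorem dbl_A : Dbl (tau t) (V 4 ⊔ V 5 ⊔ V 6 ⊔ V 7 ⊔ V 8) ((S.V5 ⊔ Zk S 7 ⊔ Zk S 8).map i) := by
  refine dbl_step P E (dbl_step P E (dbl_I P D E) ?_ (by norm_num) (by norm_num) ?_) ?_ (by norm_num) (by norm_num) ?_
  · exact le_trans (PairK.V5_le_J S) (J_mono (by norm_num) (by norm_num))
  · exact cm_I P E (by norm_num) (by norm_num)
  · exact sup_le (le_trans (PairK.V5_le_J S) (J_mono (by norm_num) (by norm_num)))
      (le_trans (Zk_le S 7) (X_le_J (by norm_num) (by norm_num)))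
  · exact cm_I7 P E (by norm_num) (by norm_num)

/-- `i (rot)` moves `V 2 … V 6` to `V 4 … V 8` -/
theorem map_rot : (V 2 ⊔ V 3 ⊔ V 4 ⊔ V 5 ⊔ V 6).map (MulAut.conj (i (S.rot ^ (1 : ℤ)))).toMonoidHom =
    V 4 ⊔ V 5 ⊔ V 6 ⊔ V 7 ⊔ V 8 := by
  have h : ∀ k : ℤ, (V k).map (MulAut.conj (i (S.rot ^ (1 : ℤ)))).toMonoidHom = V (k + 2 * 1) :=
    fun k => map_eq_of fun v => E.rot 1 k v
  simp only [Subgroup.map_sup, h]
  norm_num

theorem map_n1 : (V 4 ⊔ V 5 ⊔ V 6).map (MulAut.conj (i S.n1)).toMonoidHom = V 4 ⊔ V 5 ⊔ V 6 := by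
  have h : ∀ k : ℤ, (V k).map (MulAut.conj (i S.n1)).toMonoidHom = V (10 - k) :=
    fun k => map_eq_of fun v => E.n1 k v
  simp only [Subgroup.map_sup, h]
  norm_num
  rw [sup_comm (V 6) (V 5), sup_assoc, sup_comm (V 5) (V 6 ⊔ V 4), sup_comm (V 6) (V 4), sup_assoc, sup_comm (V 6) (V 5),
    ← sup_assoc]

/-- `X_2, …, X_10` normalise `V 4 … V 8` -/
theorem x2_A {k : ℤ} (h1 : 2 ≤ k) (h2 : k ≤ 10) {x : Y} (hx : x ∈ S.XZ k) {a : G}
    (ha : a ∈ V 4 ⊔ V 5 ⊔ V 6 ⊔ V 7 ⊔ V 8) : i x * a * (i x)⁻¹ ∈ V 4 ⊔ V 5 ⊔ V 6 ⊔ V 7 ⊔ V 8 := by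
  rw [← map_rot P D E] at ha ⊢
  obtain ⟨b, hb, rfl⟩ := ha
  have h3 := S.rotk_X' (-1) k hx
  have h4 := E.x8 _ (by omega) (by omega) _ h3 b hb
  refine ⟨_, h4, ?_⟩
  have e1 : i (S.rot ^ (-1 : ℤ) * x * (S.rot ^ (-1 : ℤ))⁻¹) = (i (S.rot ^ (1 : ℤ)))⁻¹ * i x * i (S.rot ^ (1 : ℤ)) := by
    rw [zpow_neg, inv_inv, map_mul, map_mul, map_inv]
  rw [e1]
  show i (S.rot ^ (1 : ℤ)) * (_) * (i (S.rot ^ (1 : ℤ)))⁻¹ = i x * (i (S.rot ^ (1 : ℤ)) * b * (i (S.rot ^ (1 : ℤ)))⁻¹) * (i x)⁻¹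
  group

/-- **`[Z_2, W_8] ≤ W_4 W_5 W_6`** -/
theorem z2_v8 (u : F) {b : G} (hb : b ∈ V 8) : i (S.e 1 0 u) * b * (i (S.e 1 0 u))⁻¹ * b⁻¹ ∈ V 4 ⊔ V 5 ⊔ V 6 := by
  have := P.finF
  by_cases hu : u = 0
  · subst hu
    rw [S.e_zero, map_one, one_mul, inv_one, mul_one, mul_inv_cancel]
    exact one_mem _
  set z := i (S.e 1 0 u) with hz
  have hzz : z * z = 1 := by
    rw [hz, ← map_mul, S.e_mul_Zc, S.add_self, S.e_zero, map_one]
  have hzi : z⁻¹ = z := inv_eq_of_mul_eq_one_left hzz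
  have hbA : b ∈ V 4 ⊔ V 5 ⊔ V 6 ⊔ V 7 ⊔ V 8 := Subgroup.mem_sup_right hb
  have hc : z * b * z⁻¹ * b⁻¹ ∈ V 4 ⊔ V 5 ⊔ V 6 ⊔ V 7 ⊔ V 8 :=
    mul_mem (x2_A P D E (k := 2) (by norm_num) (by norm_num) (S.mX2 0 u) hbA) (inv_mem hbA)
  set c := z * b * z⁻¹ * b⁻¹ with hcd
  -- the commutator with `t`
  obtain ⟨y, hy, hyb⟩ := E.comm 8 b hb
  have h8 : Zk S 8 = S.Zc 4 := by have := Zk_even S 4; norm_num at this; exact this
  rw [h8] at hy
  obtain ⟨v, rfl⟩ := hy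
  have hI : z * i (S.e 4 0 v) * z⁻¹ * (i (S.e 4 0 v))⁻¹ ∈ S.V5.map i := by
    refine ⟨S.e 1 0 u * S.e 4 0 v * (S.e 1 0 u)⁻¹ * (S.e 4 0 v)⁻¹, ?_, by rw [map_mul, map_mul, map_mul, map_inv, map_inv]⟩
    rw [PairK.r28' S u v]
    have hm : S.e 2 0 (σ u * v) * S.o 2 (u * v) * S.e 3 0 (u * σ v) ∈ S.V5 := S.mem_V5.2 ⟨_, _, _, rfl⟩
    have hmJ := PairK.V5_le_J S hm
    have e1 := PairK.comm_2 S (J_mono (by norm_num) (by norm_num) hmJ) u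
    have e2 := PairK.comm_8 S (J_mono (by norm_num) (by norm_num) hmJ) v
    set m := S.e 2 0 (σ u * v) * S.o 2 (u * v) * S.e 3 0 (u * σ v)
    have e3 : S.e 4 0 v * S.e 1 0 u * m * (S.e 1 0 u)⁻¹ * (S.e 4 0 v)⁻¹ = m := by
      calc S.e 4 0 v * S.e 1 0 u * m * (S.e 1 0 u)⁻¹ * (S.e 4 0 v)⁻¹ =
          S.e 4 0 v * (S.e 1 0 u * m) * (S.e 1 0 u)⁻¹ * (S.e 4 0 v)⁻¹ := by group
        _ = (S.e 4 0 v * m) * (S.e 4 0 v)⁻¹ := by rw [← e1]; group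
        _ = m := by rw [← e2]; group
    rw [e3]
    exact hm
  set d := z * i (S.e 4 0 v) * z⁻¹ * (i (S.e 4 0 v))⁻¹ with hd
  have DI := dbl_I P D E
  have hdI : d ∈ V 4 ⊔ V 5 ⊔ V 6 := DI.le hI
  have hbi : b * i (S.e 4 0 v) = i (S.e 4 0 v) * b := E.ab 8 b hb _ (E.le 8 _ (by rw [h8]; exact ⟨v, rfl⟩))
  have hdb : d * b = b * d := (cm_I P E (by norm_num) (by norm_num) b hb d hdI).symm
  have e1 : tau t c = c * d := by
    have f1 : tau t z = z := tau_i P _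
    have f2 : tau t b = b * i (S.e 4 0 v) := by rw [tau_eq P, hyb]
    rw [hcd, map_mul, map_mul, map_mul, map_inv, map_inv, f1, f2]
    calc z * (b * i (S.e 4 0 v)) * z⁻¹ * (b * i (S.e 4 0 v))⁻¹ =
        z * b * z⁻¹ * (z * i (S.e 4 0 v) * z⁻¹ * (i (S.e 4 0 v))⁻¹) * b⁻¹ := by group
      _ = z * b * z⁻¹ * (d * b) * b⁻¹ * b⁻¹ := by rw [← hd]; group
      _ = z * b * z⁻¹ * b⁻¹ * (b * b * d * b⁻¹ * b⁻¹) := by rw [hdb]; group
      _ = z * b * z⁻¹ * b⁻¹ * d := by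
          have q : b * d * b⁻¹ = d := by rw [← hdb]; group
          have e : b * b * d * b⁻¹ * b⁻¹ = d := by
            calc b * b * d * b⁻¹ * b⁻¹ = b * (b * d * b⁻¹) * b⁻¹ := by group
              _ = d := by rw [q, q]
          rw [e]
  obtain ⟨m, hm, hm1⟩ := DI.exists_fix (tau_tau P) (c := c) (by rw [e1, inv_mul_cancel_left]; exact hdI)
  -- `c m ∈ i (Z_4 X_5 Z_6 X_7 Z_8)`
  have hmA : m ∈ V 4 ⊔ V 5 ⊔ V 6 ⊔ V 7 ⊔ V 8 := Subgroup.mem_sup_left (Subgroup.mem_sup_left hm)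
  obtain ⟨y, hy, hyc⟩ := (dbl_A P D E).fix _ (mul_mem hc hmA) hm1
  obtain ⟨j, hj, s, w, rfl⟩ := mem_48 hy
  have hcz : c * z = z * c := by
    have f1 : c⁻¹ = c := inv_eq_of_mul_eq_one_left ((ea_A P E).2 c hc)
    have f2 : z * c * z⁻¹ = c⁻¹ := by
      rw [hcd, hzi]
      calc z * (z * b * z * b⁻¹) * z = (z * z) * b * z * b⁻¹ * z := by group
        _ = b * z * b⁻¹ * z := by rw [hzz, one_mul]
        _ = b * z⁻¹ * b⁻¹ * z⁻¹ := by rw [hzi]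
        _ = (z * b * z * b⁻¹)⁻¹ := by group
    rw [f1] at f2
    calc c * z = (z * c * z⁻¹) * z := by rw [f2]
      _ = z * c := by group
  have h2 : V 2 = W 1 := by have := E.even 1; norm_num at this; exact this
  have hz2 : z ∈ V 2 := by
    refine E.le 2 _ ?_
    have : Zk S 2 = S.Zc 1 := by have := Zk_even S 1; norm_num at this; exact this
    rw [this]
    exact ⟨u, rfl⟩
  have hmz : m * z = z * m := (cm_I' P E (k := 2) (by norm_num) (by norm_num) z hz2 m hm).symm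
  have hcm : (c * m) * z = z * (c * m) := by
    calc (c * m) * z = c * (m * z) := by group
      _ = (c * z) * m := by rw [hmz]; group
      _ = z * (c * m) := by rw [hcz]; group
  rw [← hyc, hz, ← map_mul, ← map_mul] at hcm
  obtain ⟨rfl, rfl⟩ := PairK.kill78 S hu hj (P.inj hcm)
  rw [S.o_zero, S.e_zero, mul_one, mul_one] at hyc
  have e2 : c = i j * m⁻¹ := by rw [hyc]; group
  rw [e2]
  exact mul_mem (DI.le ⟨j, hj, rfl⟩) (inv_mem hm)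

/-- `[W_2, Z_8] ≤ W_4 W_5 W_6` -/
theorem v2_z8 {a : G} (ha : a ∈ V 2) (v : F) : a * i (S.e 4 0 v) * a⁻¹ * (i (S.e 4 0 v))⁻¹ ∈ V 4 ⊔ V 5 ⊔ V 6 := by
  have h1 : i S.n1 * a * (i S.n1)⁻¹ ∈ V 8 := by have := (E.n1 2 a).1 ha; norm_num at this; exact this
  have h2 : i S.n1 * i (S.e 4 0 v) * (i S.n1)⁻¹ = i (S.e 1 0 v) := by
    have : S.n1 * S.e 4 0 v * S.n1⁻¹ = S.e 1 0 v := S.n1_e 4 0 v
    rw [← map_inv, ← map_mul, ← map_mul, this]
  have h3 := inv_mem (z2_v8 P D E v h1)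
  rw [← mem_map_conj (g := i S.n1), map_n1 P D E]
  have e : i S.n1 * (a * i (S.e 4 0 v) * a⁻¹ * (i (S.e 4 0 v))⁻¹) * (i S.n1)⁻¹ =
      (i (S.e 1 0 v) * (i S.n1 * a * (i S.n1)⁻¹) * (i (S.e 1 0 v))⁻¹ * (i S.n1 * a * (i S.n1)⁻¹)⁻¹)⁻¹ := by
    rw [← h2]; group
  rw [e]
  exact h3

/-- a torus element centralising `X_k`, without fixed points on the other root groups -/
theorem exists_tor (k : ℤ) : ∃ h ∈ S.Tk k, ∀ j, ¬ (8 : ℤ) ∣ j - k → ∀ x ∈ S.XZ j, h * x * h⁻¹ = x → x = 1 := by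
  have := P.finF
  obtain ⟨w, hw⟩ := Fab.exists_unit P
  obtain ⟨h, hT, h1, h2⟩ := TorEx.exists_tt S hw k
  exact ⟨h, Fab.mem_Tk hT (h1 k (by simp)), h2⟩

theorem fpf_V {k : ℤ} {h : Y} (hf : ∀ x ∈ S.XZ k, h * x * h⁻¹ = x → x = 1) {v : G} (hv : v ∈ V k)
    (e : i h * v * (i h)⁻¹ = v) : v = 1 := by
  have key : ∀ z ∈ Zk S k, i h * i z * (i h)⁻¹ = i z → z = 1 := by
    intro z hz h1
    refine hf z (Zk_le S k hz) (P.inj ?_)
    rw [map_mul, map_mul, map_inv, h1]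
  obtain ⟨z, hz, h1⟩ := E.comm k v hv
  have h2 := Fab.t_conj P h v
  rw [e, h1] at h2
  have h3 : v * i z = v * (i h * i z * (i h)⁻¹) := by
    calc v * i z = i h * (v * i z) * (i h)⁻¹ := h2
      _ = (i h * v * (i h)⁻¹) * (i h * i z * (i h)⁻¹) := by group
      _ = _ := by rw [e]
  have hz1 := key z hz (mul_left_cancel h3).symm
  subst hz1
  rw [map_one, mul_one] at h1
  obtain ⟨z', hz', h4⟩ := E.fix k v hv h1
  rw [h4] at e
  rw [h4, key z' hz' e, map_one]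

theorem surj_V {k : ℤ} {h : Y} (hT : h ∈ S.T) (hf : ∀ x ∈ S.XZ k, h * x * h⁻¹ = x → x = 1) :
    ∀ b ∈ V k, ∃ b0 ∈ V k, i h * b0 * (i h)⁻¹ ∈ V k ∧ b = b0⁻¹ * (i h * b0 * (i h)⁻¹) := by
  have := P.finG
  let f : V k → V k := fun b => ⟨(b : G)⁻¹ * (i h * b * (i h)⁻¹), mul_mem (inv_mem b.2) (E.tor k h hT b b.2)⟩
  have hinj : Function.Injective f := by
    rintro ⟨a, ha⟩ ⟨b, hb⟩ hab
    have h1 : a⁻¹ * (i h * a * (i h)⁻¹) = b⁻¹ * (i h * b * (i h)⁻¹) := congrArg Subtype.val hab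
    have h2 := fpf_V P D E hf (v := b * a⁻¹) (mul_mem hb (inv_mem ha)) (by
      calc i h * (b * a⁻¹) * (i h)⁻¹ = b * (b⁻¹ * (i h * b * (i h)⁻¹)) * (i h * a * (i h)⁻¹)⁻¹ := by group
        _ = b * (a⁻¹ * (i h * a * (i h)⁻¹)) * (i h * a * (i h)⁻¹)⁻¹ := by rw [h1]
        _ = b * a⁻¹ := by group)
    exact Subtype.ext (mul_inv_eq_one.1 h2).symm
  intro b hb
  obtain ⟨⟨b0, hb0⟩, hb1⟩ := Finite.surjective_of_injective hinj ⟨b, hb⟩
  exact ⟨b0, hb0, E.tor k h hT b0 hb0, (congrArg Subtype.val hb1).symm⟩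

theorem tor_I {h : Y} (hT : h ∈ S.T) : ∀ x ∈ V 4 ⊔ V 5 ⊔ V 6, i h * x * (i h)⁻¹ ∈ V 4 ⊔ V 5 ⊔ V 6 := by
  intro x hx
  have : V 4 ⊔ V 5 ⊔ V 6 ≤ (V 4 ⊔ V 5 ⊔ V 6).comap (MulAut.conj (i h)).toMonoidHom :=
    sup_le (sup_le (fun v hv => Subgroup.mem_sup_left (Subgroup.mem_sup_left (E.tor 4 h hT v hv)))
      (fun v hv => Subgroup.mem_sup_left (Subgroup.mem_sup_right (E.tor 5 h hT v hv))))
      (fun v hv => Subgroup.mem_sup_right (E.tor 6 h hT v hv))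
  exact this hx

theorem W_X {k a : ℤ} (h1 : 2 * a - 4 ≤ k) (h2 : k ≤ 2 * a + 4) {x : Y} (hx : x ∈ S.XZ k) {w : G} (hw : w ∈ W a) :
    i x * w = w * i x := (Fab.W_J P D hw (mem_J hx h1 h2)).symm

/-- `X_4`, `X_6` commute with `V 4 V 5 V 6` -/
theorem x46_I {x : Y} (hx : x ∈ S.XZ 4 ∨ x ∈ S.XZ 6) : ∀ a ∈ V 4 ⊔ V 5 ⊔ V 6, i x * a = a * i x := by
  have key : ∀ k : ℤ, 4 ≤ k → k ≤ 6 → ∀ a ∈ V k, i x * a = a * i x := by
    intro k h1 h2 a ha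
    rcases hx with hx | hx
    · exact (E.x4 k (by omega) h2 a ha x hx).symm
    · have e1 := (E.rot (-1) k a).1 ha
      have e2 := S.rotk_X' (-1) 6 hx
      norm_num at e2
      have h := E.x4 _ (by omega) (by omega) _ e1 _ e2
      rw [map_mul, map_mul, map_inv] at h
      set g := i (S.rot ^ (-1 : ℤ)) with hg
      have hg' : i (S.rot⁻¹) = g := by rw [hg, zpow_neg, zpow_one]
      rw [show i S.rot = g⁻¹ by rw [← hg', map_inv, inv_inv]] at h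
      calc i x * a = g⁻¹ * ((g * i x * g⁻¹) * (g * a * g⁻¹)) * g := by group
        _ = g⁻¹ * ((g * a * g⁻¹) * (g * i x * g⁻¹)) * g := by
            have h' : (g * a * g⁻¹) * (g * i x * g⁻¹) = (g * i x * g⁻¹) * (g * a * g⁻¹) := by
              calc (g * a * g⁻¹) * (g * i x * g⁻¹) = _ := by simpa [hg', mul_assoc] using h
                _ = _ := rfl
            rw [h']
        _ = a * i x := by group
  have hle : V 4 ⊔ V 5 ⊔ V 6 ≤ Subgroup.centralizer {i x} :=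
    sup_le (sup_le (fun a ha => Subgroup.mem_centralizer_singleton_iff.2 (key 4 (by norm_num) (by norm_num) a ha).symm)
      (fun a ha => Subgroup.mem_centralizer_singleton_iff.2 (key 5 (by norm_num) (by norm_num) a ha).symm))
      (fun a ha => Subgroup.mem_centralizer_singleton_iff.2 (key 6 (by norm_num) (by norm_num) a ha).symm)
  intro a ha
  exact (Subgroup.mem_centralizer_singleton_iff.1 (hle ha)).symm

/-- the situation of `PairAbs` -/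
theorem hyp : PairAbs.Hyp t (V 2) (V 8) ((S.Zc 1).map i) ((S.Zc 4).map i) (V 4 ⊔ V 5 ⊔ V 6)
    {x | ∃ y : Y, (y ∈ S.XZ 4 ∨ y ∈ S.XZ 6) ∧ i y = x} := by
  have := P.finF
  have z1 : Zk S 2 = S.Zc 1 := by have := Zk_even S 1; norm_num at this; exact this
  have z8 : Zk S 8 = S.Zc 4 := by have := Zk_even S 4; norm_num at this; exact this
  have w2 : V 2 = W 1 := by have := E.even 1; norm_num at this; exact this
  have w8 : V 8 = W 4 := by have := E.even 4; norm_num at this; exact this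
  have w4 : V 4 = W 2 := by have := E.even 2; norm_num at this; exact this
  have DI := dbl_I P D E
  refine ⟨P.tt, (ea_I P E).1, cm_I' P E (by norm_num) (by norm_num), cm_I P E (by norm_num) (by norm_num), ?_, ?_,
    E.ab 2, E.ab 8, ?_, ?_, fun x hx => DI.inv x hx, (ea_I P E).2, ?_, ?_, ?_, ?_, ?_, ?_, ?_, ?_⟩
  · rintro _ ⟨z, hz, rfl⟩; exact E.le 2 z (by rw [z1]; exact hz)
  · rintro _ ⟨z, hz, rfl⟩; exact E.le 8 z (by rw [z8]; exact hz)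
  · intro a ha
    obtain ⟨y, hy, h⟩ := E.comm 2 a ha
    rw [z1] at hy
    exact ⟨i y, ⟨y, hy, rfl⟩, by rw [P.t_inv]; exact h⟩
  · intro a ha
    obtain ⟨y, hy, h⟩ := E.comm 8 a ha
    rw [z8] at hy
    exact ⟨i y, ⟨y, hy, rfl⟩, by rw [P.t_inv]; exact h⟩
  · -- Ifix
    intro x hx h
    have h1 : tau t x = x := h
    have h2 : x * tau t x = 1 := by rw [h1]; exact (ea_I P E).2 x hx
    obtain ⟨m, hm, hm1⟩ := DI.free x hx h2
    refine ⟨m, hm, ?_⟩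
    show tau t m = m * x
    have e1 := (ea_I P E).2 _ (DI.inv m hm)
    have e2 := (ea_I P E).2 m hm
    have e3 : (tau t m)⁻¹ = tau t m := inv_eq_of_mul_eq_one_left e1
    rw [hm1, e3, ← mul_assoc, e2, one_mul]
  · rintro _ ⟨_, ⟨u, rfl⟩, rfl⟩ b hb
    exact z2_v8 P D E u hb
  · rintro a ha _ ⟨_, ⟨v, rfl⟩, rfl⟩
    exact v2_z8 P D E ha v
  · rintro _ ⟨y, hy | hy, rfl⟩ a ha
    · rw [w2] at ha
      exact W_X P D E (by norm_num) (by norm_num) hy ha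
    · rw [w2] at ha
      exact W_X P D E (by norm_num) (by norm_num) hy ha
  · rintro _ ⟨y, hy | hy, rfl⟩ a ha
    · rw [w8] at ha
      exact W_X P D E (by norm_num) (by norm_num) hy ha
    · rw [w8] at ha
      exact W_X P D E (by norm_num) (by norm_num) hy ha
  · rintro _ ⟨y, hy, rfl⟩ a ha
    exact x46_I P D E hy a ha
  · -- hk
    intro k hkt hkI hkX
    obtain ⟨y, hy, hky⟩ := P.lift (A := (S.V5 : Set Y)) (a := 2) (fun z hz => by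
      obtain ⟨u, rfl⟩ := hz
      have : S.e ((2 : ℤ) : ZMod 8) 0 u = S.e 2 0 u := by norm_num
      rw [this]
      exact S.mem_V5.2 ⟨u, 0, 0, by rw [S.o_zero, S.e_zero, mul_one, mul_one]⟩) hkt
      (fun z hz => hkI _ (DI.le ⟨z, hz, rfl⟩))
    rw [S.centralizer_V5] at hy
    have hyJ : y ∈ J S.XZ 0 8 := J_mono (by norm_num) (by norm_num) hy.1
    have hk1 : k = i y := by
      rcases hky with h | h
      · exact h
      · exfalso
        obtain ⟨w, hw, hw1⟩ := Fab.exists_W2 P D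
        apply hw1
        have h4 : w * i y = i y * w := Fab.W2_J P D hw hyJ
        have h5 := hkI w (by rw [w4]; exact Subgroup.mem_sup_left (Subgroup.mem_sup_left hw))
        rw [h] at h5
        have h6 : (t * w) * i y = (w * t) * i y := by
          calc (t * w) * i y = t * (w * i y) := by group
            _ = (t * i y) * w := by rw [h4]; group
            _ = w * (t * i y) := h5
            _ = (w * t) * i y := by group
        exact mul_right_cancel h6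
    subst hk1
    have c4 : ∀ x ∈ S.XZ 4, y * x = x * y := fun x hx => P.inj (by
      rw [map_mul, map_mul]; exact (hkX _ ⟨x, Or.inl hx, rfl⟩).symm)
    have c6 : ∀ x ∈ S.XZ 6, y * x = x * y := fun x hx => P.inj (by
      rw [map_mul, map_mul]; exact (hkX _ ⟨x, Or.inr hx, rfl⟩).symm)
    obtain ⟨u, v, j, hj, rfl⟩ := PairK.form_NO S P.big hy c4 c6
    exact ⟨_, ⟨_, ⟨u, rfl⟩, rfl⟩, _, ⟨_, ⟨v, rfl⟩, rfl⟩, i j, DI.le ⟨j, hj, rfl⟩, by rw [map_mul, map_mul]⟩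
  · -- uniq
    rintro _ ⟨_, ⟨u, rfl⟩, rfl⟩ _ ⟨_, ⟨v, rfl⟩, rfl⟩ h
    rw [← map_mul] at h
    obtain ⟨j, hj, h1⟩ := DI.fix _ h (tau_i P _)
    have h2 := P.inj h1
    rw [h2] at hj
    rw [PairK.uniq S hj, S.e_zero, map_one]
    exact one_mem _

/-- **`[W_2, W_8] ≤ W_4 W_5 W_6`** -/
theorem w28 : Cl (V 2) (V 8) (V 4 ⊔ V 5 ⊔ V 6) := by
  intro a ha b hb
  obtain ⟨h2, hh2, hf2⟩ := exists_tor P D E 2
  obtain ⟨h8, hh8, hf8⟩ := exists_tor P D E 8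
  have T2 := S.Tk_le 2 hh2
  have T8 := S.Tk_le 8 hh8
  refine PairAbs.comm_mem (hyp P D E) (h2 := i h2) (h8 := i h8) (fun a ha => (E.torc 2 h2 hh2 a ha))
    (surj_V P D E T2 (hf2 8 (by norm_num))) ?_ (tor_I P D E T2) (fun a ha => (E.torc 8 h8 hh8 a ha))
    (surj_V P D E T8 (hf8 2 (by norm_num))) ?_ (tor_I P D E T8) ha hb
  · rintro _ ⟨z, hz, rfl⟩
    exact ⟨_, S.T_conj_Zc T2 hz, by rw [map_mul, map_mul, map_inv]⟩
  · rintro _ ⟨z, hz, rfl⟩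
    exact ⟨_, S.T_conj_Zc T8 hz, by rw [map_mul, map_mul, map_inv]⟩

/-! ### the triangle relation -/

/-- **(g5)**, standard position -/
theorem tri18 {g : Y} (hg : g ∈ S.XZ 1) (hg1 : g ≠ 1) :
    ∃ h ∈ S.XZ 9, ∀ w, w ∈ V 8 ↔ (i h)⁻¹ * (i g * w * (i g)⁻¹) * i h ∈ V 2 := by
  have := P.finF
  obtain ⟨s, rfl⟩ := S.X1 hg
  have hs : s ≠ 0 := fun h => hg1 (by rw [h, S.o_zero])
  set τ := S.h (Units.mk0 s hs) 1 with hτ
  have hτT : τ ∈ S.T := S.mem_T.2 ⟨_, _, rfl⟩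
  have e0 : τ * S.o 0 1 * τ⁻¹ = S.o 0 s := by
    rw [hτ, S.h_o]
    have : (chO σ 0 (Units.mk0 s hs) 1 : F) = s := by
      show ((chE σ 0 (Units.mk0 s hs) 1 * chE σ (0 + 1) (Units.mk0 s hs) 1 : Fˣ) : F) = s
      rw [zero_add, chE_zero, chE_one, mul_one, Units.val_mk0]
    rw [this, mul_one]
  obtain ⟨s', e4⟩ : ∃ s', τ * S.o 4 1 * τ⁻¹ = S.o 4 s' := ⟨_, S.h_o _ _ 4 1⟩
  set n := τ * S.n1 * τ⁻¹ with hn
  have hnw : n = S.o 4 s' * S.o 0 s * S.o 4 s' := by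
    rw [hn, Inv.n1_word' S, ← e0, ← e4]; group
  have hh : S.o 4 s' * S.o 4 s' = 1 := by rw [S.o_add, S.add_self, S.o_zero]
  have hhi : (S.o 4 s')⁻¹ = S.o 4 s' := inv_eq_of_mul_eq_one_left hh
  have hgn : S.o 0 s = S.o 4 s' * n * S.o 4 s' := by
    rw [hnw]
    calc S.o 0 s = (S.o 4 s' * S.o 4 s') * S.o 0 s * (S.o 4 s' * S.o 4 s') := by rw [hh, one_mul, mul_one]
      _ = _ := by group
  -- `n` moves `V k` to `V (10 - k)`
  have hT : ∀ k : ℤ, ∀ h ∈ S.T, ∀ v, v ∈ V k ↔ i h * v * (i h)⁻¹ ∈ V k := by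
    intro k h hh v
    refine ⟨E.tor k h hh v, fun hv => ?_⟩
    have := E.tor k h⁻¹ (inv_mem hh) _ hv
    rw [map_inv] at this
    have e : (i h)⁻¹ * (i h * v * (i h)⁻¹) * (i h)⁻¹⁻¹ = v := by group
    rwa [e] at this
  have hV : ∀ v, v ∈ V 8 ↔ i n * v * (i n)⁻¹ ∈ V 2 := by
    intro v
    have a1 := hT 8 τ⁻¹ (inv_mem hτT) v
    have a2 := E.n1 8 (i τ⁻¹ * v * (i τ⁻¹)⁻¹)
    have a3 := hT 2 τ hτT (i S.n1 * (i τ⁻¹ * v * (i τ⁻¹)⁻¹) * (i S.n1)⁻¹)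
    have e5 : i τ * (i S.n1 * (i τ⁻¹ * v * (i τ⁻¹)⁻¹) * (i S.n1)⁻¹) * (i τ)⁻¹ = i n * v * (i n)⁻¹ := by
      rw [hn, map_mul, map_mul, map_inv]; group
    rw [e5] at a3
    norm_num at a2
    rw [a1]
    simp only [map_inv, inv_inv] at a2 a3 ⊢
    rw [a2, a3]
  refine ⟨S.o 4 s', S.mX9 s', fun w => ?_⟩
  have w8 : V 8 = W 4 := by have := E.even 4; norm_num at this; exact this
  -- `h` centralises `V 8`
  have hc : ∀ w ∈ V 8, i (S.o 4 s') * w * (i (S.o 4 s'))⁻¹ = w := by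
    intro w hw
    rw [w8] at hw
    rw [W_X P D E (k := 9) (by norm_num) (by norm_num) (S.mX9 s') hw]
    group
  have hcc : ∀ w, w ∈ V 8 ↔ i (S.o 4 s') * w * (i (S.o 4 s'))⁻¹ ∈ V 8 := by
    intro w
    refine ⟨fun hw => by rw [hc w hw]; exact hw, fun hw => ?_⟩
    have h1 := hc _ hw
    have h2 : i (S.o 4 s') * w * (i (S.o 4 s'))⁻¹ = w := mul_left_cancel (mul_right_cancel h1)
    rwa [h2] at hw
  rw [hcc w, hV]
  have e6 : (i (S.o 4 s'))⁻¹ * (i (S.o 0 s) * w * (i (S.o 0 s))⁻¹) * i (S.o 4 s') =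
      i n * (i (S.o 4 s') * w * (i (S.o 4 s'))⁻¹) * (i n)⁻¹ := by
    rw [hgn, map_mul, map_mul]
    group
  rw [e6]

/-! ### all frames -/

/-- conjugation by `rot ^ m` -/
theorem mem_rot (m k : ℤ) (v : G) : i (S.rot ^ m) * v * (i (S.rot ^ m))⁻¹ ∈ V (k + 2 * m) ↔ v ∈ V k := (E.rot m k v).symm

theorem map_rot' (m k : ℤ) : (V k).map (MulAut.conj (i (S.rot ^ m))).toMonoidHom = V (k + 2 * m) :=
  map_eq_of fun v => E.rot m k v

/-- the commutator, both orientations, shifted -/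
theorem w28_shift (m : ℤ) : Cl (V (2 + 2 * m)) (V (8 + 2 * m)) (V (4 + 2 * m) ⊔ V (5 + 2 * m) ⊔ V (6 + 2 * m)) := by
  intro a ha b hb
  rw [← map_rot' P D E m] at ha hb
  obtain ⟨a, ha, rfl⟩ := ha
  obtain ⟨b, hb, rfl⟩ := hb
  have h := w28 P D E a ha b hb
  rw [← map_rot' P D E m, ← map_rot' P D E m, ← map_rot' P D E m, ← Subgroup.map_sup, ← Subgroup.map_sup]
  refine ⟨_, h, ?_⟩
  rw [map_mul, map_mul, map_mul, map_inv, map_inv]

/-- **(g4)**, all frames (the field `w24` of `Growth.Defs.Base`) -/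
theorem w24 (c e : ℤ) (he : e = 1 ∨ e = -1) : Cl (V (2 * c + e * (-2))) (V (2 * c + e * 4)) (EK fun k => V (2 * c + e * k)) := by
  unfold EK
  rcases he with rfl | rfl
  · have h := w28_shift P D E (c - 2)
    have a2 : 2 + 2 * (c - 2) = 2 * c + 1 * (-2) := by ring
    have a8 : 8 + 2 * (c - 2) = 2 * c + 1 * 4 := by ring
    have a4 : 4 + 2 * (c - 2) = 2 * c + 1 * 0 := by ring
    have a5 : 5 + 2 * (c - 2) = 2 * c + 1 * 1 := by ring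
    have a6 : 6 + 2 * (c - 2) = 2 * c + 1 * 2 := by ring
    rw [a2, a8, a4, a5, a6] at h
    exact h
  · have h := (w28_shift P D E (c - 3)).symm
    have a2 : 2 + 2 * (c - 3) = 2 * c + -1 * 4 := by ring
    have a8 : 8 + 2 * (c - 3) = 2 * c + -1 * (-2) := by ring
    have a4 : 4 + 2 * (c - 3) = 2 * c + -1 * 2 := by ring
    have a5 : 5 + 2 * (c - 3) = 2 * c + -1 * 1 := by ring
    have a6 : 6 + 2 * (c - 3) = 2 * c + -1 * 0 := by ring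
    rw [a2, a8, a4, a5, a6, sup_comm (V (2 * c + -1 * 2)), sup_assoc, sup_comm (V (2 * c + -1 * 2)), ← sup_assoc,
      sup_comm (V (2 * c + -1 * 1))] at h
    exact h

/-- the triangle relation, shifted -/
theorem tri_shift (m : ℤ) {g : Y} (hg : g ∈ S.XZ (1 + 2 * m)) (hg1 : g ≠ 1) :
    ∃ h ∈ S.XZ (9 + 2 * m), ∀ w, w ∈ V (8 + 2 * m) ↔ (i h)⁻¹ * (i g * w * (i g)⁻¹) * i h ∈ V (2 + 2 * m) := by
  have hg' : (S.rot ^ m)⁻¹ * g * S.rot ^ m ∈ S.XZ 1 := by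
    have := S.rotk_X m 1 (x := (S.rot ^ m)⁻¹ * g * S.rot ^ m)
    have e : S.rot ^ m * ((S.rot ^ m)⁻¹ * g * S.rot ^ m) * (S.rot ^ m)⁻¹ = g := by group
    rw [e] at this
    exact this.1 hg
  have hg2 : (S.rot ^ m)⁻¹ * g * S.rot ^ m ≠ 1 := by
    intro h
    apply hg1
    calc g = S.rot ^ m * ((S.rot ^ m)⁻¹ * g * S.rot ^ m) * (S.rot ^ m)⁻¹ := by group
      _ = 1 := by rw [h]; group
  obtain ⟨h, hh, hw⟩ := tri18 P D E hg' hg2
  refine ⟨S.rot ^ m * h * (S.rot ^ m)⁻¹, S.rotk_X' m 9 hh, fun w => ?_⟩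
  have e1 : w = i (S.rot ^ m) * ((i (S.rot ^ m))⁻¹ * w * i (S.rot ^ m)) * (i (S.rot ^ m))⁻¹ := by group
  have e2 := mem_rot P D E m 8 ((i (S.rot ^ m))⁻¹ * w * i (S.rot ^ m))
  rw [← e1] at e2
  rw [e2, hw, ← mem_rot P D E m 2]
  have e3 : i (S.rot ^ m) * ((i h)⁻¹ * (i ((S.rot ^ m)⁻¹ * g * S.rot ^ m) * ((i (S.rot ^ m))⁻¹ * w * i (S.rot ^ m)) *
      (i ((S.rot ^ m)⁻¹ * g * S.rot ^ m))⁻¹) * i h) * (i (S.rot ^ m))⁻¹ =
      (i (S.rot ^ m * h * (S.rot ^ m)⁻¹))⁻¹ * (i g * w * (i g)⁻¹) * i (S.rot ^ m * h * (S.rot ^ m)⁻¹) := by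
    simp only [map_mul, map_inv]; group
  rw [e3]

/-- the mirror image -/
theorem tri_shift' (m : ℤ) {g : Y} (hg : g ∈ S.XZ (9 + 2 * m)) (hg1 : g ≠ 1) :
    ∃ h ∈ S.XZ (1 + 2 * m), ∀ w, w ∈ V (2 + 2 * m) ↔ (i h)⁻¹ * (i g * w * (i g)⁻¹) * i h ∈ V (8 + 2 * m) := by
  have k1 : (10 : ℤ) - (9 + 2 * m) = 1 + 2 * (-m) := by ring
  have k2 : (10 : ℤ) - (2 + 2 * m) = 8 + 2 * (-m) := by ring
  have k3 : (10 : ℤ) - (8 + 2 * m) = 2 + 2 * (-m) := by ring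
  have hg' : S.n1 * g * S.n1⁻¹ ∈ S.XZ (1 + 2 * (-m)) := by rw [← k1]; exact S.n1_refl.mem hg
  have hg2 : S.n1 * g * S.n1⁻¹ ≠ 1 := by
    intro h
    apply hg1
    calc g = S.n1⁻¹ * (S.n1 * g * S.n1⁻¹) * S.n1 := by group
      _ = 1 := by rw [h]; group
  obtain ⟨h, hh, hw⟩ := tri_shift P D E (-m) hg' hg2
  refine ⟨S.n1⁻¹ * h * S.n1, S.n1_refl.mem_inv hh (by ring), fun w => ?_⟩
  have e1 := E.n1 (2 + 2 * m) w
  rw [k2] at e1
  have e2 := E.n1 (8 + 2 * m) ((i (S.n1⁻¹ * h * S.n1))⁻¹ * (i g * w * (i g)⁻¹) * i (S.n1⁻¹ * h * S.n1))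
  rw [k3] at e2
  rw [e1, e2, hw]
  have e3 : (i h)⁻¹ * (i (S.n1 * g * S.n1⁻¹) * (i S.n1 * w * (i S.n1)⁻¹) * (i (S.n1 * g * S.n1⁻¹))⁻¹) * i h =
      i S.n1 * ((i (S.n1⁻¹ * h * S.n1))⁻¹ * (i g * w * (i g)⁻¹) * i (S.n1⁻¹ * h * S.n1)) * (i S.n1)⁻¹ := by
    simp only [map_mul, map_inv]; group
  rw [e3]

/-- **(g5)**, all frames (the field `tri` of `Growth.Defs.Base`) -/
theorem tri (c e : ℤ) (he : e = 1 ∨ e = -1) : ∀ g ∈ (S.XZ (2 * c + e * (-3))).map i, g ≠ 1 →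
    ∃ h ∈ (S.XZ (2 * c + e * 5)).map i, ∀ w, w ∈ V (2 * c + e * 4) ↔ h⁻¹ * (g * w * g⁻¹) * h ∈ V (2 * c + e * (-2)) := by
  rintro _ ⟨g, hg, rfl⟩ hg1
  have hg2 : g ≠ 1 := fun h => hg1 (by rw [h, map_one])
  rcases he with rfl | rfl
  · have a1 : 2 * c + 1 * (-3) = 1 + 2 * (c - 2) := by ring
    have a9 : 2 * c + 1 * 5 = 9 + 2 * (c - 2) := by ring
    have a8 : 2 * c + 1 * 4 = 8 + 2 * (c - 2) := by ring
    have a2 : 2 * c + 1 * (-2) = 2 + 2 * (c - 2) := by ring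
    rw [a1] at hg
    obtain ⟨h, hh, hw⟩ := tri_shift P D E (c - 2) hg hg2
    rw [a9, a8, a2]
    exact ⟨i h, ⟨h, hh, rfl⟩, hw⟩
  · have a1 : 2 * c + -1 * (-3) = 9 + 2 * (c - 3) := by ring
    have a9 : 2 * c + -1 * 5 = 1 + 2 * (c - 3) := by ring
    have a8 : 2 * c + -1 * 4 = 2 + 2 * (c - 3) := by ring
    have a2 : 2 * c + -1 * (-2) = 8 + 2 * (c - 3) := by ring
    rw [a1] at hg
    obtain ⟨h, hh, hw⟩ := tri_shift' P D E (c - 3) hg hg2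
    rw [a9, a8, a2]
    exact ⟨i h, ⟨h, hh, rfl⟩, hw⟩

end main

end Cfsg.Agent.OddHalf.D7TwF4.Pair
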